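import Cfsg.Agent.H7.ONE7.T

set_option autoImplicit false
set_option linter.unusedVariables false
set_option maxRecDepth 100000
set_option Elab.async false

namespace CfsgH7.ON.E7

theorem c0 : TC.rowsOk T 592 8 RT 36 41 188818 7 0 83 = true := by decide +kernel
theorem c83 : TC.rowsOk T 592 8 RT 36 41 188818 7 83 81 = true := by decide +kernel
theorem c164 : TC.rowsOk T 592 8 RT 36 41 188818 7 164 78 = true := by decide +kernel
theorem c242 : TC.rowsOk T 592 8 RT 36 41 188818 7 242 80 = true := by decide +kernel
theorem c322 : TC.rowsOk T 592 8 RT 36 41 188818 7 322 84 = true := by decide +kernel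
theorem c406 : TC.rowsOk T 592 8 RT 36 41 188818 7 406 75 = true := by decide +kernel
theorem c481 : TC.rowsOk T 592 8 RT 36 41 188818 7 481 77 = true := by decide +kernel
theorem c558 : TC.rowsOk T 592 8 RT 36 41 188818 7 558 78 = true := by decide +kernel
theorem c636 : TC.rowsOk T 592 8 RT 36 41 188818 7 636 85 = true := by decide +kernel
theorem c721 : TC.rowsOk T 592 8 RT 36 41 188818 7 721 82 = true := by decide +kernel

end CfsgH7.ON.E7
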