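import Cfsg.Agent.H7.ONE7.T

set_option autoImplicit false
set_option linter.unusedVariables false
set_option maxRecDepth 100000
set_option Elab.async false

namespace CfsgH7.ON.E7

theorem c803 : TC.rowsOk T 592 8 RT 36 41 188818 7 803 86 = true := by decide +kernel
theorem c889 : TC.rowsOk T 592 8 RT 36 41 188818 7 889 73 = true := by decide +kernel
theorem c962 : TC.rowsOk T 592 8 RT 36 41 188818 7 962 77 = true := by decide +kernel
theorem c1039 : TC.rowsOk T 592 8 RT 36 41 188818 7 1039 76 = true := by decide +kernel
theorem c1115 : TC.rowsOk T 592 8 RT 36 41 188818 7 1115 80 = true := by decide +kernel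
theorem c1195 : TC.rowsOk T 592 8 RT 36 41 188818 7 1195 79 = true := by decide +kernel
theorem c1274 : TC.rowsOk T 592 8 RT 36 41 188818 7 1274 77 = true := by decide +kernel
theorem c1351 : TC.rowsOk T 592 8 RT 36 41 188818 7 1351 79 = true := by decide +kernel
theorem c1430 : TC.rowsOk T 592 8 RT 36 41 188818 7 1430 76 = true := by decide +kernel
theorem c1506 : TC.rowsOk T 592 8 RT 36 41 188818 7 1506 82 = true := by decide +kernel

end CfsgH7.ON.E7
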