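import Cfsg.Agent.H7.ONE7.T

set_option autoImplicit false
set_option linter.unusedVariables false
set_option maxRecDepth 100000
set_option Elab.async false

namespace CfsgH7.ON.E7

theorem c1588 : TC.rowsOk T 592 8 RT 36 41 188818 7 1588 76 = true := by decide +kernel
theorem c1664 : TC.rowsOk T 592 8 RT 36 41 188818 7 1664 79 = true := by decide +kernel
theorem c1743 : TC.rowsOk T 592 8 RT 36 41 188818 7 1743 80 = true := by decide +kernel
theorem c1823 : TC.rowsOk T 592 8 RT 36 41 188818 7 1823 77 = true := by decide +kernel
theorem c1900 : TC.rowsOk T 592 8 RT 36 41 188818 7 1900 74 = true := by decide +kernel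
theorem c1974 : TC.rowsOk T 592 8 RT 36 41 188818 7 1974 79 = true := by decide +kernel
theorem c2053 : TC.rowsOk T 592 8 RT 36 41 188818 7 2053 79 = true := by decide +kernel
theorem c2132 : TC.rowsOk T 592 8 RT 36 41 188818 7 2132 75 = true := by decide +kernel
theorem c2207 : TC.rowsOk T 592 8 RT 36 41 188818 7 2207 80 = true := by decide +kernel
theorem c2287 : TC.rowsOk T 592 8 RT 36 41 188818 7 2287 69 = true := by decide +kernel

end CfsgH7.ON.E7
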