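import Cfsg.Agent.H7.ONE7.T

set_option autoImplicit false
set_option linter.unusedVariables false
set_option maxRecDepth 100000
set_option Elab.async false

namespace CfsgH7.ON.E7

theorem c2356 : TC.rowsOk T 592 8 RT 36 41 188818 7 2356 57 = true := by decide +kernel
theorem c2413 : TC.rowsOk T 592 8 RT 36 41 188818 7 2413 56 = true := by decide +kernel
theorem c2469 : TC.rowsOk T 592 8 RT 36 41 188818 7 2469 56 = true := by decide +kernel
theorem c2525 : TC.rowsOk T 592 8 RT 36 41 188818 7 2525 54 = true := by decide +kernel
theorem c2579 : TC.rowsOk T 592 8 RT 36 41 188818 7 2579 56 = true := by decide +kernel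
theorem c2635 : TC.rowsOk T 592 8 RT 36 41 188818 7 2635 55 = true := by decide +kernel
theorem c2690 : TC.rowsOk T 592 8 RT 36 41 188818 7 2690 54 = true := by decide +kernel
theorem c2744 : TC.rowsOk T 592 8 RT 36 41 188818 7 2744 50 = true := by decide +kernel
theorem c2794 : TC.rowsOk T 592 8 RT 36 41 188818 7 2794 51 = true := by decide +kernel
theorem c2845 : TC.rowsOk T 592 8 RT 36 41 188818 7 2845 47 = true := by decide +kernel

end CfsgH7.ON.E7
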