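import Cfsg.Agent.H7.ONE7.T

set_option autoImplicit false
set_option linter.unusedVariables false
set_option maxRecDepth 100000
set_option Elab.async false

namespace CfsgH7.ON.E7

theorem c2892 : TC.rowsOk T 592 8 RT 36 41 188818 7 2892 47 = true := by decide +kernel
theorem c2939 : TC.rowsOk T 592 8 RT 36 41 188818 7 2939 12 = true := by decide +kernel
theorem n0 : TC.cntLive T 592 8 188818 0 1500 = 59811 := by decide +kernel
theorem n1500 : TC.cntLive T 592 8 188818 1500 1451 = 62949 := by decide +kernel

end CfsgH7.ON.E7
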