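import Cfsg.Agent.H7.ON.A
import Cfsg.Agent.H7.ONE7.C0
import Cfsg.Agent.H7.ONE7.C1
import Cfsg.Agent.H7.ONE7.C2
import Cfsg.Agent.H7.ONE7.C3
import Cfsg.Agent.H7.ONE7.C4

set_option autoImplicit false
set_option linter.unusedVariables false
set_option maxRecDepth 100000
set_option Elab.async false

namespace CfsgH7.ON.E7

theorem a83 : ∀ c < 188818, c < 64 * 83 → TC.rowOk T 592 8 RT 36 41 188818 7 c = true :=
  TC.rows_step TC.rows_zero c0 rfl
theorem a164 : ∀ c < 188818, c < 64 * 164 → TC.rowOk T 592 8 RT 36 41 188818 7 c = true :=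
  TC.rows_step a83 c83 rfl
theorem a242 : ∀ c < 188818, c < 64 * 242 → TC.rowOk T 592 8 RT 36 41 188818 7 c = true :=
  TC.rows_step a164 c164 rfl
theorem a322 : ∀ c < 188818, c < 64 * 322 → TC.rowOk T 592 8 RT 36 41 188818 7 c = true :=
  TC.rows_step a242 c242 rfl
theorem a406 : ∀ c < 188818, c < 64 * 406 → TC.rowOk T 592 8 RT 36 41 188818 7 c = true :=
  TC.rows_step a322 c322 rfl
theorem a481 : ∀ c < 188818, c < 64 * 481 → TC.rowOk T 592 8 RT 36 41 188818 7 c = true :=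
  TC.rows_step a406 c406 rfl
theorem a558 : ∀ c < 188818, c < 64 * 558 → TC.rowOk T 592 8 RT 36 41 188818 7 c = true :=
  TC.rows_step a481 c481 rfl
theorem a636 : ∀ c < 188818, c < 64 * 636 → TC.rowOk T 592 8 RT 36 41 188818 7 c = true :=
  TC.rows_step a558 c558 rfl
theorem a721 : ∀ c < 188818, c < 64 * 721 → TC.rowOk T 592 8 RT 36 41 188818 7 c = true :=
  TC.rows_step a636 c636 rfl
theorem a803 : ∀ c < 188818, c < 64 * 803 → TC.rowOk T 592 8 RT 36 41 188818 7 c = true :=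
  TC.rows_step a721 c721 rfl
theorem a889 : ∀ c < 188818, c < 64 * 889 → TC.rowOk T 592 8 RT 36 41 188818 7 c = true :=
  TC.rows_step a803 c803 rfl
theorem a962 : ∀ c < 188818, c < 64 * 962 → TC.rowOk T 592 8 RT 36 41 188818 7 c = true :=
  TC.rows_step a889 c889 rfl
theorem a1039 : ∀ c < 188818, c < 64 * 1039 → TC.rowOk T 592 8 RT 36 41 188818 7 c = true :=
  TC.rows_step a962 c962 rfl
theorem a1115 : ∀ c < 188818, c < 64 * 1115 → TC.rowOk T 592 8 RT 36 41 188818 7 c = true :=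
  TC.rows_step a1039 c1039 rfl
theorem a1195 : ∀ c < 188818, c < 64 * 1195 → TC.rowOk T 592 8 RT 36 41 188818 7 c = true :=
  TC.rows_step a1115 c1115 rfl
theorem a1274 : ∀ c < 188818, c < 64 * 1274 → TC.rowOk T 592 8 RT 36 41 188818 7 c = true :=
  TC.rows_step a1195 c1195 rfl
theorem a1351 : ∀ c < 188818, c < 64 * 1351 → TC.rowOk T 592 8 RT 36 41 188818 7 c = true :=
  TC.rows_step a1274 c1274 rfl
theorem a1430 : ∀ c < 188818, c < 64 * 1430 → TC.rowOk T 592 8 RT 36 41 188818 7 c = true :=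
  TC.rows_step a1351 c1351 rfl
theorem a1506 : ∀ c < 188818, c < 64 * 1506 → TC.rowOk T 592 8 RT 36 41 188818 7 c = true :=
  TC.rows_step a1430 c1430 rfl
theorem a1588 : ∀ c < 188818, c < 64 * 1588 → TC.rowOk T 592 8 RT 36 41 188818 7 c = true :=
  TC.rows_step a1506 c1506 rfl
theorem a1664 : ∀ c < 188818, c < 64 * 1664 → TC.rowOk T 592 8 RT 36 41 188818 7 c = true :=
  TC.rows_step a1588 c1588 rfl
theorem a1743 : ∀ c < 188818, c < 64 * 1743 → TC.rowOk T 592 8 RT 36 41 188818 7 c = true :=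
  TC.rows_step a1664 c1664 rfl
theorem a1823 : ∀ c < 188818, c < 64 * 1823 → TC.rowOk T 592 8 RT 36 41 188818 7 c = true :=
  TC.rows_step a1743 c1743 rfl
theorem a1900 : ∀ c < 188818, c < 64 * 1900 → TC.rowOk T 592 8 RT 36 41 188818 7 c = true :=
  TC.rows_step a1823 c1823 rfl
theorem a1974 : ∀ c < 188818, c < 64 * 1974 → TC.rowOk T 592 8 RT 36 41 188818 7 c = true :=
  TC.rows_step a1900 c1900 rfl
theorem a2053 : ∀ c < 188818, c < 64 * 2053 → TC.rowOk T 592 8 RT 36 41 188818 7 c = true :=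
  TC.rows_step a1974 c1974 rfl
theorem a2132 : ∀ c < 188818, c < 64 * 2132 → TC.rowOk T 592 8 RT 36 41 188818 7 c = true :=
  TC.rows_step a2053 c2053 rfl
theorem a2207 : ∀ c < 188818, c < 64 * 2207 → TC.rowOk T 592 8 RT 36 41 188818 7 c = true :=
  TC.rows_step a2132 c2132 rfl
theorem a2287 : ∀ c < 188818, c < 64 * 2287 → TC.rowOk T 592 8 RT 36 41 188818 7 c = true :=
  TC.rows_step a2207 c2207 rfl
theorem a2356 : ∀ c < 188818, c < 64 * 2356 → TC.rowOk T 592 8 RT 36 41 188818 7 c = true :=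
  TC.rows_step a2287 c2287 rfl
theorem a2413 : ∀ c < 188818, c < 64 * 2413 → TC.rowOk T 592 8 RT 36 41 188818 7 c = true :=
  TC.rows_step a2356 c2356 rfl
theorem a2469 : ∀ c < 188818, c < 64 * 2469 → TC.rowOk T 592 8 RT 36 41 188818 7 c = true :=
  TC.rows_step a2413 c2413 rfl
theorem a2525 : ∀ c < 188818, c < 64 * 2525 → TC.rowOk T 592 8 RT 36 41 188818 7 c = true :=
  TC.rows_step a2469 c2469 rfl
theorem a2579 : ∀ c < 188818, c < 64 * 2579 → TC.rowOk T 592 8 RT 36 41 188818 7 c = true :=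
  TC.rows_step a2525 c2525 rfl
theorem a2635 : ∀ c < 188818, c < 64 * 2635 → TC.rowOk T 592 8 RT 36 41 188818 7 c = true :=
  TC.rows_step a2579 c2579 rfl
theorem a2690 : ∀ c < 188818, c < 64 * 2690 → TC.rowOk T 592 8 RT 36 41 188818 7 c = true :=
  TC.rows_step a2635 c2635 rfl
theorem a2744 : ∀ c < 188818, c < 64 * 2744 → TC.rowOk T 592 8 RT 36 41 188818 7 c = true :=
  TC.rows_step a2690 c2690 rfl
theorem a2794 : ∀ c < 188818, c < 64 * 2794 → TC.rowOk T 592 8 RT 36 41 188818 7 c = true :=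
  TC.rows_step a2744 c2744 rfl
theorem a2845 : ∀ c < 188818, c < 64 * 2845 → TC.rowOk T 592 8 RT 36 41 188818 7 c = true :=
  TC.rows_step a2794 c2794 rfl
theorem a2892 : ∀ c < 188818, c < 64 * 2892 → TC.rowOk T 592 8 RT 36 41 188818 7 c = true :=
  TC.rows_step a2845 c2845 rfl
theorem a2939 : ∀ c < 188818, c < 64 * 2939 → TC.rowOk T 592 8 RT 36 41 188818 7 c = true :=
  TC.rows_step a2892 c2892 rfl
theorem a2951 : ∀ c < 188818, c < 64 * 2951 → TC.rowOk T 592 8 RT 36 41 188818 7 c = true :=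
  TC.rows_step a2939 c2939 rfl
theorem b1500 : (TC.liveSet T 592 8 188818 1500).card = 59811 :=
  TC.live_step TC.live_zero n0 rfl rfl
theorem b2951 : (TC.liveSet T 592 8 188818 2951).card = 122760 :=
  TC.live_step b1500 n1500 rfl rfl
theorem enum : Enum ON.R8 S 7 122760 T 592 8 :=
  TC.enum (RT := RT) (nR := 36) (nS := 41) (by norm_num) (by norm_num) (by norm_num)
    (by decide +kernel) a2951 b2951

end CfsgH7.ON.E7
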