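import Cfsg.Agent.H7.ONE7.D0
import Cfsg.Agent.H7.ONE7.D1
import Cfsg.Agent.H7.ONE7.D2

set_option autoImplicit false
set_option linter.unusedVariables false
set_option maxRecDepth 100000
set_option Elab.async false

namespace CfsgH7.ON.E7

noncomputable def t3_5 (i : ℕ) : ℕ := (@Bool.rec (fun _ => ℕ) l3 l4 (Nat.ble (nat_lit 4) i))
noncomputable def t6_8 (i : ℕ) : ℕ := (@Bool.rec (fun _ => ℕ) l6 l7 (Nat.ble (nat_lit 7) i))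
noncomputable def t9_11 (i : ℕ) : ℕ := (@Bool.rec (fun _ => ℕ) l9 l10 (Nat.ble (nat_lit 10) i))
noncomputable def t0_11 (i : ℕ) : ℕ := (@Bool.rec (fun _ => ℕ) (@Bool.rec (fun _ => ℕ) (@Bool.rec (fun _ => ℕ) l0 l1 (Nat.ble (nat_lit 1) i)) (@Bool.rec (fun _ => ℕ) l2 (t3_5 i) (Nat.ble (nat_lit 3) i)) (Nat.ble (nat_lit 2) i)) (@Bool.rec (fun _ => ℕ) (@Bool.rec (fun _ => ℕ) l5 (t6_8 i) (Nat.ble (nat_lit 6) i)) (@Bool.rec (fun _ => ℕ) l8 (t9_11 i) (Nat.ble (nat_lit 9) i)) (Nat.ble (nat_lit 8) i)) (Nat.ble (nat_lit 5) i))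
noncomputable def t12_14 (i : ℕ) : ℕ := (@Bool.rec (fun _ => ℕ) l12 l13 (Nat.ble (nat_lit 13) i))
noncomputable def t15_17 (i : ℕ) : ℕ := (@Bool.rec (fun _ => ℕ) l15 l16 (Nat.ble (nat_lit 16) i))
noncomputable def t18_20 (i : ℕ) : ℕ := (@Bool.rec (fun _ => ℕ) l18 l19 (Nat.ble (nat_lit 19) i))
noncomputable def t21_23 (i : ℕ) : ℕ := (@Bool.rec (fun _ => ℕ) l21 l22 (Nat.ble (nat_lit 22) i))
noncomputable def t11_23 (i : ℕ) : ℕ := (@Bool.rec (fun _ => ℕ) (@Bool.rec (fun _ => ℕ) (@Bool.rec (fun _ => ℕ) l11 (t12_14 i) (Nat.ble (nat_lit 12) i)) (@Bool.rec (fun _ => ℕ) l14 (t15_17 i) (Nat.ble (nat_lit 15) i)) (Nat.ble (nat_lit 14) i)) (@Bool.rec (fun _ => ℕ) (@Bool.rec (fun _ => ℕ) l17 (t18_20 i) (Nat.ble (nat_lit 18) i)) (@Bool.rec (fun _ => ℕ) l20 (t21_23 i) (Nat.ble (nat_lit 21) i)) (Nat.ble (nat_lit 20) i)) (Nat.ble (nat_lit 17) i))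
noncomputable def t26_28 (i : ℕ) : ℕ := (@Bool.rec (fun _ => ℕ) l26 l27 (Nat.ble (nat_lit 27) i))
noncomputable def t29_31 (i : ℕ) : ℕ := (@Bool.rec (fun _ => ℕ) l29 l30 (Nat.ble (nat_lit 30) i))
noncomputable def t32_34 (i : ℕ) : ℕ := (@Bool.rec (fun _ => ℕ) l32 l33 (Nat.ble (nat_lit 33) i))
noncomputable def t23_34 (i : ℕ) : ℕ := (@Bool.rec (fun _ => ℕ) (@Bool.rec (fun _ => ℕ) (@Bool.rec (fun _ => ℕ) l23 l24 (Nat.ble (nat_lit 24) i)) (@Bool.rec (fun _ => ℕ) l25 (t26_28 i) (Nat.ble (nat_lit 26) i)) (Nat.ble (nat_lit 25) i)) (@Bool.rec (fun _ => ℕ) (@Bool.rec (fun _ => ℕ) l28 (t29_31 i) (Nat.ble (nat_lit 29) i)) (@Bool.rec (fun _ => ℕ) l31 (t32_34 i) (Nat.ble (nat_lit 32) i)) (Nat.ble (nat_lit 31) i)) (Nat.ble (nat_lit 28) i))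
noncomputable def t35_37 (i : ℕ) : ℕ := (@Bool.rec (fun _ => ℕ) l35 l36 (Nat.ble (nat_lit 36) i))
noncomputable def t38_40 (i : ℕ) : ℕ := (@Bool.rec (fun _ => ℕ) l38 l39 (Nat.ble (nat_lit 39) i))
noncomputable def t41_43 (i : ℕ) : ℕ := (@Bool.rec (fun _ => ℕ) l41 l42 (Nat.ble (nat_lit 42) i))
noncomputable def t44_46 (i : ℕ) : ℕ := (@Bool.rec (fun _ => ℕ) l44 l45 (Nat.ble (nat_lit 45) i))
noncomputable def t34_46 (i : ℕ) : ℕ := (@Bool.rec (fun _ => ℕ) (@Bool.rec (fun _ => ℕ) (@Bool.rec (fun _ => ℕ) l34 (t35_37 i) (Nat.ble (nat_lit 35) i)) (@Bool.rec (fun _ => ℕ) l37 (t38_40 i) (Nat.ble (nat_lit 38) i)) (Nat.ble (nat_lit 37) i)) (@Bool.rec (fun _ => ℕ) (@Bool.rec (fun _ => ℕ) l40 (t41_43 i) (Nat.ble (nat_lit 41) i)) (@Bool.rec (fun _ => ℕ) l43 (t44_46 i) (Nat.ble (nat_lit 44) i)) (Nat.ble (nat_lit 43) i)) (Nat.ble (nat_lit 40) i))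
noncomputable def t49_51 (i : ℕ) : ℕ := (@Bool.rec (fun _ => ℕ) l49 l50 (Nat.ble (nat_lit 50) i))
noncomputable def t52_54 (i : ℕ) : ℕ := (@Bool.rec (fun _ => ℕ) l52 l53 (Nat.ble (nat_lit 53) i))
noncomputable def t55_57 (i : ℕ) : ℕ := (@Bool.rec (fun _ => ℕ) l55 l56 (Nat.ble (nat_lit 56) i))
noncomputable def t46_57 (i : ℕ) : ℕ := (@Bool.rec (fun _ => ℕ) (@Bool.rec (fun _ => ℕ) (@Bool.rec (fun _ => ℕ) l46 l47 (Nat.ble (nat_lit 47) i)) (@Bool.rec (fun _ => ℕ) l48 (t49_51 i) (Nat.ble (nat_lit 49) i)) (Nat.ble (nat_lit 48) i)) (@Bool.rec (fun _ => ℕ) (@Bool.rec (fun _ => ℕ) l51 (t52_54 i) (Nat.ble (nat_lit 52) i)) (@Bool.rec (fun _ => ℕ) l54 (t55_57 i) (Nat.ble (nat_lit 55) i)) (Nat.ble (nat_lit 54) i)) (Nat.ble (nat_lit 51) i))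
noncomputable def t58_60 (i : ℕ) : ℕ := (@Bool.rec (fun _ => ℕ) l58 l59 (Nat.ble (nat_lit 59) i))
noncomputable def t61_63 (i : ℕ) : ℕ := (@Bool.rec (fun _ => ℕ) l61 l62 (Nat.ble (nat_lit 62) i))
noncomputable def t64_66 (i : ℕ) : ℕ := (@Bool.rec (fun _ => ℕ) l64 l65 (Nat.ble (nat_lit 65) i))
noncomputable def t67_69 (i : ℕ) : ℕ := (@Bool.rec (fun _ => ℕ) l67 l68 (Nat.ble (nat_lit 68) i))
noncomputable def t57_69 (i : ℕ) : ℕ := (@Bool.rec (fun _ => ℕ) (@Bool.rec (fun _ => ℕ) (@Bool.rec (fun _ => ℕ) l57 (t58_60 i) (Nat.ble (nat_lit 58) i)) (@Bool.rec (fun _ => ℕ) l60 (t61_63 i) (Nat.ble (nat_lit 61) i)) (Nat.ble (nat_lit 60) i)) (@Bool.rec (fun _ => ℕ) (@Bool.rec (fun _ => ℕ) l63 (t64_66 i) (Nat.ble (nat_lit 64) i)) (@Bool.rec (fun _ => ℕ) l66 (t67_69 i) (Nat.ble (nat_lit 67) i)) (Nat.ble (nat_lit 66) i)) (Nat.ble (nat_lit 63) i))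
noncomputable def t72_74 (i : ℕ) : ℕ := (@Bool.rec (fun _ => ℕ) l72 l73 (Nat.ble (nat_lit 73) i))
noncomputable def t75_77 (i : ℕ) : ℕ := (@Bool.rec (fun _ => ℕ) l75 l76 (Nat.ble (nat_lit 76) i))
noncomputable def t78_80 (i : ℕ) : ℕ := (@Bool.rec (fun _ => ℕ) l78 l79 (Nat.ble (nat_lit 79) i))
noncomputable def t69_80 (i : ℕ) : ℕ := (@Bool.rec (fun _ => ℕ) (@Bool.rec (fun _ => ℕ) (@Bool.rec (fun _ => ℕ) l69 l70 (Nat.ble (nat_lit 70) i)) (@Bool.rec (fun _ => ℕ) l71 (t72_74 i) (Nat.ble (nat_lit 72) i)) (Nat.ble (nat_lit 71) i)) (@Bool.rec (fun _ => ℕ) (@Bool.rec (fun _ => ℕ) l74 (t75_77 i) (Nat.ble (nat_lit 75) i)) (@Bool.rec (fun _ => ℕ) l77 (t78_80 i) (Nat.ble (nat_lit 78) i)) (Nat.ble (nat_lit 77) i)) (Nat.ble (nat_lit 74) i))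
noncomputable def t81_83 (i : ℕ) : ℕ := (@Bool.rec (fun _ => ℕ) l81 l82 (Nat.ble (nat_lit 82) i))
noncomputable def t84_86 (i : ℕ) : ℕ := (@Bool.rec (fun _ => ℕ) l84 l85 (Nat.ble (nat_lit 85) i))
noncomputable def t87_89 (i : ℕ) : ℕ := (@Bool.rec (fun _ => ℕ) l87 l88 (Nat.ble (nat_lit 88) i))
noncomputable def t90_92 (i : ℕ) : ℕ := (@Bool.rec (fun _ => ℕ) l90 l91 (Nat.ble (nat_lit 91) i))
noncomputable def t80_92 (i : ℕ) : ℕ := (@Bool.rec (fun _ => ℕ) (@Bool.rec (fun _ => ℕ) (@Bool.rec (fun _ => ℕ) l80 (t81_83 i) (Nat.ble (nat_lit 81) i)) (@Bool.rec (fun _ => ℕ) l83 (t84_86 i) (Nat.ble (nat_lit 84) i)) (Nat.ble (nat_lit 83) i)) (@Bool.rec (fun _ => ℕ) (@Bool.rec (fun _ => ℕ) l86 (t87_89 i) (Nat.ble (nat_lit 87) i)) (@Bool.rec (fun _ => ℕ) l89 (t90_92 i) (Nat.ble (nat_lit 90) i)) (Nat.ble (nat_lit 89) i)) (Nat.ble (nat_lit 86) i))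
noncomputable def t0_92 (i : ℕ) : ℕ := (@Bool.rec (fun _ => ℕ) (@Bool.rec (fun _ => ℕ) (@Bool.rec (fun _ => ℕ) (t0_11 i) (t11_23 i) (Nat.ble (nat_lit 11) i)) (@Bool.rec (fun _ => ℕ) (t23_34 i) (t34_46 i) (Nat.ble (nat_lit 34) i)) (Nat.ble (nat_lit 23) i)) (@Bool.rec (fun _ => ℕ) (@Bool.rec (fun _ => ℕ) (t46_57 i) (t57_69 i) (Nat.ble (nat_lit 57) i)) (@Bool.rec (fun _ => ℕ) (t69_80 i) (t80_92 i) (Nat.ble (nat_lit 80) i)) (Nat.ble (nat_lit 69) i)) (Nat.ble (nat_lit 46) i))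
noncomputable def t95_97 (i : ℕ) : ℕ := (@Bool.rec (fun _ => ℕ) l95 l96 (Nat.ble (nat_lit 96) i))
noncomputable def t98_100 (i : ℕ) : ℕ := (@Bool.rec (fun _ => ℕ) l98 l99 (Nat.ble (nat_lit 99) i))
noncomputable def t101_103 (i : ℕ) : ℕ := (@Bool.rec (fun _ => ℕ) l101 l102 (Nat.ble (nat_lit 102) i))
noncomputable def t92_103 (i : ℕ) : ℕ := (@Bool.rec (fun _ => ℕ) (@Bool.rec (fun _ => ℕ) (@Bool.rec (fun _ => ℕ) l92 l93 (Nat.ble (nat_lit 93) i)) (@Bool.rec (fun _ => ℕ) l94 (t95_97 i) (Nat.ble (nat_lit 95) i)) (Nat.ble (nat_lit 94) i)) (@Bool.rec (fun _ => ℕ) (@Bool.rec (fun _ => ℕ) l97 (t98_100 i) (Nat.ble (nat_lit 98) i)) (@Bool.rec (fun _ => ℕ) l100 (t101_103 i) (Nat.ble (nat_lit 101) i)) (Nat.ble (nat_lit 100) i)) (Nat.ble (nat_lit 97) i))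
noncomputable def t104_106 (i : ℕ) : ℕ := (@Bool.rec (fun _ => ℕ) l104 l105 (Nat.ble (nat_lit 105) i))
noncomputable def t107_109 (i : ℕ) : ℕ := (@Bool.rec (fun _ => ℕ) l107 l108 (Nat.ble (nat_lit 108) i))
noncomputable def t110_112 (i : ℕ) : ℕ := (@Bool.rec (fun _ => ℕ) l110 l111 (Nat.ble (nat_lit 111) i))
noncomputable def t113_115 (i : ℕ) : ℕ := (@Bool.rec (fun _ => ℕ) l113 l114 (Nat.ble (nat_lit 114) i))
noncomputable def t103_115 (i : ℕ) : ℕ := (@Bool.rec (fun _ => ℕ) (@Bool.rec (fun _ => ℕ) (@Bool.rec (fun _ => ℕ) l103 (t104_106 i) (Nat.ble (nat_lit 104) i)) (@Bool.rec (fun _ => ℕ) l106 (t107_109 i) (Nat.ble (nat_lit 107) i)) (Nat.ble (nat_lit 106) i)) (@Bool.rec (fun _ => ℕ) (@Bool.rec (fun _ => ℕ) l109 (t110_112 i) (Nat.ble (nat_lit 110) i)) (@Bool.rec (fun _ => ℕ) l112 (t113_115 i) (Nat.ble (nat_lit 113) i)) (Nat.ble (nat_lit 112)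 i)) (Nat.ble (nat_lit 109) i))
noncomputable def t118_120 (i : ℕ) : ℕ := (@Bool.rec (fun _ => ℕ) l118 l119 (Nat.ble (nat_lit 119) i))
noncomputable def t121_123 (i : ℕ) : ℕ := (@Bool.rec (fun _ => ℕ) l121 l122 (Nat.ble (nat_lit 122) i))
noncomputable def t124_126 (i : ℕ) : ℕ := (@Bool.rec (fun _ => ℕ) l124 l125 (Nat.ble (nat_lit 125) i))
noncomputable def t115_126 (i : ℕ) : ℕ := (@Bool.rec (fun _ => ℕ) (@Bool.rec (fun _ => ℕ) (@Bool.rec (fun _ => ℕ) l115 l116 (Nat.ble (nat_lit 116) i)) (@Bool.rec (fun _ => ℕ) l117 (t118_120 i) (Nat.ble (nat_lit 118) i)) (Nat.ble (nat_lit 117) i)) (@Bool.rec (fun _ => ℕ) (@Bool.rec (fun _ => ℕ) l120 (t121_123 i) (Nat.ble (nat_lit 121) i)) (@Bool.rec (fun _ => ℕ) l123 (t124_126 i) (Nat.ble (nat_lit 124) i)) (Nat.ble (nat_lit 123) i)) (Nat.ble (nat_lit 120) i))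
noncomputable def t127_129 (i : ℕ) : ℕ := (@Bool.rec (fun _ => ℕ) l127 l128 (Nat.ble (nat_lit 128) i))
noncomputable def t130_132 (i : ℕ) : ℕ := (@Bool.rec (fun _ => ℕ) l130 l131 (Nat.ble (nat_lit 131) i))
noncomputable def t133_135 (i : ℕ) : ℕ := (@Bool.rec (fun _ => ℕ) l133 l134 (Nat.ble (nat_lit 134) i))
noncomputable def t136_138 (i : ℕ) : ℕ := (@Bool.rec (fun _ => ℕ) l136 l137 (Nat.ble (nat_lit 137) i))
noncomputable def t126_138 (i : ℕ) : ℕ := (@Bool.rec (fun _ => ℕ) (@Bool.rec (fun _ => ℕ) (@Bool.rec (fun _ => ℕ) l126 (t127_129 i) (Nat.ble (nat_lit 127) i)) (@Bool.rec (fun _ => ℕ) l129 (t130_132 i) (Nat.ble (nat_lit 130) i)) (Nat.ble (nat_lit 129) i)) (@Bool.rec (fun _ => ℕ) (@Bool.rec (fun _ => ℕ) l132 (t133_135 i) (Nat.ble (nat_lit 133) i)) (@Bool.rec (fun _ => ℕ) l135 (t136_138 i) (Nat.ble (nat_lit 136) i)) (Nat.ble (nat_lit 135)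 i)) (Nat.ble (nat_lit 132) i))
noncomputable def t141_143 (i : ℕ) : ℕ := (@Bool.rec (fun _ => ℕ) l141 l142 (Nat.ble (nat_lit 142) i))
noncomputable def t144_146 (i : ℕ) : ℕ := (@Bool.rec (fun _ => ℕ) l144 l145 (Nat.ble (nat_lit 145) i))
noncomputable def t147_149 (i : ℕ) : ℕ := (@Bool.rec (fun _ => ℕ) l147 l148 (Nat.ble (nat_lit 148) i))
noncomputable def t138_149 (i : ℕ) : ℕ := (@Bool.rec (fun _ => ℕ) (@Bool.rec (fun _ => ℕ) (@Bool.rec (fun _ => ℕ) l138 l139 (Nat.ble (nat_lit 139) i)) (@Bool.rec (fun _ => ℕ) l140 (t141_143 i) (Nat.ble (nat_lit 141) i)) (Nat.ble (nat_lit 140) i)) (@Bool.rec (fun _ => ℕ) (@Bool.rec (fun _ => ℕ) l143 (t144_146 i) (Nat.ble (nat_lit 144) i)) (@Bool.rec (fun _ => ℕ) l146 (t147_149 i) (Nat.ble (nat_lit 147) i)) (Nat.ble (nat_lit 146) i)) (Nat.ble (nat_lit 143) i))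
noncomputable def t150_152 (i : ℕ) : ℕ := (@Bool.rec (fun _ => ℕ) l150 l151 (Nat.ble (nat_lit 151) i))
noncomputable def t153_155 (i : ℕ) : ℕ := (@Bool.rec (fun _ => ℕ) l153 l154 (Nat.ble (nat_lit 154) i))
noncomputable def t156_158 (i : ℕ) : ℕ := (@Bool.rec (fun _ => ℕ) l156 l157 (Nat.ble (nat_lit 157) i))
noncomputable def t159_161 (i : ℕ) : ℕ := (@Bool.rec (fun _ => ℕ) l159 l160 (Nat.ble (nat_lit 160) i))
noncomputable def t149_161 (i : ℕ) : ℕ := (@Bool.rec (fun _ => ℕ) (@Bool.rec (fun _ => ℕ) (@Bool.rec (fun _ => ℕ) l149 (t150_152 i) (Nat.ble (nat_lit 150) i)) (@Bool.rec (fun _ => ℕ) l152 (t153_155 i) (Nat.ble (nat_lit 153) i)) (Nat.ble (nat_lit 152) i)) (@Bool.rec (fun _ => ℕ) (@Bool.rec (fun _ => ℕ) l155 (t156_158 i) (Nat.ble (nat_lit 156) i)) (@Bool.rec (fun _ => ℕ) l158 (t159_161 i) (Nat.ble (nat_lit 159) i)) (Nat.ble (nat_lit 158)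 i)) (Nat.ble (nat_lit 155) i))
noncomputable def t164_166 (i : ℕ) : ℕ := (@Bool.rec (fun _ => ℕ) l164 l165 (Nat.ble (nat_lit 165) i))
noncomputable def t167_169 (i : ℕ) : ℕ := (@Bool.rec (fun _ => ℕ) l167 l168 (Nat.ble (nat_lit 168) i))
noncomputable def t170_172 (i : ℕ) : ℕ := (@Bool.rec (fun _ => ℕ) l170 l171 (Nat.ble (nat_lit 171) i))
noncomputable def t161_172 (i : ℕ) : ℕ := (@Bool.rec (fun _ => ℕ) (@Bool.rec (fun _ => ℕ) (@Bool.rec (fun _ => ℕ) l161 l162 (Nat.ble (nat_lit 162) i)) (@Bool.rec (fun _ => ℕ) l163 (t164_166 i) (Nat.ble (nat_lit 164) i)) (Nat.ble (nat_lit 163) i)) (@Bool.rec (fun _ => ℕ) (@Bool.rec (fun _ => ℕ) l166 (t167_169 i) (Nat.ble (nat_lit 167) i)) (@Bool.rec (fun _ => ℕ) l169 (t170_172 i) (Nat.ble (nat_lit 170) i)) (Nat.ble (nat_lit 169) i)) (Nat.ble (nat_lit 166) i))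
noncomputable def t173_175 (i : ℕ) : ℕ := (@Bool.rec (fun _ => ℕ) l173 l174 (Nat.ble (nat_lit 174) i))
noncomputable def t176_178 (i : ℕ) : ℕ := (@Bool.rec (fun _ => ℕ) l176 l177 (Nat.ble (nat_lit 177) i))
noncomputable def t179_181 (i : ℕ) : ℕ := (@Bool.rec (fun _ => ℕ) l179 l180 (Nat.ble (nat_lit 180) i))
noncomputable def t182_184 (i : ℕ) : ℕ := (@Bool.rec (fun _ => ℕ) l182 l183 (Nat.ble (nat_lit 183) i))
noncomputable def t172_184 (i : ℕ) : ℕ := (@Bool.rec (fun _ => ℕ) (@Bool.rec (fun _ => ℕ) (@Bool.rec (fun _ => ℕ) l172 (t173_175 i) (Nat.ble (nat_lit 173) i)) (@Bool.rec (fun _ => ℕ) l175 (t176_178 i) (Nat.ble (nat_lit 176) i)) (Nat.ble (nat_lit 175) i)) (@Bool.rec (fun _ => ℕ) (@Bool.rec (fun _ => ℕ) l178 (t179_181 i) (Nat.ble (nat_lit 179) i)) (@Bool.rec (fun _ => ℕ) l181 (t182_184 i) (Nat.ble (nat_lit 182) i)) (Nat.ble (nat_lit 181)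 i)) (Nat.ble (nat_lit 178) i))
noncomputable def t92_184 (i : ℕ) : ℕ := (@Bool.rec (fun _ => ℕ) (@Bool.rec (fun _ => ℕ) (@Bool.rec (fun _ => ℕ) (t92_103 i) (t103_115 i) (Nat.ble (nat_lit 103) i)) (@Bool.rec (fun _ => ℕ) (t115_126 i) (t126_138 i) (Nat.ble (nat_lit 126) i)) (Nat.ble (nat_lit 115) i)) (@Bool.rec (fun _ => ℕ) (@Bool.rec (fun _ => ℕ) (t138_149 i) (t149_161 i) (Nat.ble (nat_lit 149) i)) (@Bool.rec (fun _ => ℕ) (t161_172 i) (t172_184 i) (Nat.ble (nat_lit 172) i)) (Nat.ble (nat_lit 161) i)) (Nat.ble (nat_lit 138) i))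
noncomputable def t187_189 (i : ℕ) : ℕ := (@Bool.rec (fun _ => ℕ) l187 l188 (Nat.ble (nat_lit 188) i))
noncomputable def t190_192 (i : ℕ) : ℕ := (@Bool.rec (fun _ => ℕ) l190 l191 (Nat.ble (nat_lit 191) i))
noncomputable def t193_195 (i : ℕ) : ℕ := (@Bool.rec (fun _ => ℕ) l193 l194 (Nat.ble (nat_lit 194) i))
noncomputable def t184_195 (i : ℕ) : ℕ := (@Bool.rec (fun _ => ℕ) (@Bool.rec (fun _ => ℕ) (@Bool.rec (fun _ => ℕ) l184 l185 (Nat.ble (nat_lit 185) i)) (@Bool.rec (fun _ => ℕ) l186 (t187_189 i) (Nat.ble (nat_lit 187) i)) (Nat.ble (nat_lit 186) i)) (@Bool.rec (fun _ => ℕ) (@Bool.rec (fun _ => ℕ) l189 (t190_192 i) (Nat.ble (nat_lit 190) i)) (@Bool.rec (fun _ => ℕ) l192 (t193_195 i) (Nat.ble (nat_lit 193) i)) (Nat.ble (nat_lit 192) i)) (Nat.ble (nat_lit 189) i))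
noncomputable def t196_198 (i : ℕ) : ℕ := (@Bool.rec (fun _ => ℕ) l196 l197 (Nat.ble (nat_lit 197) i))
noncomputable def t199_201 (i : ℕ) : ℕ := (@Bool.rec (fun _ => ℕ) l199 l200 (Nat.ble (nat_lit 200) i))
noncomputable def t202_204 (i : ℕ) : ℕ := (@Bool.rec (fun _ => ℕ) l202 l203 (Nat.ble (nat_lit 203) i))
noncomputable def t205_207 (i : ℕ) : ℕ := (@Bool.rec (fun _ => ℕ) l205 l206 (Nat.ble (nat_lit 206) i))
noncomputable def t195_207 (i : ℕ) : ℕ := (@Bool.rec (fun _ => ℕ) (@Bool.rec (fun _ => ℕ) (@Bool.rec (fun _ => ℕ) l195 (t196_198 i) (Nat.ble (nat_lit 196) i)) (@Bool.rec (fun _ => ℕ) l198 (t199_201 i) (Nat.ble (nat_lit 199) i)) (Nat.ble (nat_lit 198) i)) (@Bool.rec (fun _ => ℕ) (@Bool.rec (fun _ => ℕ) l201 (t202_204 i) (Nat.ble (nat_lit 202) i)) (@Bool.rec (fun _ => ℕ) l204 (t205_207 i) (Nat.ble (nat_lit 205) i)) (Nat.ble (nat_lit 204)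 i)) (Nat.ble (nat_lit 201) i))
noncomputable def t210_212 (i : ℕ) : ℕ := (@Bool.rec (fun _ => ℕ) l210 l211 (Nat.ble (nat_lit 211) i))
noncomputable def t213_215 (i : ℕ) : ℕ := (@Bool.rec (fun _ => ℕ) l213 l214 (Nat.ble (nat_lit 214) i))
noncomputable def t216_218 (i : ℕ) : ℕ := (@Bool.rec (fun _ => ℕ) l216 l217 (Nat.ble (nat_lit 217) i))
noncomputable def t207_218 (i : ℕ) : ℕ := (@Bool.rec (fun _ => ℕ) (@Bool.rec (fun _ => ℕ) (@Bool.rec (fun _ => ℕ) l207 l208 (Nat.ble (nat_lit 208) i)) (@Bool.rec (fun _ => ℕ) l209 (t210_212 i) (Nat.ble (nat_lit 210) i)) (Nat.ble (nat_lit 209) i)) (@Bool.rec (fun _ => ℕ) (@Bool.rec (fun _ => ℕ) l212 (t213_215 i) (Nat.ble (nat_lit 213) i)) (@Bool.rec (fun _ => ℕ) l215 (t216_218 i) (Nat.ble (nat_lit 216) i)) (Nat.ble (nat_lit 215) i)) (Nat.ble (nat_lit 212) i))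
noncomputable def t219_221 (i : ℕ) : ℕ := (@Bool.rec (fun _ => ℕ) l219 l220 (Nat.ble (nat_lit 220) i))
noncomputable def t222_224 (i : ℕ) : ℕ := (@Bool.rec (fun _ => ℕ) l222 l223 (Nat.ble (nat_lit 223) i))
noncomputable def t225_227 (i : ℕ) : ℕ := (@Bool.rec (fun _ => ℕ) l225 l226 (Nat.ble (nat_lit 226) i))
noncomputable def t228_230 (i : ℕ) : ℕ := (@Bool.rec (fun _ => ℕ) l228 l229 (Nat.ble (nat_lit 229) i))
noncomputable def t218_230 (i : ℕ) : ℕ := (@Bool.rec (fun _ => ℕ) (@Bool.rec (fun _ => ℕ) (@Bool.rec (fun _ => ℕ) l218 (t219_221 i) (Nat.ble (nat_lit 219) i)) (@Bool.rec (fun _ => ℕ) l221 (t222_224 i) (Nat.ble (nat_lit 222) i)) (Nat.ble (nat_lit 221) i)) (@Bool.rec (fun _ => ℕ) (@Bool.rec (fun _ => ℕ) l224 (t225_227 i) (Nat.ble (nat_lit 225) i)) (@Bool.rec (fun _ => ℕ) l227 (t228_230 i) (Nat.ble (nat_lit 228) i)) (Nat.ble (nat_lit 227)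 i)) (Nat.ble (nat_lit 224) i))
noncomputable def t233_235 (i : ℕ) : ℕ := (@Bool.rec (fun _ => ℕ) l233 l234 (Nat.ble (nat_lit 234) i))
noncomputable def t236_238 (i : ℕ) : ℕ := (@Bool.rec (fun _ => ℕ) l236 l237 (Nat.ble (nat_lit 237) i))
noncomputable def t239_241 (i : ℕ) : ℕ := (@Bool.rec (fun _ => ℕ) l239 l240 (Nat.ble (nat_lit 240) i))
noncomputable def t230_241 (i : ℕ) : ℕ := (@Bool.rec (fun _ => ℕ) (@Bool.rec (fun _ => ℕ) (@Bool.rec (fun _ => ℕ) l230 l231 (Nat.ble (nat_lit 231) i)) (@Bool.rec (fun _ => ℕ) l232 (t233_235 i) (Nat.ble (nat_lit 233) i)) (Nat.ble (nat_lit 232) i)) (@Bool.rec (fun _ => ℕ) (@Bool.rec (fun _ => ℕ) l235 (t236_238 i) (Nat.ble (nat_lit 236) i)) (@Bool.rec (fun _ => ℕ) l238 (t239_241 i) (Nat.ble (nat_lit 239) i)) (Nat.ble (nat_lit 238) i)) (Nat.ble (nat_lit 235) i))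
noncomputable def t242_244 (i : ℕ) : ℕ := (@Bool.rec (fun _ => ℕ) l242 l243 (Nat.ble (nat_lit 243) i))
noncomputable def t245_247 (i : ℕ) : ℕ := (@Bool.rec (fun _ => ℕ) l245 l246 (Nat.ble (nat_lit 246) i))
noncomputable def t248_250 (i : ℕ) : ℕ := (@Bool.rec (fun _ => ℕ) l248 l249 (Nat.ble (nat_lit 249) i))
noncomputable def t251_253 (i : ℕ) : ℕ := (@Bool.rec (fun _ => ℕ) l251 l252 (Nat.ble (nat_lit 252) i))
noncomputable def t241_253 (i : ℕ) : ℕ := (@Bool.rec (fun _ => ℕ) (@Bool.rec (fun _ => ℕ) (@Bool.rec (fun _ => ℕ) l241 (t242_244 i) (Nat.ble (nat_lit 242) i)) (@Bool.rec (fun _ => ℕ) l244 (t245_247 i) (Nat.ble (nat_lit 245) i)) (Nat.ble (nat_lit 244) i)) (@Bool.rec (fun _ => ℕ) (@Bool.rec (fun _ => ℕ) l247 (t248_250 i) (Nat.ble (nat_lit 248) i)) (@Bool.rec (fun _ => ℕ) l250 (t251_253 i) (Nat.ble (nat_lit 251) i)) (Nat.ble (nat_lit 250)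 i)) (Nat.ble (nat_lit 247) i))
noncomputable def t256_258 (i : ℕ) : ℕ := (@Bool.rec (fun _ => ℕ) l256 l257 (Nat.ble (nat_lit 257) i))
noncomputable def t259_261 (i : ℕ) : ℕ := (@Bool.rec (fun _ => ℕ) l259 l260 (Nat.ble (nat_lit 260) i))
noncomputable def t262_264 (i : ℕ) : ℕ := (@Bool.rec (fun _ => ℕ) l262 l263 (Nat.ble (nat_lit 263) i))
noncomputable def t253_264 (i : ℕ) : ℕ := (@Bool.rec (fun _ => ℕ) (@Bool.rec (fun _ => ℕ) (@Bool.rec (fun _ => ℕ) l253 l254 (Nat.ble (nat_lit 254) i)) (@Bool.rec (fun _ => ℕ) l255 (t256_258 i) (Nat.ble (nat_lit 256) i)) (Nat.ble (nat_lit 255) i)) (@Bool.rec (fun _ => ℕ) (@Bool.rec (fun _ => ℕ) l258 (t259_261 i) (Nat.ble (nat_lit 259) i)) (@Bool.rec (fun _ => ℕ) l261 (t262_264 i) (Nat.ble (nat_lit 262) i)) (Nat.ble (nat_lit 261) i)) (Nat.ble (nat_lit 258) i))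
noncomputable def t265_267 (i : ℕ) : ℕ := (@Bool.rec (fun _ => ℕ) l265 l266 (Nat.ble (nat_lit 266) i))
noncomputable def t268_270 (i : ℕ) : ℕ := (@Bool.rec (fun _ => ℕ) l268 l269 (Nat.ble (nat_lit 269) i))
noncomputable def t271_273 (i : ℕ) : ℕ := (@Bool.rec (fun _ => ℕ) l271 l272 (Nat.ble (nat_lit 272) i))
noncomputable def t274_276 (i : ℕ) : ℕ := (@Bool.rec (fun _ => ℕ) l274 l275 (Nat.ble (nat_lit 275) i))
noncomputable def t264_276 (i : ℕ) : ℕ := (@Bool.rec (fun _ => ℕ) (@Bool.rec (fun _ => ℕ) (@Bool.rec (fun _ => ℕ) l264 (t265_267 i) (Nat.ble (nat_lit 265) i)) (@Bool.rec (fun _ => ℕ) l267 (t268_270 i) (Nat.ble (nat_lit 268) i)) (Nat.ble (nat_lit 267) i)) (@Bool.rec (fun _ => ℕ) (@Bool.rec (fun _ => ℕ) l270 (t271_273 i) (Nat.ble (nat_lit 271) i)) (@Bool.rec (fun _ => ℕ) l273 (t274_276 i) (Nat.ble (nat_lit 274) i)) (Nat.ble (nat_lit 273)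 i)) (Nat.ble (nat_lit 270) i))
noncomputable def t184_276 (i : ℕ) : ℕ := (@Bool.rec (fun _ => ℕ) (@Bool.rec (fun _ => ℕ) (@Bool.rec (fun _ => ℕ) (t184_195 i) (t195_207 i) (Nat.ble (nat_lit 195) i)) (@Bool.rec (fun _ => ℕ) (t207_218 i) (t218_230 i) (Nat.ble (nat_lit 218) i)) (Nat.ble (nat_lit 207) i)) (@Bool.rec (fun _ => ℕ) (@Bool.rec (fun _ => ℕ) (t230_241 i) (t241_253 i) (Nat.ble (nat_lit 241) i)) (@Bool.rec (fun _ => ℕ) (t253_264 i) (t264_276 i) (Nat.ble (nat_lit 264) i)) (Nat.ble (nat_lit 253) i)) (Nat.ble (nat_lit 230) i))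
noncomputable def t279_281 (i : ℕ) : ℕ := (@Bool.rec (fun _ => ℕ) l279 l280 (Nat.ble (nat_lit 280) i))
noncomputable def t282_284 (i : ℕ) : ℕ := (@Bool.rec (fun _ => ℕ) l282 l283 (Nat.ble (nat_lit 283) i))
noncomputable def t285_287 (i : ℕ) : ℕ := (@Bool.rec (fun _ => ℕ) l285 l286 (Nat.ble (nat_lit 286) i))
noncomputable def t276_287 (i : ℕ) : ℕ := (@Bool.rec (fun _ => ℕ) (@Bool.rec (fun _ => ℕ) (@Bool.rec (fun _ => ℕ) l276 l277 (Nat.ble (nat_lit 277) i)) (@Bool.rec (fun _ => ℕ) l278 (t279_281 i) (Nat.ble (nat_lit 279) i)) (Nat.ble (nat_lit 278) i)) (@Bool.rec (fun _ => ℕ) (@Bool.rec (fun _ => ℕ) l281 (t282_284 i) (Nat.ble (nat_lit 282) i)) (@Bool.rec (fun _ => ℕ) l284 (t285_287 i) (Nat.ble (nat_lit 285) i)) (Nat.ble (nat_lit 284) i)) (Nat.ble (nat_lit 281) i))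
noncomputable def t288_290 (i : ℕ) : ℕ := (@Bool.rec (fun _ => ℕ) l288 l289 (Nat.ble (nat_lit 289) i))
noncomputable def t291_293 (i : ℕ) : ℕ := (@Bool.rec (fun _ => ℕ) l291 l292 (Nat.ble (nat_lit 292) i))
noncomputable def t294_296 (i : ℕ) : ℕ := (@Bool.rec (fun _ => ℕ) l294 l295 (Nat.ble (nat_lit 295) i))
noncomputable def t297_299 (i : ℕ) : ℕ := (@Bool.rec (fun _ => ℕ) l297 l298 (Nat.ble (nat_lit 298) i))
noncomputable def t287_299 (i : ℕ) : ℕ := (@Bool.rec (fun _ => ℕ) (@Bool.rec (fun _ => ℕ) (@Bool.rec (fun _ => ℕ) l287 (t288_290 i) (Nat.ble (nat_lit 288) i)) (@Bool.rec (fun _ => ℕ) l290 (t291_293 i) (Nat.ble (nat_lit 291) i)) (Nat.ble (nat_lit 290) i)) (@Bool.rec (fun _ => ℕ) (@Bool.rec (fun _ => ℕ) l293 (t294_296 i) (Nat.ble (nat_lit 294) i)) (@Bool.rec (fun _ => ℕ) l296 (t297_299 i) (Nat.ble (nat_lit 297) i)) (Nat.ble (nat_lit 296)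 i)) (Nat.ble (nat_lit 293) i))
noncomputable def t302_304 (i : ℕ) : ℕ := (@Bool.rec (fun _ => ℕ) l302 l303 (Nat.ble (nat_lit 303) i))
noncomputable def t305_307 (i : ℕ) : ℕ := (@Bool.rec (fun _ => ℕ) l305 l306 (Nat.ble (nat_lit 306) i))
noncomputable def t308_310 (i : ℕ) : ℕ := (@Bool.rec (fun _ => ℕ) l308 l309 (Nat.ble (nat_lit 309) i))
noncomputable def t299_310 (i : ℕ) : ℕ := (@Bool.rec (fun _ => ℕ) (@Bool.rec (fun _ => ℕ) (@Bool.rec (fun _ => ℕ) l299 l300 (Nat.ble (nat_lit 300) i)) (@Bool.rec (fun _ => ℕ) l301 (t302_304 i) (Nat.ble (nat_lit 302) i)) (Nat.ble (nat_lit 301) i)) (@Bool.rec (fun _ => ℕ) (@Bool.rec (fun _ => ℕ) l304 (t305_307 i) (Nat.ble (nat_lit 305) i)) (@Bool.rec (fun _ => ℕ) l307 (t308_310 i) (Nat.ble (nat_lit 308) i)) (Nat.ble (nat_lit 307) i)) (Nat.ble (nat_lit 304) i))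
noncomputable def t311_313 (i : ℕ) : ℕ := (@Bool.rec (fun _ => ℕ) l311 l312 (Nat.ble (nat_lit 312) i))
noncomputable def t314_316 (i : ℕ) : ℕ := (@Bool.rec (fun _ => ℕ) l314 l315 (Nat.ble (nat_lit 315) i))
noncomputable def t317_319 (i : ℕ) : ℕ := (@Bool.rec (fun _ => ℕ) l317 l318 (Nat.ble (nat_lit 318) i))
noncomputable def t320_322 (i : ℕ) : ℕ := (@Bool.rec (fun _ => ℕ) l320 l321 (Nat.ble (nat_lit 321) i))
noncomputable def t310_322 (i : ℕ) : ℕ := (@Bool.rec (fun _ => ℕ) (@Bool.rec (fun _ => ℕ) (@Bool.rec (fun _ => ℕ) l310 (t311_313 i) (Nat.ble (nat_lit 311) i)) (@Bool.rec (fun _ => ℕ) l313 (t314_316 i) (Nat.ble (nat_lit 314) i)) (Nat.ble (nat_lit 313) i)) (@Bool.rec (fun _ => ℕ) (@Bool.rec (fun _ => ℕ) l316 (t317_319 i) (Nat.ble (nat_lit 317) i)) (@Bool.rec (fun _ => ℕ) l319 (t320_322 i) (Nat.ble (nat_lit 320) i)) (Nat.ble (nat_lit 319)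 i)) (Nat.ble (nat_lit 316) i))
noncomputable def t325_327 (i : ℕ) : ℕ := (@Bool.rec (fun _ => ℕ) l325 l326 (Nat.ble (nat_lit 326) i))
noncomputable def t328_330 (i : ℕ) : ℕ := (@Bool.rec (fun _ => ℕ) l328 l329 (Nat.ble (nat_lit 329) i))
noncomputable def t331_333 (i : ℕ) : ℕ := (@Bool.rec (fun _ => ℕ) l331 l332 (Nat.ble (nat_lit 332) i))
noncomputable def t322_333 (i : ℕ) : ℕ := (@Bool.rec (fun _ => ℕ) (@Bool.rec (fun _ => ℕ) (@Bool.rec (fun _ => ℕ) l322 l323 (Nat.ble (nat_lit 323) i)) (@Bool.rec (fun _ => ℕ) l324 (t325_327 i) (Nat.ble (nat_lit 325) i)) (Nat.ble (nat_lit 324) i)) (@Bool.rec (fun _ => ℕ) (@Bool.rec (fun _ => ℕ) l327 (t328_330 i) (Nat.ble (nat_lit 328) i)) (@Bool.rec (fun _ => ℕ) l330 (t331_333 i) (Nat.ble (nat_lit 331) i)) (Nat.ble (nat_lit 330) i)) (Nat.ble (nat_lit 327) i))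
noncomputable def t334_336 (i : ℕ) : ℕ := (@Bool.rec (fun _ => ℕ) l334 l335 (Nat.ble (nat_lit 335) i))
noncomputable def t337_339 (i : ℕ) : ℕ := (@Bool.rec (fun _ => ℕ) l337 l338 (Nat.ble (nat_lit 338) i))
noncomputable def t340_342 (i : ℕ) : ℕ := (@Bool.rec (fun _ => ℕ) l340 l341 (Nat.ble (nat_lit 341) i))
noncomputable def t343_345 (i : ℕ) : ℕ := (@Bool.rec (fun _ => ℕ) l343 l344 (Nat.ble (nat_lit 344) i))
noncomputable def t333_345 (i : ℕ) : ℕ := (@Bool.rec (fun _ => ℕ) (@Bool.rec (fun _ => ℕ) (@Bool.rec (fun _ => ℕ) l333 (t334_336 i) (Nat.ble (nat_lit 334) i)) (@Bool.rec (fun _ => ℕ) l336 (t337_339 i) (Nat.ble (nat_lit 337) i)) (Nat.ble (nat_lit 336) i)) (@Bool.rec (fun _ => ℕ) (@Bool.rec (fun _ => ℕ) l339 (t340_342 i) (Nat.ble (nat_lit 340) i)) (@Bool.rec (fun _ => ℕ) l342 (t343_345 i) (Nat.ble (nat_lit 343) i)) (Nat.ble (nat_lit 342)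 i)) (Nat.ble (nat_lit 339) i))
noncomputable def t348_350 (i : ℕ) : ℕ := (@Bool.rec (fun _ => ℕ) l348 l349 (Nat.ble (nat_lit 349) i))
noncomputable def t351_353 (i : ℕ) : ℕ := (@Bool.rec (fun _ => ℕ) l351 l352 (Nat.ble (nat_lit 352) i))
noncomputable def t354_356 (i : ℕ) : ℕ := (@Bool.rec (fun _ => ℕ) l354 l355 (Nat.ble (nat_lit 355) i))
noncomputable def t345_356 (i : ℕ) : ℕ := (@Bool.rec (fun _ => ℕ) (@Bool.rec (fun _ => ℕ) (@Bool.rec (fun _ => ℕ) l345 l346 (Nat.ble (nat_lit 346) i)) (@Bool.rec (fun _ => ℕ) l347 (t348_350 i) (Nat.ble (nat_lit 348) i)) (Nat.ble (nat_lit 347) i)) (@Bool.rec (fun _ => ℕ) (@Bool.rec (fun _ => ℕ) l350 (t351_353 i) (Nat.ble (nat_lit 351) i)) (@Bool.rec (fun _ => ℕ) l353 (t354_356 i) (Nat.ble (nat_lit 354) i)) (Nat.ble (nat_lit 353) i)) (Nat.ble (nat_lit 350) i))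
noncomputable def t357_359 (i : ℕ) : ℕ := (@Bool.rec (fun _ => ℕ) l357 l358 (Nat.ble (nat_lit 358) i))
noncomputable def t360_362 (i : ℕ) : ℕ := (@Bool.rec (fun _ => ℕ) l360 l361 (Nat.ble (nat_lit 361) i))
noncomputable def t363_365 (i : ℕ) : ℕ := (@Bool.rec (fun _ => ℕ) l363 l364 (Nat.ble (nat_lit 364) i))
noncomputable def t366_368 (i : ℕ) : ℕ := (@Bool.rec (fun _ => ℕ) l366 l367 (Nat.ble (nat_lit 367) i))
noncomputable def t356_368 (i : ℕ) : ℕ := (@Bool.rec (fun _ => ℕ) (@Bool.rec (fun _ => ℕ) (@Bool.rec (fun _ => ℕ) l356 (t357_359 i) (Nat.ble (nat_lit 357) i)) (@Bool.rec (fun _ => ℕ) l359 (t360_362 i) (Nat.ble (nat_lit 360) i)) (Nat.ble (nat_lit 359) i)) (@Bool.rec (fun _ => ℕ) (@Bool.rec (fun _ => ℕ) l362 (t363_365 i) (Nat.ble (nat_lit 363) i)) (@Bool.rec (fun _ => ℕ) l365 (t366_368 i) (Nat.ble (nat_lit 366) i)) (Nat.ble (nat_lit 365)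 i)) (Nat.ble (nat_lit 362) i))
noncomputable def t276_368 (i : ℕ) : ℕ := (@Bool.rec (fun _ => ℕ) (@Bool.rec (fun _ => ℕ) (@Bool.rec (fun _ => ℕ) (t276_287 i) (t287_299 i) (Nat.ble (nat_lit 287) i)) (@Bool.rec (fun _ => ℕ) (t299_310 i) (t310_322 i) (Nat.ble (nat_lit 310) i)) (Nat.ble (nat_lit 299) i)) (@Bool.rec (fun _ => ℕ) (@Bool.rec (fun _ => ℕ) (t322_333 i) (t333_345 i) (Nat.ble (nat_lit 333) i)) (@Bool.rec (fun _ => ℕ) (t345_356 i) (t356_368 i) (Nat.ble (nat_lit 356) i)) (Nat.ble (nat_lit 345) i)) (Nat.ble (nat_lit 322) i))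
noncomputable def t371_373 (i : ℕ) : ℕ := (@Bool.rec (fun _ => ℕ) l371 l372 (Nat.ble (nat_lit 372) i))
noncomputable def t374_376 (i : ℕ) : ℕ := (@Bool.rec (fun _ => ℕ) l374 l375 (Nat.ble (nat_lit 375) i))
noncomputable def t377_379 (i : ℕ) : ℕ := (@Bool.rec (fun _ => ℕ) l377 l378 (Nat.ble (nat_lit 378) i))
noncomputable def t368_379 (i : ℕ) : ℕ := (@Bool.rec (fun _ => ℕ) (@Bool.rec (fun _ => ℕ) (@Bool.rec (fun _ => ℕ) l368 l369 (Nat.ble (nat_lit 369) i)) (@Bool.rec (fun _ => ℕ) l370 (t371_373 i) (Nat.ble (nat_lit 371) i)) (Nat.ble (nat_lit 370) i)) (@Bool.rec (fun _ => ℕ) (@Bool.rec (fun _ => ℕ) l373 (t374_376 i) (Nat.ble (nat_lit 374) i)) (@Bool.rec (fun _ => ℕ) l376 (t377_379 i) (Nat.ble (nat_lit 377) i)) (Nat.ble (nat_lit 376) i)) (Nat.ble (nat_lit 373) i))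
noncomputable def t380_382 (i : ℕ) : ℕ := (@Bool.rec (fun _ => ℕ) l380 l381 (Nat.ble (nat_lit 381) i))
noncomputable def t383_385 (i : ℕ) : ℕ := (@Bool.rec (fun _ => ℕ) l383 l384 (Nat.ble (nat_lit 384) i))
noncomputable def t386_388 (i : ℕ) : ℕ := (@Bool.rec (fun _ => ℕ) l386 l387 (Nat.ble (nat_lit 387) i))
noncomputable def t389_391 (i : ℕ) : ℕ := (@Bool.rec (fun _ => ℕ) l389 l390 (Nat.ble (nat_lit 390) i))
noncomputable def t379_391 (i : ℕ) : ℕ := (@Bool.rec (fun _ => ℕ) (@Bool.rec (fun _ => ℕ) (@Bool.rec (fun _ => ℕ) l379 (t380_382 i) (Nat.ble (nat_lit 380) i)) (@Bool.rec (fun _ => ℕ) l382 (t383_385 i) (Nat.ble (nat_lit 383) i)) (Nat.ble (nat_lit 382) i)) (@Bool.rec (fun _ => ℕ) (@Bool.rec (fun _ => ℕ) l385 (t386_388 i) (Nat.ble (nat_lit 386) i)) (@Bool.rec (fun _ => ℕ) l388 (t389_391 i) (Nat.ble (nat_lit 389) i)) (Nat.ble (nat_lit 388)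 i)) (Nat.ble (nat_lit 385) i))
noncomputable def t394_396 (i : ℕ) : ℕ := (@Bool.rec (fun _ => ℕ) l394 l395 (Nat.ble (nat_lit 395) i))
noncomputable def t397_399 (i : ℕ) : ℕ := (@Bool.rec (fun _ => ℕ) l397 l398 (Nat.ble (nat_lit 398) i))
noncomputable def t400_402 (i : ℕ) : ℕ := (@Bool.rec (fun _ => ℕ) l400 l401 (Nat.ble (nat_lit 401) i))
noncomputable def t391_402 (i : ℕ) : ℕ := (@Bool.rec (fun _ => ℕ) (@Bool.rec (fun _ => ℕ) (@Bool.rec (fun _ => ℕ) l391 l392 (Nat.ble (nat_lit 392) i)) (@Bool.rec (fun _ => ℕ) l393 (t394_396 i) (Nat.ble (nat_lit 394) i)) (Nat.ble (nat_lit 393) i)) (@Bool.rec (fun _ => ℕ) (@Bool.rec (fun _ => ℕ) l396 (t397_399 i) (Nat.ble (nat_lit 397) i)) (@Bool.rec (fun _ => ℕ) l399 (t400_402 i) (Nat.ble (nat_lit 400) i)) (Nat.ble (nat_lit 399) i)) (Nat.ble (nat_lit 396) i))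
noncomputable def t403_405 (i : ℕ) : ℕ := (@Bool.rec (fun _ => ℕ) l403 l404 (Nat.ble (nat_lit 404) i))
noncomputable def t406_408 (i : ℕ) : ℕ := (@Bool.rec (fun _ => ℕ) l406 l407 (Nat.ble (nat_lit 407) i))
noncomputable def t409_411 (i : ℕ) : ℕ := (@Bool.rec (fun _ => ℕ) l409 l410 (Nat.ble (nat_lit 410) i))
noncomputable def t412_414 (i : ℕ) : ℕ := (@Bool.rec (fun _ => ℕ) l412 l413 (Nat.ble (nat_lit 413) i))
noncomputable def t402_414 (i : ℕ) : ℕ := (@Bool.rec (fun _ => ℕ) (@Bool.rec (fun _ => ℕ) (@Bool.rec (fun _ => ℕ) l402 (t403_405 i) (Nat.ble (nat_lit 403) i)) (@Bool.rec (fun _ => ℕ) l405 (t406_408 i) (Nat.ble (nat_lit 406) i)) (Nat.ble (nat_lit 405) i)) (@Bool.rec (fun _ => ℕ) (@Bool.rec (fun _ => ℕ) l408 (t409_411 i) (Nat.ble (nat_lit 409) i)) (@Bool.rec (fun _ => ℕ) l411 (t412_414 i) (Nat.ble (nat_lit 412) i)) (Nat.ble (nat_lit 411)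 i)) (Nat.ble (nat_lit 408) i))
noncomputable def t417_419 (i : ℕ) : ℕ := (@Bool.rec (fun _ => ℕ) l417 l418 (Nat.ble (nat_lit 418) i))
noncomputable def t420_422 (i : ℕ) : ℕ := (@Bool.rec (fun _ => ℕ) l420 l421 (Nat.ble (nat_lit 421) i))
noncomputable def t423_425 (i : ℕ) : ℕ := (@Bool.rec (fun _ => ℕ) l423 l424 (Nat.ble (nat_lit 424) i))
noncomputable def t414_425 (i : ℕ) : ℕ := (@Bool.rec (fun _ => ℕ) (@Bool.rec (fun _ => ℕ) (@Bool.rec (fun _ => ℕ) l414 l415 (Nat.ble (nat_lit 415) i)) (@Bool.rec (fun _ => ℕ) l416 (t417_419 i) (Nat.ble (nat_lit 417) i)) (Nat.ble (nat_lit 416) i)) (@Bool.rec (fun _ => ℕ) (@Bool.rec (fun _ => ℕ) l419 (t420_422 i) (Nat.ble (nat_lit 420) i)) (@Bool.rec (fun _ => ℕ) l422 (t423_425 i) (Nat.ble (nat_lit 423) i)) (Nat.ble (nat_lit 422) i)) (Nat.ble (nat_lit 419) i))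
noncomputable def t426_428 (i : ℕ) : ℕ := (@Bool.rec (fun _ => ℕ) l426 l427 (Nat.ble (nat_lit 427) i))
noncomputable def t429_431 (i : ℕ) : ℕ := (@Bool.rec (fun _ => ℕ) l429 l430 (Nat.ble (nat_lit 430) i))
noncomputable def t432_434 (i : ℕ) : ℕ := (@Bool.rec (fun _ => ℕ) l432 l433 (Nat.ble (nat_lit 433) i))
noncomputable def t435_437 (i : ℕ) : ℕ := (@Bool.rec (fun _ => ℕ) l435 l436 (Nat.ble (nat_lit 436) i))
noncomputable def t425_437 (i : ℕ) : ℕ := (@Bool.rec (fun _ => ℕ) (@Bool.rec (fun _ => ℕ) (@Bool.rec (fun _ => ℕ) l425 (t426_428 i) (Nat.ble (nat_lit 426) i)) (@Bool.rec (fun _ => ℕ) l428 (t429_431 i) (Nat.ble (nat_lit 429) i)) (Nat.ble (nat_lit 428) i)) (@Bool.rec (fun _ => ℕ) (@Bool.rec (fun _ => ℕ) l431 (t432_434 i) (Nat.ble (nat_lit 432) i)) (@Bool.rec (fun _ => ℕ) l434 (t435_437 i) (Nat.ble (nat_lit 435) i)) (Nat.ble (nat_lit 434)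 i)) (Nat.ble (nat_lit 431) i))
noncomputable def t440_442 (i : ℕ) : ℕ := (@Bool.rec (fun _ => ℕ) l440 l441 (Nat.ble (nat_lit 441) i))
noncomputable def t443_445 (i : ℕ) : ℕ := (@Bool.rec (fun _ => ℕ) l443 l444 (Nat.ble (nat_lit 444) i))
noncomputable def t446_448 (i : ℕ) : ℕ := (@Bool.rec (fun _ => ℕ) l446 l447 (Nat.ble (nat_lit 447) i))
noncomputable def t437_448 (i : ℕ) : ℕ := (@Bool.rec (fun _ => ℕ) (@Bool.rec (fun _ => ℕ) (@Bool.rec (fun _ => ℕ) l437 l438 (Nat.ble (nat_lit 438) i)) (@Bool.rec (fun _ => ℕ) l439 (t440_442 i) (Nat.ble (nat_lit 440) i)) (Nat.ble (nat_lit 439) i)) (@Bool.rec (fun _ => ℕ) (@Bool.rec (fun _ => ℕ) l442 (t443_445 i) (Nat.ble (nat_lit 443) i)) (@Bool.rec (fun _ => ℕ) l445 (t446_448 i) (Nat.ble (nat_lit 446) i)) (Nat.ble (nat_lit 445) i)) (Nat.ble (nat_lit 442) i))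
noncomputable def t449_451 (i : ℕ) : ℕ := (@Bool.rec (fun _ => ℕ) l449 l450 (Nat.ble (nat_lit 450) i))
noncomputable def t452_454 (i : ℕ) : ℕ := (@Bool.rec (fun _ => ℕ) l452 l453 (Nat.ble (nat_lit 453) i))
noncomputable def t455_457 (i : ℕ) : ℕ := (@Bool.rec (fun _ => ℕ) l455 l456 (Nat.ble (nat_lit 456) i))
noncomputable def t458_460 (i : ℕ) : ℕ := (@Bool.rec (fun _ => ℕ) l458 l459 (Nat.ble (nat_lit 459) i))
noncomputable def t448_460 (i : ℕ) : ℕ := (@Bool.rec (fun _ => ℕ) (@Bool.rec (fun _ => ℕ) (@Bool.rec (fun _ => ℕ) l448 (t449_451 i) (Nat.ble (nat_lit 449) i)) (@Bool.rec (fun _ => ℕ) l451 (t452_454 i) (Nat.ble (nat_lit 452) i)) (Nat.ble (nat_lit 451) i)) (@Bool.rec (fun _ => ℕ) (@Bool.rec (fun _ => ℕ) l454 (t455_457 i) (Nat.ble (nat_lit 455) i)) (@Bool.rec (fun _ => ℕ) l457 (t458_460 i) (Nat.ble (nat_lit 458) i)) (Nat.ble (nat_lit 457)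 i)) (Nat.ble (nat_lit 454) i))
noncomputable def t368_460 (i : ℕ) : ℕ := (@Bool.rec (fun _ => ℕ) (@Bool.rec (fun _ => ℕ) (@Bool.rec (fun _ => ℕ) (t368_379 i) (t379_391 i) (Nat.ble (nat_lit 379) i)) (@Bool.rec (fun _ => ℕ) (t391_402 i) (t402_414 i) (Nat.ble (nat_lit 402) i)) (Nat.ble (nat_lit 391) i)) (@Bool.rec (fun _ => ℕ) (@Bool.rec (fun _ => ℕ) (t414_425 i) (t425_437 i) (Nat.ble (nat_lit 425) i)) (@Bool.rec (fun _ => ℕ) (t437_448 i) (t448_460 i) (Nat.ble (nat_lit 448) i)) (Nat.ble (nat_lit 437) i)) (Nat.ble (nat_lit 414) i))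
noncomputable def t463_465 (i : ℕ) : ℕ := (@Bool.rec (fun _ => ℕ) l463 l464 (Nat.ble (nat_lit 464) i))
noncomputable def t466_468 (i : ℕ) : ℕ := (@Bool.rec (fun _ => ℕ) l466 l467 (Nat.ble (nat_lit 467) i))
noncomputable def t469_471 (i : ℕ) : ℕ := (@Bool.rec (fun _ => ℕ) l469 l470 (Nat.ble (nat_lit 470) i))
noncomputable def t460_471 (i : ℕ) : ℕ := (@Bool.rec (fun _ => ℕ) (@Bool.rec (fun _ => ℕ) (@Bool.rec (fun _ => ℕ) l460 l461 (Nat.ble (nat_lit 461) i)) (@Bool.rec (fun _ => ℕ) l462 (t463_465 i) (Nat.ble (nat_lit 463) i)) (Nat.ble (nat_lit 462) i)) (@Bool.rec (fun _ => ℕ) (@Bool.rec (fun _ => ℕ) l465 (t466_468 i) (Nat.ble (nat_lit 466) i)) (@Bool.rec (fun _ => ℕ) l468 (t469_471 i) (Nat.ble (nat_lit 469) i)) (Nat.ble (nat_lit 468) i)) (Nat.ble (nat_lit 465) i))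
noncomputable def t472_474 (i : ℕ) : ℕ := (@Bool.rec (fun _ => ℕ) l472 l473 (Nat.ble (nat_lit 473) i))
noncomputable def t475_477 (i : ℕ) : ℕ := (@Bool.rec (fun _ => ℕ) l475 l476 (Nat.ble (nat_lit 476) i))
noncomputable def t478_480 (i : ℕ) : ℕ := (@Bool.rec (fun _ => ℕ) l478 l479 (Nat.ble (nat_lit 479) i))
noncomputable def t481_483 (i : ℕ) : ℕ := (@Bool.rec (fun _ => ℕ) l481 l482 (Nat.ble (nat_lit 482) i))
noncomputable def t471_483 (i : ℕ) : ℕ := (@Bool.rec (fun _ => ℕ) (@Bool.rec (fun _ => ℕ) (@Bool.rec (fun _ => ℕ) l471 (t472_474 i) (Nat.ble (nat_lit 472) i)) (@Bool.rec (fun _ => ℕ) l474 (t475_477 i) (Nat.ble (nat_lit 475) i)) (Nat.ble (nat_lit 474) i)) (@Bool.rec (fun _ => ℕ) (@Bool.rec (fun _ => ℕ) l477 (t478_480 i) (Nat.ble (nat_lit 478) i)) (@Bool.rec (fun _ => ℕ) l480 (t481_483 i) (Nat.ble (nat_lit 481) i)) (Nat.ble (nat_lit 480)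 i)) (Nat.ble (nat_lit 477) i))
noncomputable def t486_488 (i : ℕ) : ℕ := (@Bool.rec (fun _ => ℕ) l486 l487 (Nat.ble (nat_lit 487) i))
noncomputable def t489_491 (i : ℕ) : ℕ := (@Bool.rec (fun _ => ℕ) l489 l490 (Nat.ble (nat_lit 490) i))
noncomputable def t492_494 (i : ℕ) : ℕ := (@Bool.rec (fun _ => ℕ) l492 l493 (Nat.ble (nat_lit 493) i))
noncomputable def t483_494 (i : ℕ) : ℕ := (@Bool.rec (fun _ => ℕ) (@Bool.rec (fun _ => ℕ) (@Bool.rec (fun _ => ℕ) l483 l484 (Nat.ble (nat_lit 484) i)) (@Bool.rec (fun _ => ℕ) l485 (t486_488 i) (Nat.ble (nat_lit 486) i)) (Nat.ble (nat_lit 485) i)) (@Bool.rec (fun _ => ℕ) (@Bool.rec (fun _ => ℕ) l488 (t489_491 i) (Nat.ble (nat_lit 489) i)) (@Bool.rec (fun _ => ℕ) l491 (t492_494 i) (Nat.ble (nat_lit 492) i)) (Nat.ble (nat_lit 491) i)) (Nat.ble (nat_lit 488) i))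
noncomputable def t495_497 (i : ℕ) : ℕ := (@Bool.rec (fun _ => ℕ) l495 l496 (Nat.ble (nat_lit 496) i))
noncomputable def t498_500 (i : ℕ) : ℕ := (@Bool.rec (fun _ => ℕ) l498 l499 (Nat.ble (nat_lit 499) i))
noncomputable def t501_503 (i : ℕ) : ℕ := (@Bool.rec (fun _ => ℕ) l501 l502 (Nat.ble (nat_lit 502) i))
noncomputable def t504_506 (i : ℕ) : ℕ := (@Bool.rec (fun _ => ℕ) l504 l505 (Nat.ble (nat_lit 505) i))
noncomputable def t494_506 (i : ℕ) : ℕ := (@Bool.rec (fun _ => ℕ) (@Bool.rec (fun _ => ℕ) (@Bool.rec (fun _ => ℕ) l494 (t495_497 i) (Nat.ble (nat_lit 495) i)) (@Bool.rec (fun _ => ℕ) l497 (t498_500 i) (Nat.ble (nat_lit 498) i)) (Nat.ble (nat_lit 497) i)) (@Bool.rec (fun _ => ℕ) (@Bool.rec (fun _ => ℕ) l500 (t501_503 i) (Nat.ble (nat_lit 501) i)) (@Bool.rec (fun _ => ℕ) l503 (t504_506 i) (Nat.ble (nat_lit 504) i)) (Nat.ble (nat_lit 503)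 i)) (Nat.ble (nat_lit 500) i))
noncomputable def t509_511 (i : ℕ) : ℕ := (@Bool.rec (fun _ => ℕ) l509 l510 (Nat.ble (nat_lit 510) i))
noncomputable def t512_514 (i : ℕ) : ℕ := (@Bool.rec (fun _ => ℕ) l512 l513 (Nat.ble (nat_lit 513) i))
noncomputable def t515_517 (i : ℕ) : ℕ := (@Bool.rec (fun _ => ℕ) l515 l516 (Nat.ble (nat_lit 516) i))
noncomputable def t506_517 (i : ℕ) : ℕ := (@Bool.rec (fun _ => ℕ) (@Bool.rec (fun _ => ℕ) (@Bool.rec (fun _ => ℕ) l506 l507 (Nat.ble (nat_lit 507) i)) (@Bool.rec (fun _ => ℕ) l508 (t509_511 i) (Nat.ble (nat_lit 509) i)) (Nat.ble (nat_lit 508) i)) (@Bool.rec (fun _ => ℕ) (@Bool.rec (fun _ => ℕ) l511 (t512_514 i) (Nat.ble (nat_lit 512) i)) (@Bool.rec (fun _ => ℕ) l514 (t515_517 i) (Nat.ble (nat_lit 515) i)) (Nat.ble (nat_lit 514) i)) (Nat.ble (nat_lit 511) i))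
noncomputable def t518_520 (i : ℕ) : ℕ := (@Bool.rec (fun _ => ℕ) l518 l519 (Nat.ble (nat_lit 519) i))
noncomputable def t521_523 (i : ℕ) : ℕ := (@Bool.rec (fun _ => ℕ) l521 l522 (Nat.ble (nat_lit 522) i))
noncomputable def t524_526 (i : ℕ) : ℕ := (@Bool.rec (fun _ => ℕ) l524 l525 (Nat.ble (nat_lit 525) i))
noncomputable def t527_529 (i : ℕ) : ℕ := (@Bool.rec (fun _ => ℕ) l527 l528 (Nat.ble (nat_lit 528) i))
noncomputable def t517_529 (i : ℕ) : ℕ := (@Bool.rec (fun _ => ℕ) (@Bool.rec (fun _ => ℕ) (@Bool.rec (fun _ => ℕ) l517 (t518_520 i) (Nat.ble (nat_lit 518) i)) (@Bool.rec (fun _ => ℕ) l520 (t521_523 i) (Nat.ble (nat_lit 521) i)) (Nat.ble (nat_lit 520) i)) (@Bool.rec (fun _ => ℕ) (@Bool.rec (fun _ => ℕ) l523 (t524_526 i) (Nat.ble (nat_lit 524) i)) (@Bool.rec (fun _ => ℕ) l526 (t527_529 i) (Nat.ble (nat_lit 527) i)) (Nat.ble (nat_lit 526)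 i)) (Nat.ble (nat_lit 523) i))
noncomputable def t532_534 (i : ℕ) : ℕ := (@Bool.rec (fun _ => ℕ) l532 l533 (Nat.ble (nat_lit 533) i))
noncomputable def t535_537 (i : ℕ) : ℕ := (@Bool.rec (fun _ => ℕ) l535 l536 (Nat.ble (nat_lit 536) i))
noncomputable def t538_540 (i : ℕ) : ℕ := (@Bool.rec (fun _ => ℕ) l538 l539 (Nat.ble (nat_lit 539) i))
noncomputable def t529_540 (i : ℕ) : ℕ := (@Bool.rec (fun _ => ℕ) (@Bool.rec (fun _ => ℕ) (@Bool.rec (fun _ => ℕ) l529 l530 (Nat.ble (nat_lit 530) i)) (@Bool.rec (fun _ => ℕ) l531 (t532_534 i) (Nat.ble (nat_lit 532) i)) (Nat.ble (nat_lit 531) i)) (@Bool.rec (fun _ => ℕ) (@Bool.rec (fun _ => ℕ) l534 (t535_537 i) (Nat.ble (nat_lit 535) i)) (@Bool.rec (fun _ => ℕ) l537 (t538_540 i) (Nat.ble (nat_lit 538) i)) (Nat.ble (nat_lit 537) i)) (Nat.ble (nat_lit 534) i))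
noncomputable def t541_543 (i : ℕ) : ℕ := (@Bool.rec (fun _ => ℕ) l541 l542 (Nat.ble (nat_lit 542) i))
noncomputable def t544_546 (i : ℕ) : ℕ := (@Bool.rec (fun _ => ℕ) l544 l545 (Nat.ble (nat_lit 545) i))
noncomputable def t547_549 (i : ℕ) : ℕ := (@Bool.rec (fun _ => ℕ) l547 l548 (Nat.ble (nat_lit 548) i))
noncomputable def t550_552 (i : ℕ) : ℕ := (@Bool.rec (fun _ => ℕ) l550 l551 (Nat.ble (nat_lit 551) i))
noncomputable def t540_552 (i : ℕ) : ℕ := (@Bool.rec (fun _ => ℕ) (@Bool.rec (fun _ => ℕ) (@Bool.rec (fun _ => ℕ) l540 (t541_543 i) (Nat.ble (nat_lit 541) i)) (@Bool.rec (fun _ => ℕ) l543 (t544_546 i) (Nat.ble (nat_lit 544) i)) (Nat.ble (nat_lit 543) i)) (@Bool.rec (fun _ => ℕ) (@Bool.rec (fun _ => ℕ) l546 (t547_549 i) (Nat.ble (nat_lit 547) i)) (@Bool.rec (fun _ => ℕ) l549 (t550_552 i) (Nat.ble (nat_lit 550) i)) (Nat.ble (nat_lit 549)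 i)) (Nat.ble (nat_lit 546) i))
noncomputable def t460_552 (i : ℕ) : ℕ := (@Bool.rec (fun _ => ℕ) (@Bool.rec (fun _ => ℕ) (@Bool.rec (fun _ => ℕ) (t460_471 i) (t471_483 i) (Nat.ble (nat_lit 471) i)) (@Bool.rec (fun _ => ℕ) (t483_494 i) (t494_506 i) (Nat.ble (nat_lit 494) i)) (Nat.ble (nat_lit 483) i)) (@Bool.rec (fun _ => ℕ) (@Bool.rec (fun _ => ℕ) (t506_517 i) (t517_529 i) (Nat.ble (nat_lit 517) i)) (@Bool.rec (fun _ => ℕ) (t529_540 i) (t540_552 i) (Nat.ble (nat_lit 540) i)) (Nat.ble (nat_lit 529) i)) (Nat.ble (nat_lit 506) i))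
noncomputable def t555_557 (i : ℕ) : ℕ := (@Bool.rec (fun _ => ℕ) l555 l556 (Nat.ble (nat_lit 556) i))
noncomputable def t558_560 (i : ℕ) : ℕ := (@Bool.rec (fun _ => ℕ) l558 l559 (Nat.ble (nat_lit 559) i))
noncomputable def t561_563 (i : ℕ) : ℕ := (@Bool.rec (fun _ => ℕ) l561 l562 (Nat.ble (nat_lit 562) i))
noncomputable def t552_563 (i : ℕ) : ℕ := (@Bool.rec (fun _ => ℕ) (@Bool.rec (fun _ => ℕ) (@Bool.rec (fun _ => ℕ) l552 l553 (Nat.ble (nat_lit 553) i)) (@Bool.rec (fun _ => ℕ) l554 (t555_557 i) (Nat.ble (nat_lit 555) i)) (Nat.ble (nat_lit 554) i)) (@Bool.rec (fun _ => ℕ) (@Bool.rec (fun _ => ℕ) l557 (t558_560 i) (Nat.ble (nat_lit 558) i)) (@Bool.rec (fun _ => ℕ) l560 (t561_563 i) (Nat.ble (nat_lit 561) i)) (Nat.ble (nat_lit 560) i)) (Nat.ble (nat_lit 557) i))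
noncomputable def t564_566 (i : ℕ) : ℕ := (@Bool.rec (fun _ => ℕ) l564 l565 (Nat.ble (nat_lit 565) i))
noncomputable def t567_569 (i : ℕ) : ℕ := (@Bool.rec (fun _ => ℕ) l567 l568 (Nat.ble (nat_lit 568) i))
noncomputable def t570_572 (i : ℕ) : ℕ := (@Bool.rec (fun _ => ℕ) l570 l571 (Nat.ble (nat_lit 571) i))
noncomputable def t573_575 (i : ℕ) : ℕ := (@Bool.rec (fun _ => ℕ) l573 l574 (Nat.ble (nat_lit 574) i))
noncomputable def t563_575 (i : ℕ) : ℕ := (@Bool.rec (fun _ => ℕ) (@Bool.rec (fun _ => ℕ) (@Bool.rec (fun _ => ℕ) l563 (t564_566 i) (Nat.ble (nat_lit 564) i)) (@Bool.rec (fun _ => ℕ) l566 (t567_569 i) (Nat.ble (nat_lit 567) i)) (Nat.ble (nat_lit 566) i)) (@Bool.rec (fun _ => ℕ) (@Bool.rec (fun _ => ℕ) l569 (t570_572 i) (Nat.ble (nat_lit 570) i)) (@Bool.rec (fun _ => ℕ) l572 (t573_575 i) (Nat.ble (nat_lit 573) i)) (Nat.ble (nat_lit 572)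 i)) (Nat.ble (nat_lit 569) i))
noncomputable def t578_580 (i : ℕ) : ℕ := (@Bool.rec (fun _ => ℕ) l578 l579 (Nat.ble (nat_lit 579) i))
noncomputable def t581_583 (i : ℕ) : ℕ := (@Bool.rec (fun _ => ℕ) l581 l582 (Nat.ble (nat_lit 582) i))
noncomputable def t584_586 (i : ℕ) : ℕ := (@Bool.rec (fun _ => ℕ) l584 l585 (Nat.ble (nat_lit 585) i))
noncomputable def t575_586 (i : ℕ) : ℕ := (@Bool.rec (fun _ => ℕ) (@Bool.rec (fun _ => ℕ) (@Bool.rec (fun _ => ℕ) l575 l576 (Nat.ble (nat_lit 576) i)) (@Bool.rec (fun _ => ℕ) l577 (t578_580 i) (Nat.ble (nat_lit 578) i)) (Nat.ble (nat_lit 577) i)) (@Bool.rec (fun _ => ℕ) (@Bool.rec (fun _ => ℕ) l580 (t581_583 i) (Nat.ble (nat_lit 581) i)) (@Bool.rec (fun _ => ℕ) l583 (t584_586 i) (Nat.ble (nat_lit 584) i)) (Nat.ble (nat_lit 583) i)) (Nat.ble (nat_lit 580) i))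
noncomputable def t587_589 (i : ℕ) : ℕ := (@Bool.rec (fun _ => ℕ) l587 l588 (Nat.ble (nat_lit 588) i))
noncomputable def t590_592 (i : ℕ) : ℕ := (@Bool.rec (fun _ => ℕ) l590 l591 (Nat.ble (nat_lit 591) i))
noncomputable def t593_595 (i : ℕ) : ℕ := (@Bool.rec (fun _ => ℕ) l593 l594 (Nat.ble (nat_lit 594) i))
noncomputable def t596_598 (i : ℕ) : ℕ := (@Bool.rec (fun _ => ℕ) l596 l597 (Nat.ble (nat_lit 597) i))
noncomputable def t586_598 (i : ℕ) : ℕ := (@Bool.rec (fun _ => ℕ) (@Bool.rec (fun _ => ℕ) (@Bool.rec (fun _ => ℕ) l586 (t587_589 i) (Nat.ble (nat_lit 587) i)) (@Bool.rec (fun _ => ℕ) l589 (t590_592 i) (Nat.ble (nat_lit 590) i)) (Nat.ble (nat_lit 589) i)) (@Bool.rec (fun _ => ℕ) (@Bool.rec (fun _ => ℕ) l592 (t593_595 i) (Nat.ble (nat_lit 593) i)) (@Bool.rec (fun _ => ℕ) l595 (t596_598 i) (Nat.ble (nat_lit 596) i)) (Nat.ble (nat_lit 595)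 i)) (Nat.ble (nat_lit 592) i))
noncomputable def t601_603 (i : ℕ) : ℕ := (@Bool.rec (fun _ => ℕ) l601 l602 (Nat.ble (nat_lit 602) i))
noncomputable def t604_606 (i : ℕ) : ℕ := (@Bool.rec (fun _ => ℕ) l604 l605 (Nat.ble (nat_lit 605) i))
noncomputable def t607_609 (i : ℕ) : ℕ := (@Bool.rec (fun _ => ℕ) l607 l608 (Nat.ble (nat_lit 608) i))
noncomputable def t598_609 (i : ℕ) : ℕ := (@Bool.rec (fun _ => ℕ) (@Bool.rec (fun _ => ℕ) (@Bool.rec (fun _ => ℕ) l598 l599 (Nat.ble (nat_lit 599) i)) (@Bool.rec (fun _ => ℕ) l600 (t601_603 i) (Nat.ble (nat_lit 601) i)) (Nat.ble (nat_lit 600) i)) (@Bool.rec (fun _ => ℕ) (@Bool.rec (fun _ => ℕ) l603 (t604_606 i) (Nat.ble (nat_lit 604) i)) (@Bool.rec (fun _ => ℕ) l606 (t607_609 i) (Nat.ble (nat_lit 607) i)) (Nat.ble (nat_lit 606) i)) (Nat.ble (nat_lit 603) i))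
noncomputable def t610_612 (i : ℕ) : ℕ := (@Bool.rec (fun _ => ℕ) l610 l611 (Nat.ble (nat_lit 611) i))
noncomputable def t613_615 (i : ℕ) : ℕ := (@Bool.rec (fun _ => ℕ) l613 l614 (Nat.ble (nat_lit 614) i))
noncomputable def t616_618 (i : ℕ) : ℕ := (@Bool.rec (fun _ => ℕ) l616 l617 (Nat.ble (nat_lit 617) i))
noncomputable def t619_621 (i : ℕ) : ℕ := (@Bool.rec (fun _ => ℕ) l619 l620 (Nat.ble (nat_lit 620) i))
noncomputable def t609_621 (i : ℕ) : ℕ := (@Bool.rec (fun _ => ℕ) (@Bool.rec (fun _ => ℕ) (@Bool.rec (fun _ => ℕ) l609 (t610_612 i) (Nat.ble (nat_lit 610) i)) (@Bool.rec (fun _ => ℕ) l612 (t613_615 i) (Nat.ble (nat_lit 613) i)) (Nat.ble (nat_lit 612) i)) (@Bool.rec (fun _ => ℕ) (@Bool.rec (fun _ => ℕ) l615 (t616_618 i) (Nat.ble (nat_lit 616) i)) (@Bool.rec (fun _ => ℕ) l618 (t619_621 i) (Nat.ble (nat_lit 619) i)) (Nat.ble (nat_lit 618)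 i)) (Nat.ble (nat_lit 615) i))
noncomputable def t624_626 (i : ℕ) : ℕ := (@Bool.rec (fun _ => ℕ) l624 l625 (Nat.ble (nat_lit 625) i))
noncomputable def t627_629 (i : ℕ) : ℕ := (@Bool.rec (fun _ => ℕ) l627 l628 (Nat.ble (nat_lit 628) i))
noncomputable def t630_632 (i : ℕ) : ℕ := (@Bool.rec (fun _ => ℕ) l630 l631 (Nat.ble (nat_lit 631) i))
noncomputable def t621_632 (i : ℕ) : ℕ := (@Bool.rec (fun _ => ℕ) (@Bool.rec (fun _ => ℕ) (@Bool.rec (fun _ => ℕ) l621 l622 (Nat.ble (nat_lit 622) i)) (@Bool.rec (fun _ => ℕ) l623 (t624_626 i) (Nat.ble (nat_lit 624) i)) (Nat.ble (nat_lit 623) i)) (@Bool.rec (fun _ => ℕ) (@Bool.rec (fun _ => ℕ) l626 (t627_629 i) (Nat.ble (nat_lit 627) i)) (@Bool.rec (fun _ => ℕ) l629 (t630_632 i) (Nat.ble (nat_lit 630) i)) (Nat.ble (nat_lit 629) i)) (Nat.ble (nat_lit 626) i))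
noncomputable def t633_635 (i : ℕ) : ℕ := (@Bool.rec (fun _ => ℕ) l633 l634 (Nat.ble (nat_lit 634) i))
noncomputable def t636_638 (i : ℕ) : ℕ := (@Bool.rec (fun _ => ℕ) l636 l637 (Nat.ble (nat_lit 637) i))
noncomputable def t639_641 (i : ℕ) : ℕ := (@Bool.rec (fun _ => ℕ) l639 l640 (Nat.ble (nat_lit 640) i))
noncomputable def t642_644 (i : ℕ) : ℕ := (@Bool.rec (fun _ => ℕ) l642 l643 (Nat.ble (nat_lit 643) i))
noncomputable def t632_644 (i : ℕ) : ℕ := (@Bool.rec (fun _ => ℕ) (@Bool.rec (fun _ => ℕ) (@Bool.rec (fun _ => ℕ) l632 (t633_635 i) (Nat.ble (nat_lit 633) i)) (@Bool.rec (fun _ => ℕ) l635 (t636_638 i) (Nat.ble (nat_lit 636) i)) (Nat.ble (nat_lit 635) i)) (@Bool.rec (fun _ => ℕ) (@Bool.rec (fun _ => ℕ) l638 (t639_641 i) (Nat.ble (nat_lit 639) i)) (@Bool.rec (fun _ => ℕ) l641 (t642_644 i) (Nat.ble (nat_lit 642) i)) (Nat.ble (nat_lit 641)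 i)) (Nat.ble (nat_lit 638) i))
noncomputable def t552_644 (i : ℕ) : ℕ := (@Bool.rec (fun _ => ℕ) (@Bool.rec (fun _ => ℕ) (@Bool.rec (fun _ => ℕ) (t552_563 i) (t563_575 i) (Nat.ble (nat_lit 563) i)) (@Bool.rec (fun _ => ℕ) (t575_586 i) (t586_598 i) (Nat.ble (nat_lit 586) i)) (Nat.ble (nat_lit 575) i)) (@Bool.rec (fun _ => ℕ) (@Bool.rec (fun _ => ℕ) (t598_609 i) (t609_621 i) (Nat.ble (nat_lit 609) i)) (@Bool.rec (fun _ => ℕ) (t621_632 i) (t632_644 i) (Nat.ble (nat_lit 632) i)) (Nat.ble (nat_lit 621) i)) (Nat.ble (nat_lit 598) i))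
noncomputable def t647_649 (i : ℕ) : ℕ := (@Bool.rec (fun _ => ℕ) l647 l648 (Nat.ble (nat_lit 648) i))
noncomputable def t650_652 (i : ℕ) : ℕ := (@Bool.rec (fun _ => ℕ) l650 l651 (Nat.ble (nat_lit 651) i))
noncomputable def t653_655 (i : ℕ) : ℕ := (@Bool.rec (fun _ => ℕ) l653 l654 (Nat.ble (nat_lit 654) i))
noncomputable def t644_655 (i : ℕ) : ℕ := (@Bool.rec (fun _ => ℕ) (@Bool.rec (fun _ => ℕ) (@Bool.rec (fun _ => ℕ) l644 l645 (Nat.ble (nat_lit 645) i)) (@Bool.rec (fun _ => ℕ) l646 (t647_649 i) (Nat.ble (nat_lit 647) i)) (Nat.ble (nat_lit 646) i)) (@Bool.rec (fun _ => ℕ) (@Bool.rec (fun _ => ℕ) l649 (t650_652 i) (Nat.ble (nat_lit 650) i)) (@Bool.rec (fun _ => ℕ) l652 (t653_655 i) (Nat.ble (nat_lit 653) i)) (Nat.ble (nat_lit 652) i)) (Nat.ble (nat_lit 649) i))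
noncomputable def t656_658 (i : ℕ) : ℕ := (@Bool.rec (fun _ => ℕ) l656 l657 (Nat.ble (nat_lit 657) i))
noncomputable def t659_661 (i : ℕ) : ℕ := (@Bool.rec (fun _ => ℕ) l659 l660 (Nat.ble (nat_lit 660) i))
noncomputable def t662_664 (i : ℕ) : ℕ := (@Bool.rec (fun _ => ℕ) l662 l663 (Nat.ble (nat_lit 663) i))
noncomputable def t665_667 (i : ℕ) : ℕ := (@Bool.rec (fun _ => ℕ) l665 l666 (Nat.ble (nat_lit 666) i))
noncomputable def t655_667 (i : ℕ) : ℕ := (@Bool.rec (fun _ => ℕ) (@Bool.rec (fun _ => ℕ) (@Bool.rec (fun _ => ℕ) l655 (t656_658 i) (Nat.ble (nat_lit 656) i)) (@Bool.rec (fun _ => ℕ) l658 (t659_661 i) (Nat.ble (nat_lit 659) i)) (Nat.ble (nat_lit 658) i)) (@Bool.rec (fun _ => ℕ) (@Bool.rec (fun _ => ℕ) l661 (t662_664 i) (Nat.ble (nat_lit 662) i)) (@Bool.rec (fun _ => ℕ) l664 (t665_667 i) (Nat.ble (nat_lit 665) i)) (Nat.ble (nat_lit 664)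 i)) (Nat.ble (nat_lit 661) i))
noncomputable def t670_672 (i : ℕ) : ℕ := (@Bool.rec (fun _ => ℕ) l670 l671 (Nat.ble (nat_lit 671) i))
noncomputable def t673_675 (i : ℕ) : ℕ := (@Bool.rec (fun _ => ℕ) l673 l674 (Nat.ble (nat_lit 674) i))
noncomputable def t676_678 (i : ℕ) : ℕ := (@Bool.rec (fun _ => ℕ) l676 l677 (Nat.ble (nat_lit 677) i))
noncomputable def t667_678 (i : ℕ) : ℕ := (@Bool.rec (fun _ => ℕ) (@Bool.rec (fun _ => ℕ) (@Bool.rec (fun _ => ℕ) l667 l668 (Nat.ble (nat_lit 668) i)) (@Bool.rec (fun _ => ℕ) l669 (t670_672 i) (Nat.ble (nat_lit 670) i)) (Nat.ble (nat_lit 669) i)) (@Bool.rec (fun _ => ℕ) (@Bool.rec (fun _ => ℕ) l672 (t673_675 i) (Nat.ble (nat_lit 673) i)) (@Bool.rec (fun _ => ℕ) l675 (t676_678 i) (Nat.ble (nat_lit 676) i)) (Nat.ble (nat_lit 675) i)) (Nat.ble (nat_lit 672) i))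
noncomputable def t679_681 (i : ℕ) : ℕ := (@Bool.rec (fun _ => ℕ) l679 l680 (Nat.ble (nat_lit 680) i))
noncomputable def t682_684 (i : ℕ) : ℕ := (@Bool.rec (fun _ => ℕ) l682 l683 (Nat.ble (nat_lit 683) i))
noncomputable def t685_687 (i : ℕ) : ℕ := (@Bool.rec (fun _ => ℕ) l685 l686 (Nat.ble (nat_lit 686) i))
noncomputable def t688_690 (i : ℕ) : ℕ := (@Bool.rec (fun _ => ℕ) l688 l689 (Nat.ble (nat_lit 689) i))
noncomputable def t678_690 (i : ℕ) : ℕ := (@Bool.rec (fun _ => ℕ) (@Bool.rec (fun _ => ℕ) (@Bool.rec (fun _ => ℕ) l678 (t679_681 i) (Nat.ble (nat_lit 679) i)) (@Bool.rec (fun _ => ℕ) l681 (t682_684 i) (Nat.ble (nat_lit 682) i)) (Nat.ble (nat_lit 681) i)) (@Bool.rec (fun _ => ℕ) (@Bool.rec (fun _ => ℕ) l684 (t685_687 i) (Nat.ble (nat_lit 685) i)) (@Bool.rec (fun _ => ℕ) l687 (t688_690 i) (Nat.ble (nat_lit 688) i)) (Nat.ble (nat_lit 687)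 i)) (Nat.ble (nat_lit 684) i))
noncomputable def t693_695 (i : ℕ) : ℕ := (@Bool.rec (fun _ => ℕ) l693 l694 (Nat.ble (nat_lit 694) i))
noncomputable def t696_698 (i : ℕ) : ℕ := (@Bool.rec (fun _ => ℕ) l696 l697 (Nat.ble (nat_lit 697) i))
noncomputable def t699_701 (i : ℕ) : ℕ := (@Bool.rec (fun _ => ℕ) l699 l700 (Nat.ble (nat_lit 700) i))
noncomputable def t690_701 (i : ℕ) : ℕ := (@Bool.rec (fun _ => ℕ) (@Bool.rec (fun _ => ℕ) (@Bool.rec (fun _ => ℕ) l690 l691 (Nat.ble (nat_lit 691) i)) (@Bool.rec (fun _ => ℕ) l692 (t693_695 i) (Nat.ble (nat_lit 693) i)) (Nat.ble (nat_lit 692) i)) (@Bool.rec (fun _ => ℕ) (@Bool.rec (fun _ => ℕ) l695 (t696_698 i) (Nat.ble (nat_lit 696) i)) (@Bool.rec (fun _ => ℕ) l698 (t699_701 i) (Nat.ble (nat_lit 699) i)) (Nat.ble (nat_lit 698) i)) (Nat.ble (nat_lit 695) i))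
noncomputable def t702_704 (i : ℕ) : ℕ := (@Bool.rec (fun _ => ℕ) l702 l703 (Nat.ble (nat_lit 703) i))
noncomputable def t705_707 (i : ℕ) : ℕ := (@Bool.rec (fun _ => ℕ) l705 l706 (Nat.ble (nat_lit 706) i))
noncomputable def t708_710 (i : ℕ) : ℕ := (@Bool.rec (fun _ => ℕ) l708 l709 (Nat.ble (nat_lit 709) i))
noncomputable def t711_713 (i : ℕ) : ℕ := (@Bool.rec (fun _ => ℕ) l711 l712 (Nat.ble (nat_lit 712) i))
noncomputable def t701_713 (i : ℕ) : ℕ := (@Bool.rec (fun _ => ℕ) (@Bool.rec (fun _ => ℕ) (@Bool.rec (fun _ => ℕ) l701 (t702_704 i) (Nat.ble (nat_lit 702) i)) (@Bool.rec (fun _ => ℕ) l704 (t705_707 i) (Nat.ble (nat_lit 705) i)) (Nat.ble (nat_lit 704) i)) (@Bool.rec (fun _ => ℕ) (@Bool.rec (fun _ => ℕ) l707 (t708_710 i) (Nat.ble (nat_lit 708) i)) (@Bool.rec (fun _ => ℕ) l710 (t711_713 i) (Nat.ble (nat_lit 711) i)) (Nat.ble (nat_lit 710)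 i)) (Nat.ble (nat_lit 707) i))
noncomputable def t714_716 (i : ℕ) : ℕ := (@Bool.rec (fun _ => ℕ) l714 l715 (Nat.ble (nat_lit 715) i))
noncomputable def t717_719 (i : ℕ) : ℕ := (@Bool.rec (fun _ => ℕ) l717 l718 (Nat.ble (nat_lit 718) i))
noncomputable def t720_722 (i : ℕ) : ℕ := (@Bool.rec (fun _ => ℕ) l720 l721 (Nat.ble (nat_lit 721) i))
noncomputable def t723_725 (i : ℕ) : ℕ := (@Bool.rec (fun _ => ℕ) l723 l724 (Nat.ble (nat_lit 724) i))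
noncomputable def t713_725 (i : ℕ) : ℕ := (@Bool.rec (fun _ => ℕ) (@Bool.rec (fun _ => ℕ) (@Bool.rec (fun _ => ℕ) l713 (t714_716 i) (Nat.ble (nat_lit 714) i)) (@Bool.rec (fun _ => ℕ) l716 (t717_719 i) (Nat.ble (nat_lit 717) i)) (Nat.ble (nat_lit 716) i)) (@Bool.rec (fun _ => ℕ) (@Bool.rec (fun _ => ℕ) l719 (t720_722 i) (Nat.ble (nat_lit 720) i)) (@Bool.rec (fun _ => ℕ) l722 (t723_725 i) (Nat.ble (nat_lit 723) i)) (Nat.ble (nat_lit 722) i)) (Nat.ble (nat_lit 719) i))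
noncomputable def t726_728 (i : ℕ) : ℕ := (@Bool.rec (fun _ => ℕ) l726 l727 (Nat.ble (nat_lit 727) i))
noncomputable def t729_731 (i : ℕ) : ℕ := (@Bool.rec (fun _ => ℕ) l729 l730 (Nat.ble (nat_lit 730) i))
noncomputable def t732_734 (i : ℕ) : ℕ := (@Bool.rec (fun _ => ℕ) l732 l733 (Nat.ble (nat_lit 733) i))
noncomputable def t735_737 (i : ℕ) : ℕ := (@Bool.rec (fun _ => ℕ) l735 l736 (Nat.ble (nat_lit 736) i))
noncomputable def t725_737 (i : ℕ) : ℕ := (@Bool.rec (fun _ => ℕ) (@Bool.rec (fun _ => ℕ) (@Bool.rec (fun _ => ℕ) l725 (t726_728 i) (Nat.ble (nat_lit 726) i)) (@Bool.rec (fun _ => ℕ) l728 (t729_731 i) (Nat.ble (nat_lit 729) i)) (Nat.ble (nat_lit 728) i)) (@Bool.rec (fun _ => ℕ) (@Bool.rec (fun _ => ℕ) l731 (t732_734 i) (Nat.ble (nat_lit 732) i)) (@Bool.rec (fun _ => ℕ) l734 (t735_737 i) (Nat.ble (nat_lit 735) i)) (Nat.ble (nat_lit 734)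 i)) (Nat.ble (nat_lit 731) i))
noncomputable def t644_737 (i : ℕ) : ℕ := (@Bool.rec (fun _ => ℕ) (@Bool.rec (fun _ => ℕ) (@Bool.rec (fun _ => ℕ) (t644_655 i) (t655_667 i) (Nat.ble (nat_lit 655) i)) (@Bool.rec (fun _ => ℕ) (t667_678 i) (t678_690 i) (Nat.ble (nat_lit 678) i)) (Nat.ble (nat_lit 667) i)) (@Bool.rec (fun _ => ℕ) (@Bool.rec (fun _ => ℕ) (t690_701 i) (t701_713 i) (Nat.ble (nat_lit 701) i)) (@Bool.rec (fun _ => ℕ) (t713_725 i) (t725_737 i) (Nat.ble (nat_lit 725) i)) (Nat.ble (nat_lit 713) i)) (Nat.ble (nat_lit 690) i))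
noncomputable def t0_737 (i : ℕ) : ℕ := (@Bool.rec (fun _ => ℕ) (@Bool.rec (fun _ => ℕ) (@Bool.rec (fun _ => ℕ) (t0_92 i) (t92_184 i) (Nat.ble (nat_lit 92) i)) (@Bool.rec (fun _ => ℕ) (t184_276 i) (t276_368 i) (Nat.ble (nat_lit 276) i)) (Nat.ble (nat_lit 184) i)) (@Bool.rec (fun _ => ℕ) (@Bool.rec (fun _ => ℕ) (t368_460 i) (t460_552 i) (Nat.ble (nat_lit 460) i)) (@Bool.rec (fun _ => ℕ) (t552_644 i) (t644_737 i) (Nat.ble (nat_lit 644) i)) (Nat.ble (nat_lit 552) i)) (Nat.ble (nat_lit 368) i))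
noncomputable def t740_742 (i : ℕ) : ℕ := (@Bool.rec (fun _ => ℕ) l740 l741 (Nat.ble (nat_lit 741) i))
noncomputable def t743_745 (i : ℕ) : ℕ := (@Bool.rec (fun _ => ℕ) l743 l744 (Nat.ble (nat_lit 744) i))
noncomputable def t746_748 (i : ℕ) : ℕ := (@Bool.rec (fun _ => ℕ) l746 l747 (Nat.ble (nat_lit 747) i))
noncomputable def t737_748 (i : ℕ) : ℕ := (@Bool.rec (fun _ => ℕ) (@Bool.rec (fun _ => ℕ) (@Bool.rec (fun _ => ℕ) l737 l738 (Nat.ble (nat_lit 738) i)) (@Bool.rec (fun _ => ℕ) l739 (t740_742 i) (Nat.ble (nat_lit 740) i)) (Nat.ble (nat_lit 739) i)) (@Bool.rec (fun _ => ℕ) (@Bool.rec (fun _ => ℕ) l742 (t743_745 i) (Nat.ble (nat_lit 743) i)) (@Bool.rec (fun _ => ℕ) l745 (t746_748 i) (Nat.ble (nat_lit 746) i)) (Nat.ble (nat_lit 745) i)) (Nat.ble (nat_lit 742) i))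
noncomputable def t749_751 (i : ℕ) : ℕ := (@Bool.rec (fun _ => ℕ) l749 l750 (Nat.ble (nat_lit 750) i))
noncomputable def t752_754 (i : ℕ) : ℕ := (@Bool.rec (fun _ => ℕ) l752 l753 (Nat.ble (nat_lit 753) i))
noncomputable def t755_757 (i : ℕ) : ℕ := (@Bool.rec (fun _ => ℕ) l755 l756 (Nat.ble (nat_lit 756) i))
noncomputable def t758_760 (i : ℕ) : ℕ := (@Bool.rec (fun _ => ℕ) l758 l759 (Nat.ble (nat_lit 759) i))
noncomputable def t748_760 (i : ℕ) : ℕ := (@Bool.rec (fun _ => ℕ) (@Bool.rec (fun _ => ℕ) (@Bool.rec (fun _ => ℕ) l748 (t749_751 i) (Nat.ble (nat_lit 749) i)) (@Bool.rec (fun _ => ℕ) l751 (t752_754 i) (Nat.ble (nat_lit 752) i)) (Nat.ble (nat_lit 751) i)) (@Bool.rec (fun _ => ℕ) (@Bool.rec (fun _ => ℕ) l754 (t755_757 i) (Nat.ble (nat_lit 755) i)) (@Bool.rec (fun _ => ℕ) l757 (t758_760 i) (Nat.ble (nat_lit 758) i)) (Nat.ble (nat_lit 757)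 i)) (Nat.ble (nat_lit 754) i))
noncomputable def t763_765 (i : ℕ) : ℕ := (@Bool.rec (fun _ => ℕ) l763 l764 (Nat.ble (nat_lit 764) i))
noncomputable def t766_768 (i : ℕ) : ℕ := (@Bool.rec (fun _ => ℕ) l766 l767 (Nat.ble (nat_lit 767) i))
noncomputable def t769_771 (i : ℕ) : ℕ := (@Bool.rec (fun _ => ℕ) l769 l770 (Nat.ble (nat_lit 770) i))
noncomputable def t760_771 (i : ℕ) : ℕ := (@Bool.rec (fun _ => ℕ) (@Bool.rec (fun _ => ℕ) (@Bool.rec (fun _ => ℕ) l760 l761 (Nat.ble (nat_lit 761) i)) (@Bool.rec (fun _ => ℕ) l762 (t763_765 i) (Nat.ble (nat_lit 763) i)) (Nat.ble (nat_lit 762) i)) (@Bool.rec (fun _ => ℕ) (@Bool.rec (fun _ => ℕ) l765 (t766_768 i) (Nat.ble (nat_lit 766) i)) (@Bool.rec (fun _ => ℕ) l768 (t769_771 i) (Nat.ble (nat_lit 769) i)) (Nat.ble (nat_lit 768) i)) (Nat.ble (nat_lit 765) i))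
noncomputable def t772_774 (i : ℕ) : ℕ := (@Bool.rec (fun _ => ℕ) l772 l773 (Nat.ble (nat_lit 773) i))
noncomputable def t775_777 (i : ℕ) : ℕ := (@Bool.rec (fun _ => ℕ) l775 l776 (Nat.ble (nat_lit 776) i))
noncomputable def t778_780 (i : ℕ) : ℕ := (@Bool.rec (fun _ => ℕ) l778 l779 (Nat.ble (nat_lit 779) i))
noncomputable def t781_783 (i : ℕ) : ℕ := (@Bool.rec (fun _ => ℕ) l781 l782 (Nat.ble (nat_lit 782) i))
noncomputable def t771_783 (i : ℕ) : ℕ := (@Bool.rec (fun _ => ℕ) (@Bool.rec (fun _ => ℕ) (@Bool.rec (fun _ => ℕ) l771 (t772_774 i) (Nat.ble (nat_lit 772) i)) (@Bool.rec (fun _ => ℕ) l774 (t775_777 i) (Nat.ble (nat_lit 775) i)) (Nat.ble (nat_lit 774) i)) (@Bool.rec (fun _ => ℕ) (@Bool.rec (fun _ => ℕ) l777 (t778_780 i) (Nat.ble (nat_lit 778) i)) (@Bool.rec (fun _ => ℕ) l780 (t781_783 i) (Nat.ble (nat_lit 781) i)) (Nat.ble (nat_lit 780)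 i)) (Nat.ble (nat_lit 777) i))
noncomputable def t786_788 (i : ℕ) : ℕ := (@Bool.rec (fun _ => ℕ) l786 l787 (Nat.ble (nat_lit 787) i))
noncomputable def t789_791 (i : ℕ) : ℕ := (@Bool.rec (fun _ => ℕ) l789 l790 (Nat.ble (nat_lit 790) i))
noncomputable def t792_794 (i : ℕ) : ℕ := (@Bool.rec (fun _ => ℕ) l792 l793 (Nat.ble (nat_lit 793) i))
noncomputable def t783_794 (i : ℕ) : ℕ := (@Bool.rec (fun _ => ℕ) (@Bool.rec (fun _ => ℕ) (@Bool.rec (fun _ => ℕ) l783 l784 (Nat.ble (nat_lit 784) i)) (@Bool.rec (fun _ => ℕ) l785 (t786_788 i) (Nat.ble (nat_lit 786) i)) (Nat.ble (nat_lit 785) i)) (@Bool.rec (fun _ => ℕ) (@Bool.rec (fun _ => ℕ) l788 (t789_791 i) (Nat.ble (nat_lit 789) i)) (@Bool.rec (fun _ => ℕ) l791 (t792_794 i) (Nat.ble (nat_lit 792) i)) (Nat.ble (nat_lit 791) i)) (Nat.ble (nat_lit 788) i))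
noncomputable def t795_797 (i : ℕ) : ℕ := (@Bool.rec (fun _ => ℕ) l795 l796 (Nat.ble (nat_lit 796) i))
noncomputable def t798_800 (i : ℕ) : ℕ := (@Bool.rec (fun _ => ℕ) l798 l799 (Nat.ble (nat_lit 799) i))
noncomputable def t801_803 (i : ℕ) : ℕ := (@Bool.rec (fun _ => ℕ) l801 l802 (Nat.ble (nat_lit 802) i))
noncomputable def t804_806 (i : ℕ) : ℕ := (@Bool.rec (fun _ => ℕ) l804 l805 (Nat.ble (nat_lit 805) i))
noncomputable def t794_806 (i : ℕ) : ℕ := (@Bool.rec (fun _ => ℕ) (@Bool.rec (fun _ => ℕ) (@Bool.rec (fun _ => ℕ) l794 (t795_797 i) (Nat.ble (nat_lit 795) i)) (@Bool.rec (fun _ => ℕ) l797 (t798_800 i) (Nat.ble (nat_lit 798) i)) (Nat.ble (nat_lit 797) i)) (@Bool.rec (fun _ => ℕ) (@Bool.rec (fun _ => ℕ) l800 (t801_803 i) (Nat.ble (nat_lit 801) i)) (@Bool.rec (fun _ => ℕ) l803 (t804_806 i) (Nat.ble (nat_lit 804) i)) (Nat.ble (nat_lit 803)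 i)) (Nat.ble (nat_lit 800) i))
noncomputable def t809_811 (i : ℕ) : ℕ := (@Bool.rec (fun _ => ℕ) l809 l810 (Nat.ble (nat_lit 810) i))
noncomputable def t812_814 (i : ℕ) : ℕ := (@Bool.rec (fun _ => ℕ) l812 l813 (Nat.ble (nat_lit 813) i))
noncomputable def t815_817 (i : ℕ) : ℕ := (@Bool.rec (fun _ => ℕ) l815 l816 (Nat.ble (nat_lit 816) i))
noncomputable def t806_817 (i : ℕ) : ℕ := (@Bool.rec (fun _ => ℕ) (@Bool.rec (fun _ => ℕ) (@Bool.rec (fun _ => ℕ) l806 l807 (Nat.ble (nat_lit 807) i)) (@Bool.rec (fun _ => ℕ) l808 (t809_811 i) (Nat.ble (nat_lit 809) i)) (Nat.ble (nat_lit 808) i)) (@Bool.rec (fun _ => ℕ) (@Bool.rec (fun _ => ℕ) l811 (t812_814 i) (Nat.ble (nat_lit 812) i)) (@Bool.rec (fun _ => ℕ) l814 (t815_817 i) (Nat.ble (nat_lit 815) i)) (Nat.ble (nat_lit 814) i)) (Nat.ble (nat_lit 811) i))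
noncomputable def t818_820 (i : ℕ) : ℕ := (@Bool.rec (fun _ => ℕ) l818 l819 (Nat.ble (nat_lit 819) i))
noncomputable def t821_823 (i : ℕ) : ℕ := (@Bool.rec (fun _ => ℕ) l821 l822 (Nat.ble (nat_lit 822) i))
noncomputable def t824_826 (i : ℕ) : ℕ := (@Bool.rec (fun _ => ℕ) l824 l825 (Nat.ble (nat_lit 825) i))
noncomputable def t827_829 (i : ℕ) : ℕ := (@Bool.rec (fun _ => ℕ) l827 l828 (Nat.ble (nat_lit 828) i))
noncomputable def t817_829 (i : ℕ) : ℕ := (@Bool.rec (fun _ => ℕ) (@Bool.rec (fun _ => ℕ) (@Bool.rec (fun _ => ℕ) l817 (t818_820 i) (Nat.ble (nat_lit 818) i)) (@Bool.rec (fun _ => ℕ) l820 (t821_823 i) (Nat.ble (nat_lit 821) i)) (Nat.ble (nat_lit 820) i)) (@Bool.rec (fun _ => ℕ) (@Bool.rec (fun _ => ℕ) l823 (t824_826 i) (Nat.ble (nat_lit 824) i)) (@Bool.rec (fun _ => ℕ) l826 (t827_829 i) (Nat.ble (nat_lit 827) i)) (Nat.ble (nat_lit 826)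 i)) (Nat.ble (nat_lit 823) i))
noncomputable def t737_829 (i : ℕ) : ℕ := (@Bool.rec (fun _ => ℕ) (@Bool.rec (fun _ => ℕ) (@Bool.rec (fun _ => ℕ) (t737_748 i) (t748_760 i) (Nat.ble (nat_lit 748) i)) (@Bool.rec (fun _ => ℕ) (t760_771 i) (t771_783 i) (Nat.ble (nat_lit 771) i)) (Nat.ble (nat_lit 760) i)) (@Bool.rec (fun _ => ℕ) (@Bool.rec (fun _ => ℕ) (t783_794 i) (t794_806 i) (Nat.ble (nat_lit 794) i)) (@Bool.rec (fun _ => ℕ) (t806_817 i) (t817_829 i) (Nat.ble (nat_lit 817) i)) (Nat.ble (nat_lit 806) i)) (Nat.ble (nat_lit 783) i))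
noncomputable def t832_834 (i : ℕ) : ℕ := (@Bool.rec (fun _ => ℕ) l832 l833 (Nat.ble (nat_lit 833) i))
noncomputable def t835_837 (i : ℕ) : ℕ := (@Bool.rec (fun _ => ℕ) l835 l836 (Nat.ble (nat_lit 836) i))
noncomputable def t838_840 (i : ℕ) : ℕ := (@Bool.rec (fun _ => ℕ) l838 l839 (Nat.ble (nat_lit 839) i))
noncomputable def t829_840 (i : ℕ) : ℕ := (@Bool.rec (fun _ => ℕ) (@Bool.rec (fun _ => ℕ) (@Bool.rec (fun _ => ℕ) l829 l830 (Nat.ble (nat_lit 830) i)) (@Bool.rec (fun _ => ℕ) l831 (t832_834 i) (Nat.ble (nat_lit 832) i)) (Nat.ble (nat_lit 831) i)) (@Bool.rec (fun _ => ℕ) (@Bool.rec (fun _ => ℕ) l834 (t835_837 i) (Nat.ble (nat_lit 835) i)) (@Bool.rec (fun _ => ℕ) l837 (t838_840 i) (Nat.ble (nat_lit 838) i)) (Nat.ble (nat_lit 837) i)) (Nat.ble (nat_lit 834) i))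
noncomputable def t841_843 (i : ℕ) : ℕ := (@Bool.rec (fun _ => ℕ) l841 l842 (Nat.ble (nat_lit 842) i))
noncomputable def t844_846 (i : ℕ) : ℕ := (@Bool.rec (fun _ => ℕ) l844 l845 (Nat.ble (nat_lit 845) i))
noncomputable def t847_849 (i : ℕ) : ℕ := (@Bool.rec (fun _ => ℕ) l847 l848 (Nat.ble (nat_lit 848) i))
noncomputable def t850_852 (i : ℕ) : ℕ := (@Bool.rec (fun _ => ℕ) l850 l851 (Nat.ble (nat_lit 851) i))
noncomputable def t840_852 (i : ℕ) : ℕ := (@Bool.rec (fun _ => ℕ) (@Bool.rec (fun _ => ℕ) (@Bool.rec (fun _ => ℕ) l840 (t841_843 i) (Nat.ble (nat_lit 841) i)) (@Bool.rec (fun _ => ℕ) l843 (t844_846 i) (Nat.ble (nat_lit 844) i)) (Nat.ble (nat_lit 843) i)) (@Bool.rec (fun _ => ℕ) (@Bool.rec (fun _ => ℕ) l846 (t847_849 i) (Nat.ble (nat_lit 847) i)) (@Bool.rec (fun _ => ℕ) l849 (t850_852 i) (Nat.ble (nat_lit 850) i)) (Nat.ble (nat_lit 849)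 i)) (Nat.ble (nat_lit 846) i))
noncomputable def t855_857 (i : ℕ) : ℕ := (@Bool.rec (fun _ => ℕ) l855 l856 (Nat.ble (nat_lit 856) i))
noncomputable def t858_860 (i : ℕ) : ℕ := (@Bool.rec (fun _ => ℕ) l858 l859 (Nat.ble (nat_lit 859) i))
noncomputable def t861_863 (i : ℕ) : ℕ := (@Bool.rec (fun _ => ℕ) l861 l862 (Nat.ble (nat_lit 862) i))
noncomputable def t852_863 (i : ℕ) : ℕ := (@Bool.rec (fun _ => ℕ) (@Bool.rec (fun _ => ℕ) (@Bool.rec (fun _ => ℕ) l852 l853 (Nat.ble (nat_lit 853) i)) (@Bool.rec (fun _ => ℕ) l854 (t855_857 i) (Nat.ble (nat_lit 855) i)) (Nat.ble (nat_lit 854) i)) (@Bool.rec (fun _ => ℕ) (@Bool.rec (fun _ => ℕ) l857 (t858_860 i) (Nat.ble (nat_lit 858) i)) (@Bool.rec (fun _ => ℕ) l860 (t861_863 i) (Nat.ble (nat_lit 861) i)) (Nat.ble (nat_lit 860) i)) (Nat.ble (nat_lit 857) i))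
noncomputable def t864_866 (i : ℕ) : ℕ := (@Bool.rec (fun _ => ℕ) l864 l865 (Nat.ble (nat_lit 865) i))
noncomputable def t867_869 (i : ℕ) : ℕ := (@Bool.rec (fun _ => ℕ) l867 l868 (Nat.ble (nat_lit 868) i))
noncomputable def t870_872 (i : ℕ) : ℕ := (@Bool.rec (fun _ => ℕ) l870 l871 (Nat.ble (nat_lit 871) i))
noncomputable def t873_875 (i : ℕ) : ℕ := (@Bool.rec (fun _ => ℕ) l873 l874 (Nat.ble (nat_lit 874) i))
noncomputable def t863_875 (i : ℕ) : ℕ := (@Bool.rec (fun _ => ℕ) (@Bool.rec (fun _ => ℕ) (@Bool.rec (fun _ => ℕ) l863 (t864_866 i) (Nat.ble (nat_lit 864) i)) (@Bool.rec (fun _ => ℕ) l866 (t867_869 i) (Nat.ble (nat_lit 867) i)) (Nat.ble (nat_lit 866) i)) (@Bool.rec (fun _ => ℕ) (@Bool.rec (fun _ => ℕ) l869 (t870_872 i) (Nat.ble (nat_lit 870) i)) (@Bool.rec (fun _ => ℕ) l872 (t873_875 i) (Nat.ble (nat_lit 873) i)) (Nat.ble (nat_lit 872)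 i)) (Nat.ble (nat_lit 869) i))
noncomputable def t878_880 (i : ℕ) : ℕ := (@Bool.rec (fun _ => ℕ) l878 l879 (Nat.ble (nat_lit 879) i))
noncomputable def t881_883 (i : ℕ) : ℕ := (@Bool.rec (fun _ => ℕ) l881 l882 (Nat.ble (nat_lit 882) i))
noncomputable def t884_886 (i : ℕ) : ℕ := (@Bool.rec (fun _ => ℕ) l884 l885 (Nat.ble (nat_lit 885) i))
noncomputable def t875_886 (i : ℕ) : ℕ := (@Bool.rec (fun _ => ℕ) (@Bool.rec (fun _ => ℕ) (@Bool.rec (fun _ => ℕ) l875 l876 (Nat.ble (nat_lit 876) i)) (@Bool.rec (fun _ => ℕ) l877 (t878_880 i) (Nat.ble (nat_lit 878) i)) (Nat.ble (nat_lit 877) i)) (@Bool.rec (fun _ => ℕ) (@Bool.rec (fun _ => ℕ) l880 (t881_883 i) (Nat.ble (nat_lit 881) i)) (@Bool.rec (fun _ => ℕ) l883 (t884_886 i) (Nat.ble (nat_lit 884) i)) (Nat.ble (nat_lit 883) i)) (Nat.ble (nat_lit 880) i))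
noncomputable def t887_889 (i : ℕ) : ℕ := (@Bool.rec (fun _ => ℕ) l887 l888 (Nat.ble (nat_lit 888) i))
noncomputable def t890_892 (i : ℕ) : ℕ := (@Bool.rec (fun _ => ℕ) l890 l891 (Nat.ble (nat_lit 891) i))
noncomputable def t893_895 (i : ℕ) : ℕ := (@Bool.rec (fun _ => ℕ) l893 l894 (Nat.ble (nat_lit 894) i))
noncomputable def t896_898 (i : ℕ) : ℕ := (@Bool.rec (fun _ => ℕ) l896 l897 (Nat.ble (nat_lit 897) i))
noncomputable def t886_898 (i : ℕ) : ℕ := (@Bool.rec (fun _ => ℕ) (@Bool.rec (fun _ => ℕ) (@Bool.rec (fun _ => ℕ) l886 (t887_889 i) (Nat.ble (nat_lit 887) i)) (@Bool.rec (fun _ => ℕ) l889 (t890_892 i) (Nat.ble (nat_lit 890) i)) (Nat.ble (nat_lit 889) i)) (@Bool.rec (fun _ => ℕ) (@Bool.rec (fun _ => ℕ) l892 (t893_895 i) (Nat.ble (nat_lit 893) i)) (@Bool.rec (fun _ => ℕ) l895 (t896_898 i) (Nat.ble (nat_lit 896) i)) (Nat.ble (nat_lit 895)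 i)) (Nat.ble (nat_lit 892) i))
noncomputable def t901_903 (i : ℕ) : ℕ := (@Bool.rec (fun _ => ℕ) l901 l902 (Nat.ble (nat_lit 902) i))
noncomputable def t904_906 (i : ℕ) : ℕ := (@Bool.rec (fun _ => ℕ) l904 l905 (Nat.ble (nat_lit 905) i))
noncomputable def t907_909 (i : ℕ) : ℕ := (@Bool.rec (fun _ => ℕ) l907 l908 (Nat.ble (nat_lit 908) i))
noncomputable def t898_909 (i : ℕ) : ℕ := (@Bool.rec (fun _ => ℕ) (@Bool.rec (fun _ => ℕ) (@Bool.rec (fun _ => ℕ) l898 l899 (Nat.ble (nat_lit 899) i)) (@Bool.rec (fun _ => ℕ) l900 (t901_903 i) (Nat.ble (nat_lit 901) i)) (Nat.ble (nat_lit 900) i)) (@Bool.rec (fun _ => ℕ) (@Bool.rec (fun _ => ℕ) l903 (t904_906 i) (Nat.ble (nat_lit 904) i)) (@Bool.rec (fun _ => ℕ) l906 (t907_909 i) (Nat.ble (nat_lit 907) i)) (Nat.ble (nat_lit 906) i)) (Nat.ble (nat_lit 903) i))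
noncomputable def t910_912 (i : ℕ) : ℕ := (@Bool.rec (fun _ => ℕ) l910 l911 (Nat.ble (nat_lit 911) i))
noncomputable def t913_915 (i : ℕ) : ℕ := (@Bool.rec (fun _ => ℕ) l913 l914 (Nat.ble (nat_lit 914) i))
noncomputable def t916_918 (i : ℕ) : ℕ := (@Bool.rec (fun _ => ℕ) l916 l917 (Nat.ble (nat_lit 917) i))
noncomputable def t919_921 (i : ℕ) : ℕ := (@Bool.rec (fun _ => ℕ) l919 l920 (Nat.ble (nat_lit 920) i))
noncomputable def t909_921 (i : ℕ) : ℕ := (@Bool.rec (fun _ => ℕ) (@Bool.rec (fun _ => ℕ) (@Bool.rec (fun _ => ℕ) l909 (t910_912 i) (Nat.ble (nat_lit 910) i)) (@Bool.rec (fun _ => ℕ) l912 (t913_915 i) (Nat.ble (nat_lit 913) i)) (Nat.ble (nat_lit 912) i)) (@Bool.rec (fun _ => ℕ) (@Bool.rec (fun _ => ℕ) l915 (t916_918 i) (Nat.ble (nat_lit 916) i)) (@Bool.rec (fun _ => ℕ) l918 (t919_921 i) (Nat.ble (nat_lit 919) i)) (Nat.ble (nat_lit 918)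 i)) (Nat.ble (nat_lit 915) i))
noncomputable def t829_921 (i : ℕ) : ℕ := (@Bool.rec (fun _ => ℕ) (@Bool.rec (fun _ => ℕ) (@Bool.rec (fun _ => ℕ) (t829_840 i) (t840_852 i) (Nat.ble (nat_lit 840) i)) (@Bool.rec (fun _ => ℕ) (t852_863 i) (t863_875 i) (Nat.ble (nat_lit 863) i)) (Nat.ble (nat_lit 852) i)) (@Bool.rec (fun _ => ℕ) (@Bool.rec (fun _ => ℕ) (t875_886 i) (t886_898 i) (Nat.ble (nat_lit 886) i)) (@Bool.rec (fun _ => ℕ) (t898_909 i) (t909_921 i) (Nat.ble (nat_lit 909) i)) (Nat.ble (nat_lit 898) i)) (Nat.ble (nat_lit 875) i))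
noncomputable def t924_926 (i : ℕ) : ℕ := (@Bool.rec (fun _ => ℕ) l924 l925 (Nat.ble (nat_lit 925) i))
noncomputable def t927_929 (i : ℕ) : ℕ := (@Bool.rec (fun _ => ℕ) l927 l928 (Nat.ble (nat_lit 928) i))
noncomputable def t930_932 (i : ℕ) : ℕ := (@Bool.rec (fun _ => ℕ) l930 l931 (Nat.ble (nat_lit 931) i))
noncomputable def t921_932 (i : ℕ) : ℕ := (@Bool.rec (fun _ => ℕ) (@Bool.rec (fun _ => ℕ) (@Bool.rec (fun _ => ℕ) l921 l922 (Nat.ble (nat_lit 922) i)) (@Bool.rec (fun _ => ℕ) l923 (t924_926 i) (Nat.ble (nat_lit 924) i)) (Nat.ble (nat_lit 923) i)) (@Bool.rec (fun _ => ℕ) (@Bool.rec (fun _ => ℕ) l926 (t927_929 i) (Nat.ble (nat_lit 927) i)) (@Bool.rec (fun _ => ℕ) l929 (t930_932 i) (Nat.ble (nat_lit 930) i)) (Nat.ble (nat_lit 929) i)) (Nat.ble (nat_lit 926) i))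
noncomputable def t933_935 (i : ℕ) : ℕ := (@Bool.rec (fun _ => ℕ) l933 l934 (Nat.ble (nat_lit 934) i))
noncomputable def t936_938 (i : ℕ) : ℕ := (@Bool.rec (fun _ => ℕ) l936 l937 (Nat.ble (nat_lit 937) i))
noncomputable def t939_941 (i : ℕ) : ℕ := (@Bool.rec (fun _ => ℕ) l939 l940 (Nat.ble (nat_lit 940) i))
noncomputable def t942_944 (i : ℕ) : ℕ := (@Bool.rec (fun _ => ℕ) l942 l943 (Nat.ble (nat_lit 943) i))
noncomputable def t932_944 (i : ℕ) : ℕ := (@Bool.rec (fun _ => ℕ) (@Bool.rec (fun _ => ℕ) (@Bool.rec (fun _ => ℕ) l932 (t933_935 i) (Nat.ble (nat_lit 933) i)) (@Bool.rec (fun _ => ℕ) l935 (t936_938 i) (Nat.ble (nat_lit 936) i)) (Nat.ble (nat_lit 935) i)) (@Bool.rec (fun _ => ℕ) (@Bool.rec (fun _ => ℕ) l938 (t939_941 i) (Nat.ble (nat_lit 939) i)) (@Bool.rec (fun _ => ℕ) l941 (t942_944 i) (Nat.ble (nat_lit 942) i)) (Nat.ble (nat_lit 941)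 i)) (Nat.ble (nat_lit 938) i))
noncomputable def t947_949 (i : ℕ) : ℕ := (@Bool.rec (fun _ => ℕ) l947 l948 (Nat.ble (nat_lit 948) i))
noncomputable def t950_952 (i : ℕ) : ℕ := (@Bool.rec (fun _ => ℕ) l950 l951 (Nat.ble (nat_lit 951) i))
noncomputable def t953_955 (i : ℕ) : ℕ := (@Bool.rec (fun _ => ℕ) l953 l954 (Nat.ble (nat_lit 954) i))
noncomputable def t944_955 (i : ℕ) : ℕ := (@Bool.rec (fun _ => ℕ) (@Bool.rec (fun _ => ℕ) (@Bool.rec (fun _ => ℕ) l944 l945 (Nat.ble (nat_lit 945) i)) (@Bool.rec (fun _ => ℕ) l946 (t947_949 i) (Nat.ble (nat_lit 947) i)) (Nat.ble (nat_lit 946) i)) (@Bool.rec (fun _ => ℕ) (@Bool.rec (fun _ => ℕ) l949 (t950_952 i) (Nat.ble (nat_lit 950) i)) (@Bool.rec (fun _ => ℕ) l952 (t953_955 i) (Nat.ble (nat_lit 953) i)) (Nat.ble (nat_lit 952) i)) (Nat.ble (nat_lit 949) i))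
noncomputable def t956_958 (i : ℕ) : ℕ := (@Bool.rec (fun _ => ℕ) l956 l957 (Nat.ble (nat_lit 957) i))
noncomputable def t959_961 (i : ℕ) : ℕ := (@Bool.rec (fun _ => ℕ) l959 l960 (Nat.ble (nat_lit 960) i))
noncomputable def t962_964 (i : ℕ) : ℕ := (@Bool.rec (fun _ => ℕ) l962 l963 (Nat.ble (nat_lit 963) i))
noncomputable def t965_967 (i : ℕ) : ℕ := (@Bool.rec (fun _ => ℕ) l965 l966 (Nat.ble (nat_lit 966) i))
noncomputable def t955_967 (i : ℕ) : ℕ := (@Bool.rec (fun _ => ℕ) (@Bool.rec (fun _ => ℕ) (@Bool.rec (fun _ => ℕ) l955 (t956_958 i) (Nat.ble (nat_lit 956) i)) (@Bool.rec (fun _ => ℕ) l958 (t959_961 i) (Nat.ble (nat_lit 959) i)) (Nat.ble (nat_lit 958) i)) (@Bool.rec (fun _ => ℕ) (@Bool.rec (fun _ => ℕ) l961 (t962_964 i) (Nat.ble (nat_lit 962) i)) (@Bool.rec (fun _ => ℕ) l964 (t965_967 i) (Nat.ble (nat_lit 965) i)) (Nat.ble (nat_lit 964)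 i)) (Nat.ble (nat_lit 961) i))
noncomputable def t970_972 (i : ℕ) : ℕ := (@Bool.rec (fun _ => ℕ) l970 l971 (Nat.ble (nat_lit 971) i))
noncomputable def t973_975 (i : ℕ) : ℕ := (@Bool.rec (fun _ => ℕ) l973 l974 (Nat.ble (nat_lit 974) i))
noncomputable def t976_978 (i : ℕ) : ℕ := (@Bool.rec (fun _ => ℕ) l976 l977 (Nat.ble (nat_lit 977) i))
noncomputable def t967_978 (i : ℕ) : ℕ := (@Bool.rec (fun _ => ℕ) (@Bool.rec (fun _ => ℕ) (@Bool.rec (fun _ => ℕ) l967 l968 (Nat.ble (nat_lit 968) i)) (@Bool.rec (fun _ => ℕ) l969 (t970_972 i) (Nat.ble (nat_lit 970) i)) (Nat.ble (nat_lit 969) i)) (@Bool.rec (fun _ => ℕ) (@Bool.rec (fun _ => ℕ) l972 (t973_975 i) (Nat.ble (nat_lit 973) i)) (@Bool.rec (fun _ => ℕ) l975 (t976_978 i) (Nat.ble (nat_lit 976) i)) (Nat.ble (nat_lit 975) i)) (Nat.ble (nat_lit 972) i))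
noncomputable def t979_981 (i : ℕ) : ℕ := (@Bool.rec (fun _ => ℕ) l979 l980 (Nat.ble (nat_lit 980) i))
noncomputable def t982_984 (i : ℕ) : ℕ := (@Bool.rec (fun _ => ℕ) l982 l983 (Nat.ble (nat_lit 983) i))
noncomputable def t985_987 (i : ℕ) : ℕ := (@Bool.rec (fun _ => ℕ) l985 l986 (Nat.ble (nat_lit 986) i))
noncomputable def t988_990 (i : ℕ) : ℕ := (@Bool.rec (fun _ => ℕ) l988 l989 (Nat.ble (nat_lit 989) i))
noncomputable def t978_990 (i : ℕ) : ℕ := (@Bool.rec (fun _ => ℕ) (@Bool.rec (fun _ => ℕ) (@Bool.rec (fun _ => ℕ) l978 (t979_981 i) (Nat.ble (nat_lit 979) i)) (@Bool.rec (fun _ => ℕ) l981 (t982_984 i) (Nat.ble (nat_lit 982) i)) (Nat.ble (nat_lit 981) i)) (@Bool.rec (fun _ => ℕ) (@Bool.rec (fun _ => ℕ) l984 (t985_987 i) (Nat.ble (nat_lit 985) i)) (@Bool.rec (fun _ => ℕ) l987 (t988_990 i) (Nat.ble (nat_lit 988) i)) (Nat.ble (nat_lit 987)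 i)) (Nat.ble (nat_lit 984) i))
noncomputable def t993_995 (i : ℕ) : ℕ := (@Bool.rec (fun _ => ℕ) l993 l994 (Nat.ble (nat_lit 994) i))
noncomputable def t996_998 (i : ℕ) : ℕ := (@Bool.rec (fun _ => ℕ) l996 l997 (Nat.ble (nat_lit 997) i))
noncomputable def t999_1001 (i : ℕ) : ℕ := (@Bool.rec (fun _ => ℕ) l999 l1000 (Nat.ble (nat_lit 1000) i))
noncomputable def t990_1001 (i : ℕ) : ℕ := (@Bool.rec (fun _ => ℕ) (@Bool.rec (fun _ => ℕ) (@Bool.rec (fun _ => ℕ) l990 l991 (Nat.ble (nat_lit 991) i)) (@Bool.rec (fun _ => ℕ) l992 (t993_995 i) (Nat.ble (nat_lit 993) i)) (Nat.ble (nat_lit 992) i)) (@Bool.rec (fun _ => ℕ) (@Bool.rec (fun _ => ℕ) l995 (t996_998 i) (Nat.ble (nat_lit 996) i)) (@Bool.rec (fun _ => ℕ) l998 (t999_1001 i) (Nat.ble (nat_lit 999) i)) (Nat.ble (nat_lit 998) i)) (Nat.ble (nat_lit 995) i))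
noncomputable def t1002_1004 (i : ℕ) : ℕ := (@Bool.rec (fun _ => ℕ) l1002 l1003 (Nat.ble (nat_lit 1003) i))
noncomputable def t1005_1007 (i : ℕ) : ℕ := (@Bool.rec (fun _ => ℕ) l1005 l1006 (Nat.ble (nat_lit 1006) i))
noncomputable def t1008_1010 (i : ℕ) : ℕ := (@Bool.rec (fun _ => ℕ) l1008 l1009 (Nat.ble (nat_lit 1009) i))
noncomputable def t1011_1013 (i : ℕ) : ℕ := (@Bool.rec (fun _ => ℕ) l1011 l1012 (Nat.ble (nat_lit 1012) i))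
noncomputable def t1001_1013 (i : ℕ) : ℕ := (@Bool.rec (fun _ => ℕ) (@Bool.rec (fun _ => ℕ) (@Bool.rec (fun _ => ℕ) l1001 (t1002_1004 i) (Nat.ble (nat_lit 1002) i)) (@Bool.rec (fun _ => ℕ) l1004 (t1005_1007 i) (Nat.ble (nat_lit 1005) i)) (Nat.ble (nat_lit 1004) i)) (@Bool.rec (fun _ => ℕ) (@Bool.rec (fun _ => ℕ) l1007 (t1008_1010 i) (Nat.ble (nat_lit 1008) i)) (@Bool.rec (fun _ => ℕ) l1010 (t1011_1013 i) (Nat.ble (nat_lit 1011) i)) (Nat.ble (nat_lit 1010) i)) (Nat.ble (nat_lit 1007) i))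
noncomputable def t921_1013 (i : ℕ) : ℕ := (@Bool.rec (fun _ => ℕ) (@Bool.rec (fun _ => ℕ) (@Bool.rec (fun _ => ℕ) (t921_932 i) (t932_944 i) (Nat.ble (nat_lit 932) i)) (@Bool.rec (fun _ => ℕ) (t944_955 i) (t955_967 i) (Nat.ble (nat_lit 955) i)) (Nat.ble (nat_lit 944) i)) (@Bool.rec (fun _ => ℕ) (@Bool.rec (fun _ => ℕ) (t967_978 i) (t978_990 i) (Nat.ble (nat_lit 978) i)) (@Bool.rec (fun _ => ℕ) (t990_1001 i) (t1001_1013 i) (Nat.ble (nat_lit 1001) i)) (Nat.ble (nat_lit 990) i)) (Nat.ble (nat_lit 967) i))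
noncomputable def t1016_1018 (i : ℕ) : ℕ := (@Bool.rec (fun _ => ℕ) l1016 l1017 (Nat.ble (nat_lit 1017) i))
noncomputable def t1019_1021 (i : ℕ) : ℕ := (@Bool.rec (fun _ => ℕ) l1019 l1020 (Nat.ble (nat_lit 1020) i))
noncomputable def t1022_1024 (i : ℕ) : ℕ := (@Bool.rec (fun _ => ℕ) l1022 l1023 (Nat.ble (nat_lit 1023) i))
noncomputable def t1013_1024 (i : ℕ) : ℕ := (@Bool.rec (fun _ => ℕ) (@Bool.rec (fun _ => ℕ) (@Bool.rec (fun _ => ℕ) l1013 l1014 (Nat.ble (nat_lit 1014) i)) (@Bool.rec (fun _ => ℕ) l1015 (t1016_1018 i) (Nat.ble (nat_lit 1016) i)) (Nat.ble (nat_lit 1015) i)) (@Bool.rec (fun _ => ℕ) (@Bool.rec (fun _ => ℕ) l1018 (t1019_1021 i) (Nat.ble (nat_lit 1019) i)) (@Bool.rec (fun _ => ℕ) l1021 (t1022_1024 i) (Nat.ble (nat_lit 1022) i)) (Nat.ble (nat_lit 1021) i)) (Nat.ble (nat_lit 1018) i))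
noncomputable def t1025_1027 (i : ℕ) : ℕ := (@Bool.rec (fun _ => ℕ) l1025 l1026 (Nat.ble (nat_lit 1026) i))
noncomputable def t1028_1030 (i : ℕ) : ℕ := (@Bool.rec (fun _ => ℕ) l1028 l1029 (Nat.ble (nat_lit 1029) i))
noncomputable def t1031_1033 (i : ℕ) : ℕ := (@Bool.rec (fun _ => ℕ) l1031 l1032 (Nat.ble (nat_lit 1032) i))
noncomputable def t1034_1036 (i : ℕ) : ℕ := (@Bool.rec (fun _ => ℕ) l1034 l1035 (Nat.ble (nat_lit 1035) i))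
noncomputable def t1024_1036 (i : ℕ) : ℕ := (@Bool.rec (fun _ => ℕ) (@Bool.rec (fun _ => ℕ) (@Bool.rec (fun _ => ℕ) l1024 (t1025_1027 i) (Nat.ble (nat_lit 1025) i)) (@Bool.rec (fun _ => ℕ) l1027 (t1028_1030 i) (Nat.ble (nat_lit 1028) i)) (Nat.ble (nat_lit 1027) i)) (@Bool.rec (fun _ => ℕ) (@Bool.rec (fun _ => ℕ) l1030 (t1031_1033 i) (Nat.ble (nat_lit 1031) i)) (@Bool.rec (fun _ => ℕ) l1033 (t1034_1036 i) (Nat.ble (nat_lit 1034) i)) (Nat.ble (nat_lit 1033) i)) (Nat.ble (nat_lit 1030) i))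
noncomputable def t1039_1041 (i : ℕ) : ℕ := (@Bool.rec (fun _ => ℕ) l1039 l1040 (Nat.ble (nat_lit 1040) i))
noncomputable def t1042_1044 (i : ℕ) : ℕ := (@Bool.rec (fun _ => ℕ) l1042 l1043 (Nat.ble (nat_lit 1043) i))
noncomputable def t1045_1047 (i : ℕ) : ℕ := (@Bool.rec (fun _ => ℕ) l1045 l1046 (Nat.ble (nat_lit 1046) i))
noncomputable def t1036_1047 (i : ℕ) : ℕ := (@Bool.rec (fun _ => ℕ) (@Bool.rec (fun _ => ℕ) (@Bool.rec (fun _ => ℕ) l1036 l1037 (Nat.ble (nat_lit 1037) i)) (@Bool.rec (fun _ => ℕ) l1038 (t1039_1041 i) (Nat.ble (nat_lit 1039) i)) (Nat.ble (nat_lit 1038) i)) (@Bool.rec (fun _ => ℕ) (@Bool.rec (fun _ => ℕ) l1041 (t1042_1044 i) (Nat.ble (nat_lit 1042) i)) (@Bool.rec (fun _ => ℕ) l1044 (t1045_1047 i) (Nat.ble (nat_lit 1045) i)) (Nat.ble (nat_lit 1044) i)) (Nat.ble (nat_lit 1041) i))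
noncomputable def t1048_1050 (i : ℕ) : ℕ := (@Bool.rec (fun _ => ℕ) l1048 l1049 (Nat.ble (nat_lit 1049) i))
noncomputable def t1051_1053 (i : ℕ) : ℕ := (@Bool.rec (fun _ => ℕ) l1051 l1052 (Nat.ble (nat_lit 1052) i))
noncomputable def t1054_1056 (i : ℕ) : ℕ := (@Bool.rec (fun _ => ℕ) l1054 l1055 (Nat.ble (nat_lit 1055) i))
noncomputable def t1057_1059 (i : ℕ) : ℕ := (@Bool.rec (fun _ => ℕ) l1057 l1058 (Nat.ble (nat_lit 1058) i))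
noncomputable def t1047_1059 (i : ℕ) : ℕ := (@Bool.rec (fun _ => ℕ) (@Bool.rec (fun _ => ℕ) (@Bool.rec (fun _ => ℕ) l1047 (t1048_1050 i) (Nat.ble (nat_lit 1048) i)) (@Bool.rec (fun _ => ℕ) l1050 (t1051_1053 i) (Nat.ble (nat_lit 1051) i)) (Nat.ble (nat_lit 1050) i)) (@Bool.rec (fun _ => ℕ) (@Bool.rec (fun _ => ℕ) l1053 (t1054_1056 i) (Nat.ble (nat_lit 1054) i)) (@Bool.rec (fun _ => ℕ) l1056 (t1057_1059 i) (Nat.ble (nat_lit 1057) i)) (Nat.ble (nat_lit 1056) i)) (Nat.ble (nat_lit 1053) i))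
noncomputable def t1062_1064 (i : ℕ) : ℕ := (@Bool.rec (fun _ => ℕ) l1062 l1063 (Nat.ble (nat_lit 1063) i))
noncomputable def t1065_1067 (i : ℕ) : ℕ := (@Bool.rec (fun _ => ℕ) l1065 l1066 (Nat.ble (nat_lit 1066) i))
noncomputable def t1068_1070 (i : ℕ) : ℕ := (@Bool.rec (fun _ => ℕ) l1068 l1069 (Nat.ble (nat_lit 1069) i))
noncomputable def t1059_1070 (i : ℕ) : ℕ := (@Bool.rec (fun _ => ℕ) (@Bool.rec (fun _ => ℕ) (@Bool.rec (fun _ => ℕ) l1059 l1060 (Nat.ble (nat_lit 1060) i)) (@Bool.rec (fun _ => ℕ) l1061 (t1062_1064 i) (Nat.ble (nat_lit 1062) i)) (Nat.ble (nat_lit 1061) i)) (@Bool.rec (fun _ => ℕ) (@Bool.rec (fun _ => ℕ) l1064 (t1065_1067 i) (Nat.ble (nat_lit 1065) i)) (@Bool.rec (fun _ => ℕ) l1067 (t1068_1070 i) (Nat.ble (nat_lit 1068) i)) (Nat.ble (nat_lit 1067) i)) (Nat.ble (nat_lit 1064) i))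
noncomputable def t1071_1073 (i : ℕ) : ℕ := (@Bool.rec (fun _ => ℕ) l1071 l1072 (Nat.ble (nat_lit 1072) i))
noncomputable def t1074_1076 (i : ℕ) : ℕ := (@Bool.rec (fun _ => ℕ) l1074 l1075 (Nat.ble (nat_lit 1075) i))
noncomputable def t1077_1079 (i : ℕ) : ℕ := (@Bool.rec (fun _ => ℕ) l1077 l1078 (Nat.ble (nat_lit 1078) i))
noncomputable def t1080_1082 (i : ℕ) : ℕ := (@Bool.rec (fun _ => ℕ) l1080 l1081 (Nat.ble (nat_lit 1081) i))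
noncomputable def t1070_1082 (i : ℕ) : ℕ := (@Bool.rec (fun _ => ℕ) (@Bool.rec (fun _ => ℕ) (@Bool.rec (fun _ => ℕ) l1070 (t1071_1073 i) (Nat.ble (nat_lit 1071) i)) (@Bool.rec (fun _ => ℕ) l1073 (t1074_1076 i) (Nat.ble (nat_lit 1074) i)) (Nat.ble (nat_lit 1073) i)) (@Bool.rec (fun _ => ℕ) (@Bool.rec (fun _ => ℕ) l1076 (t1077_1079 i) (Nat.ble (nat_lit 1077) i)) (@Bool.rec (fun _ => ℕ) l1079 (t1080_1082 i) (Nat.ble (nat_lit 1080) i)) (Nat.ble (nat_lit 1079) i)) (Nat.ble (nat_lit 1076) i))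
noncomputable def t1083_1085 (i : ℕ) : ℕ := (@Bool.rec (fun _ => ℕ) l1083 l1084 (Nat.ble (nat_lit 1084) i))
noncomputable def t1086_1088 (i : ℕ) : ℕ := (@Bool.rec (fun _ => ℕ) l1086 l1087 (Nat.ble (nat_lit 1087) i))
noncomputable def t1089_1091 (i : ℕ) : ℕ := (@Bool.rec (fun _ => ℕ) l1089 l1090 (Nat.ble (nat_lit 1090) i))
noncomputable def t1092_1094 (i : ℕ) : ℕ := (@Bool.rec (fun _ => ℕ) l1092 l1093 (Nat.ble (nat_lit 1093) i))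
noncomputable def t1082_1094 (i : ℕ) : ℕ := (@Bool.rec (fun _ => ℕ) (@Bool.rec (fun _ => ℕ) (@Bool.rec (fun _ => ℕ) l1082 (t1083_1085 i) (Nat.ble (nat_lit 1083) i)) (@Bool.rec (fun _ => ℕ) l1085 (t1086_1088 i) (Nat.ble (nat_lit 1086) i)) (Nat.ble (nat_lit 1085) i)) (@Bool.rec (fun _ => ℕ) (@Bool.rec (fun _ => ℕ) l1088 (t1089_1091 i) (Nat.ble (nat_lit 1089) i)) (@Bool.rec (fun _ => ℕ) l1091 (t1092_1094 i) (Nat.ble (nat_lit 1092) i)) (Nat.ble (nat_lit 1091) i)) (Nat.ble (nat_lit 1088) i))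
noncomputable def t1095_1097 (i : ℕ) : ℕ := (@Bool.rec (fun _ => ℕ) l1095 l1096 (Nat.ble (nat_lit 1096) i))
noncomputable def t1098_1100 (i : ℕ) : ℕ := (@Bool.rec (fun _ => ℕ) l1098 l1099 (Nat.ble (nat_lit 1099) i))
noncomputable def t1101_1103 (i : ℕ) : ℕ := (@Bool.rec (fun _ => ℕ) l1101 l1102 (Nat.ble (nat_lit 1102) i))
noncomputable def t1104_1106 (i : ℕ) : ℕ := (@Bool.rec (fun _ => ℕ) l1104 l1105 (Nat.ble (nat_lit 1105) i))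
noncomputable def t1094_1106 (i : ℕ) : ℕ := (@Bool.rec (fun _ => ℕ) (@Bool.rec (fun _ => ℕ) (@Bool.rec (fun _ => ℕ) l1094 (t1095_1097 i) (Nat.ble (nat_lit 1095) i)) (@Bool.rec (fun _ => ℕ) l1097 (t1098_1100 i) (Nat.ble (nat_lit 1098) i)) (Nat.ble (nat_lit 1097) i)) (@Bool.rec (fun _ => ℕ) (@Bool.rec (fun _ => ℕ) l1100 (t1101_1103 i) (Nat.ble (nat_lit 1101) i)) (@Bool.rec (fun _ => ℕ) l1103 (t1104_1106 i) (Nat.ble (nat_lit 1104) i)) (Nat.ble (nat_lit 1103) i)) (Nat.ble (nat_lit 1100) i))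
noncomputable def t1013_1106 (i : ℕ) : ℕ := (@Bool.rec (fun _ => ℕ) (@Bool.rec (fun _ => ℕ) (@Bool.rec (fun _ => ℕ) (t1013_1024 i) (t1024_1036 i) (Nat.ble (nat_lit 1024) i)) (@Bool.rec (fun _ => ℕ) (t1036_1047 i) (t1047_1059 i) (Nat.ble (nat_lit 1047) i)) (Nat.ble (nat_lit 1036) i)) (@Bool.rec (fun _ => ℕ) (@Bool.rec (fun _ => ℕ) (t1059_1070 i) (t1070_1082 i) (Nat.ble (nat_lit 1070) i)) (@Bool.rec (fun _ => ℕ) (t1082_1094 i) (t1094_1106 i) (Nat.ble (nat_lit 1094) i)) (Nat.ble (nat_lit 1082) i)) (Nat.ble (nat_lit 1059) i))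
noncomputable def t1109_1111 (i : ℕ) : ℕ := (@Bool.rec (fun _ => ℕ) l1109 l1110 (Nat.ble (nat_lit 1110) i))
noncomputable def t1112_1114 (i : ℕ) : ℕ := (@Bool.rec (fun _ => ℕ) l1112 l1113 (Nat.ble (nat_lit 1113) i))
noncomputable def t1115_1117 (i : ℕ) : ℕ := (@Bool.rec (fun _ => ℕ) l1115 l1116 (Nat.ble (nat_lit 1116) i))
noncomputable def t1106_1117 (i : ℕ) : ℕ := (@Bool.rec (fun _ => ℕ) (@Bool.rec (fun _ => ℕ) (@Bool.rec (fun _ => ℕ) l1106 l1107 (Nat.ble (nat_lit 1107) i)) (@Bool.rec (fun _ => ℕ) l1108 (t1109_1111 i) (Nat.ble (nat_lit 1109) i)) (Nat.ble (nat_lit 1108) i)) (@Bool.rec (fun _ => ℕ) (@Bool.rec (fun _ => ℕ) l1111 (t1112_1114 i) (Nat.ble (nat_lit 1112) i)) (@Bool.rec (fun _ => ℕ) l1114 (t1115_1117 i) (Nat.ble (nat_lit 1115) i)) (Nat.ble (nat_lit 1114) i)) (Nat.ble (nat_lit 1111) i))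
noncomputable def t1118_1120 (i : ℕ) : ℕ := (@Bool.rec (fun _ => ℕ) l1118 l1119 (Nat.ble (nat_lit 1119) i))
noncomputable def t1121_1123 (i : ℕ) : ℕ := (@Bool.rec (fun _ => ℕ) l1121 l1122 (Nat.ble (nat_lit 1122) i))
noncomputable def t1124_1126 (i : ℕ) : ℕ := (@Bool.rec (fun _ => ℕ) l1124 l1125 (Nat.ble (nat_lit 1125) i))
noncomputable def t1127_1129 (i : ℕ) : ℕ := (@Bool.rec (fun _ => ℕ) l1127 l1128 (Nat.ble (nat_lit 1128) i))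
noncomputable def t1117_1129 (i : ℕ) : ℕ := (@Bool.rec (fun _ => ℕ) (@Bool.rec (fun _ => ℕ) (@Bool.rec (fun _ => ℕ) l1117 (t1118_1120 i) (Nat.ble (nat_lit 1118) i)) (@Bool.rec (fun _ => ℕ) l1120 (t1121_1123 i) (Nat.ble (nat_lit 1121) i)) (Nat.ble (nat_lit 1120) i)) (@Bool.rec (fun _ => ℕ) (@Bool.rec (fun _ => ℕ) l1123 (t1124_1126 i) (Nat.ble (nat_lit 1124) i)) (@Bool.rec (fun _ => ℕ) l1126 (t1127_1129 i) (Nat.ble (nat_lit 1127) i)) (Nat.ble (nat_lit 1126) i)) (Nat.ble (nat_lit 1123) i))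
noncomputable def t1132_1134 (i : ℕ) : ℕ := (@Bool.rec (fun _ => ℕ) l1132 l1133 (Nat.ble (nat_lit 1133) i))
noncomputable def t1135_1137 (i : ℕ) : ℕ := (@Bool.rec (fun _ => ℕ) l1135 l1136 (Nat.ble (nat_lit 1136) i))
noncomputable def t1138_1140 (i : ℕ) : ℕ := (@Bool.rec (fun _ => ℕ) l1138 l1139 (Nat.ble (nat_lit 1139) i))
noncomputable def t1129_1140 (i : ℕ) : ℕ := (@Bool.rec (fun _ => ℕ) (@Bool.rec (fun _ => ℕ) (@Bool.rec (fun _ => ℕ) l1129 l1130 (Nat.ble (nat_lit 1130) i)) (@Bool.rec (fun _ => ℕ) l1131 (t1132_1134 i) (Nat.ble (nat_lit 1132) i)) (Nat.ble (nat_lit 1131) i)) (@Bool.rec (fun _ => ℕ) (@Bool.rec (fun _ => ℕ) l1134 (t1135_1137 i) (Nat.ble (nat_lit 1135) i)) (@Bool.rec (fun _ => ℕ) l1137 (t1138_1140 i) (Nat.ble (nat_lit 1138) i)) (Nat.ble (nat_lit 1137) i)) (Nat.ble (nat_lit 1134) i))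
noncomputable def t1141_1143 (i : ℕ) : ℕ := (@Bool.rec (fun _ => ℕ) l1141 l1142 (Nat.ble (nat_lit 1142) i))
noncomputable def t1144_1146 (i : ℕ) : ℕ := (@Bool.rec (fun _ => ℕ) l1144 l1145 (Nat.ble (nat_lit 1145) i))
noncomputable def t1147_1149 (i : ℕ) : ℕ := (@Bool.rec (fun _ => ℕ) l1147 l1148 (Nat.ble (nat_lit 1148) i))
noncomputable def t1150_1152 (i : ℕ) : ℕ := (@Bool.rec (fun _ => ℕ) l1150 l1151 (Nat.ble (nat_lit 1151) i))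
noncomputable def t1140_1152 (i : ℕ) : ℕ := (@Bool.rec (fun _ => ℕ) (@Bool.rec (fun _ => ℕ) (@Bool.rec (fun _ => ℕ) l1140 (t1141_1143 i) (Nat.ble (nat_lit 1141) i)) (@Bool.rec (fun _ => ℕ) l1143 (t1144_1146 i) (Nat.ble (nat_lit 1144) i)) (Nat.ble (nat_lit 1143) i)) (@Bool.rec (fun _ => ℕ) (@Bool.rec (fun _ => ℕ) l1146 (t1147_1149 i) (Nat.ble (nat_lit 1147) i)) (@Bool.rec (fun _ => ℕ) l1149 (t1150_1152 i) (Nat.ble (nat_lit 1150) i)) (Nat.ble (nat_lit 1149) i)) (Nat.ble (nat_lit 1146) i))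
noncomputable def t1155_1157 (i : ℕ) : ℕ := (@Bool.rec (fun _ => ℕ) l1155 l1156 (Nat.ble (nat_lit 1156) i))
noncomputable def t1158_1160 (i : ℕ) : ℕ := (@Bool.rec (fun _ => ℕ) l1158 l1159 (Nat.ble (nat_lit 1159) i))
noncomputable def t1161_1163 (i : ℕ) : ℕ := (@Bool.rec (fun _ => ℕ) l1161 l1162 (Nat.ble (nat_lit 1162) i))
noncomputable def t1152_1163 (i : ℕ) : ℕ := (@Bool.rec (fun _ => ℕ) (@Bool.rec (fun _ => ℕ) (@Bool.rec (fun _ => ℕ) l1152 l1153 (Nat.ble (nat_lit 1153) i)) (@Bool.rec (fun _ => ℕ) l1154 (t1155_1157 i) (Nat.ble (nat_lit 1155) i)) (Nat.ble (nat_lit 1154) i)) (@Bool.rec (fun _ => ℕ) (@Bool.rec (fun _ => ℕ) l1157 (t1158_1160 i) (Nat.ble (nat_lit 1158) i)) (@Bool.rec (fun _ => ℕ) l1160 (t1161_1163 i) (Nat.ble (nat_lit 1161) i)) (Nat.ble (nat_lit 1160) i)) (Nat.ble (nat_lit 1157) i))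
noncomputable def t1164_1166 (i : ℕ) : ℕ := (@Bool.rec (fun _ => ℕ) l1164 l1165 (Nat.ble (nat_lit 1165) i))
noncomputable def t1167_1169 (i : ℕ) : ℕ := (@Bool.rec (fun _ => ℕ) l1167 l1168 (Nat.ble (nat_lit 1168) i))
noncomputable def t1170_1172 (i : ℕ) : ℕ := (@Bool.rec (fun _ => ℕ) l1170 l1171 (Nat.ble (nat_lit 1171) i))
noncomputable def t1173_1175 (i : ℕ) : ℕ := (@Bool.rec (fun _ => ℕ) l1173 l1174 (Nat.ble (nat_lit 1174) i))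
noncomputable def t1163_1175 (i : ℕ) : ℕ := (@Bool.rec (fun _ => ℕ) (@Bool.rec (fun _ => ℕ) (@Bool.rec (fun _ => ℕ) l1163 (t1164_1166 i) (Nat.ble (nat_lit 1164) i)) (@Bool.rec (fun _ => ℕ) l1166 (t1167_1169 i) (Nat.ble (nat_lit 1167) i)) (Nat.ble (nat_lit 1166) i)) (@Bool.rec (fun _ => ℕ) (@Bool.rec (fun _ => ℕ) l1169 (t1170_1172 i) (Nat.ble (nat_lit 1170) i)) (@Bool.rec (fun _ => ℕ) l1172 (t1173_1175 i) (Nat.ble (nat_lit 1173) i)) (Nat.ble (nat_lit 1172) i)) (Nat.ble (nat_lit 1169) i))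
noncomputable def t1178_1180 (i : ℕ) : ℕ := (@Bool.rec (fun _ => ℕ) l1178 l1179 (Nat.ble (nat_lit 1179) i))
noncomputable def t1181_1183 (i : ℕ) : ℕ := (@Bool.rec (fun _ => ℕ) l1181 l1182 (Nat.ble (nat_lit 1182) i))
noncomputable def t1184_1186 (i : ℕ) : ℕ := (@Bool.rec (fun _ => ℕ) l1184 l1185 (Nat.ble (nat_lit 1185) i))
noncomputable def t1175_1186 (i : ℕ) : ℕ := (@Bool.rec (fun _ => ℕ) (@Bool.rec (fun _ => ℕ) (@Bool.rec (fun _ => ℕ) l1175 l1176 (Nat.ble (nat_lit 1176) i)) (@Bool.rec (fun _ => ℕ) l1177 (t1178_1180 i) (Nat.ble (nat_lit 1178) i)) (Nat.ble (nat_lit 1177) i)) (@Bool.rec (fun _ => ℕ) (@Bool.rec (fun _ => ℕ) l1180 (t1181_1183 i) (Nat.ble (nat_lit 1181) i)) (@Bool.rec (fun _ => ℕ) l1183 (t1184_1186 i) (Nat.ble (nat_lit 1184) i)) (Nat.ble (nat_lit 1183) i)) (Nat.ble (nat_lit 1180) i))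
noncomputable def t1187_1189 (i : ℕ) : ℕ := (@Bool.rec (fun _ => ℕ) l1187 l1188 (Nat.ble (nat_lit 1188) i))
noncomputable def t1190_1192 (i : ℕ) : ℕ := (@Bool.rec (fun _ => ℕ) l1190 l1191 (Nat.ble (nat_lit 1191) i))
noncomputable def t1193_1195 (i : ℕ) : ℕ := (@Bool.rec (fun _ => ℕ) l1193 l1194 (Nat.ble (nat_lit 1194) i))
noncomputable def t1196_1198 (i : ℕ) : ℕ := (@Bool.rec (fun _ => ℕ) l1196 l1197 (Nat.ble (nat_lit 1197) i))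
noncomputable def t1186_1198 (i : ℕ) : ℕ := (@Bool.rec (fun _ => ℕ) (@Bool.rec (fun _ => ℕ) (@Bool.rec (fun _ => ℕ) l1186 (t1187_1189 i) (Nat.ble (nat_lit 1187) i)) (@Bool.rec (fun _ => ℕ) l1189 (t1190_1192 i) (Nat.ble (nat_lit 1190) i)) (Nat.ble (nat_lit 1189) i)) (@Bool.rec (fun _ => ℕ) (@Bool.rec (fun _ => ℕ) l1192 (t1193_1195 i) (Nat.ble (nat_lit 1193) i)) (@Bool.rec (fun _ => ℕ) l1195 (t1196_1198 i) (Nat.ble (nat_lit 1196) i)) (Nat.ble (nat_lit 1195) i)) (Nat.ble (nat_lit 1192) i))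
noncomputable def t1106_1198 (i : ℕ) : ℕ := (@Bool.rec (fun _ => ℕ) (@Bool.rec (fun _ => ℕ) (@Bool.rec (fun _ => ℕ) (t1106_1117 i) (t1117_1129 i) (Nat.ble (nat_lit 1117) i)) (@Bool.rec (fun _ => ℕ) (t1129_1140 i) (t1140_1152 i) (Nat.ble (nat_lit 1140) i)) (Nat.ble (nat_lit 1129) i)) (@Bool.rec (fun _ => ℕ) (@Bool.rec (fun _ => ℕ) (t1152_1163 i) (t1163_1175 i) (Nat.ble (nat_lit 1163) i)) (@Bool.rec (fun _ => ℕ) (t1175_1186 i) (t1186_1198 i) (Nat.ble (nat_lit 1186) i)) (Nat.ble (nat_lit 1175) i)) (Nat.ble (nat_lit 1152) i))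
noncomputable def t1201_1203 (i : ℕ) : ℕ := (@Bool.rec (fun _ => ℕ) l1201 l1202 (Nat.ble (nat_lit 1202) i))
noncomputable def t1204_1206 (i : ℕ) : ℕ := (@Bool.rec (fun _ => ℕ) l1204 l1205 (Nat.ble (nat_lit 1205) i))
noncomputable def t1207_1209 (i : ℕ) : ℕ := (@Bool.rec (fun _ => ℕ) l1207 l1208 (Nat.ble (nat_lit 1208) i))
noncomputable def t1198_1209 (i : ℕ) : ℕ := (@Bool.rec (fun _ => ℕ) (@Bool.rec (fun _ => ℕ) (@Bool.rec (fun _ => ℕ) l1198 l1199 (Nat.ble (nat_lit 1199) i)) (@Bool.rec (fun _ => ℕ) l1200 (t1201_1203 i) (Nat.ble (nat_lit 1201) i)) (Nat.ble (nat_lit 1200) i)) (@Bool.rec (fun _ => ℕ) (@Bool.rec (fun _ => ℕ) l1203 (t1204_1206 i) (Nat.ble (nat_lit 1204) i)) (@Bool.rec (fun _ => ℕ) l1206 (t1207_1209 i) (Nat.ble (nat_lit 1207) i)) (Nat.ble (nat_lit 1206) i)) (Nat.ble (nat_lit 1203) i))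
noncomputable def t1210_1212 (i : ℕ) : ℕ := (@Bool.rec (fun _ => ℕ) l1210 l1211 (Nat.ble (nat_lit 1211) i))
noncomputable def t1213_1215 (i : ℕ) : ℕ := (@Bool.rec (fun _ => ℕ) l1213 l1214 (Nat.ble (nat_lit 1214) i))
noncomputable def t1216_1218 (i : ℕ) : ℕ := (@Bool.rec (fun _ => ℕ) l1216 l1217 (Nat.ble (nat_lit 1217) i))
noncomputable def t1219_1221 (i : ℕ) : ℕ := (@Bool.rec (fun _ => ℕ) l1219 l1220 (Nat.ble (nat_lit 1220) i))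
noncomputable def t1209_1221 (i : ℕ) : ℕ := (@Bool.rec (fun _ => ℕ) (@Bool.rec (fun _ => ℕ) (@Bool.rec (fun _ => ℕ) l1209 (t1210_1212 i) (Nat.ble (nat_lit 1210) i)) (@Bool.rec (fun _ => ℕ) l1212 (t1213_1215 i) (Nat.ble (nat_lit 1213) i)) (Nat.ble (nat_lit 1212) i)) (@Bool.rec (fun _ => ℕ) (@Bool.rec (fun _ => ℕ) l1215 (t1216_1218 i) (Nat.ble (nat_lit 1216) i)) (@Bool.rec (fun _ => ℕ) l1218 (t1219_1221 i) (Nat.ble (nat_lit 1219) i)) (Nat.ble (nat_lit 1218) i)) (Nat.ble (nat_lit 1215) i))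
noncomputable def t1224_1226 (i : ℕ) : ℕ := (@Bool.rec (fun _ => ℕ) l1224 l1225 (Nat.ble (nat_lit 1225) i))
noncomputable def t1227_1229 (i : ℕ) : ℕ := (@Bool.rec (fun _ => ℕ) l1227 l1228 (Nat.ble (nat_lit 1228) i))
noncomputable def t1230_1232 (i : ℕ) : ℕ := (@Bool.rec (fun _ => ℕ) l1230 l1231 (Nat.ble (nat_lit 1231) i))
noncomputable def t1221_1232 (i : ℕ) : ℕ := (@Bool.rec (fun _ => ℕ) (@Bool.rec (fun _ => ℕ) (@Bool.rec (fun _ => ℕ) l1221 l1222 (Nat.ble (nat_lit 1222) i)) (@Bool.rec (fun _ => ℕ) l1223 (t1224_1226 i) (Nat.ble (nat_lit 1224) i)) (Nat.ble (nat_lit 1223) i)) (@Bool.rec (fun _ => ℕ) (@Bool.rec (fun _ => ℕ) l1226 (t1227_1229 i) (Nat.ble (nat_lit 1227) i)) (@Bool.rec (fun _ => ℕ) l1229 (t1230_1232 i) (Nat.ble (nat_lit 1230) i)) (Nat.ble (nat_lit 1229) i)) (Nat.ble (nat_lit 1226) i))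
noncomputable def t1233_1235 (i : ℕ) : ℕ := (@Bool.rec (fun _ => ℕ) l1233 l1234 (Nat.ble (nat_lit 1234) i))
noncomputable def t1236_1238 (i : ℕ) : ℕ := (@Bool.rec (fun _ => ℕ) l1236 l1237 (Nat.ble (nat_lit 1237) i))
noncomputable def t1239_1241 (i : ℕ) : ℕ := (@Bool.rec (fun _ => ℕ) l1239 l1240 (Nat.ble (nat_lit 1240) i))
noncomputable def t1242_1244 (i : ℕ) : ℕ := (@Bool.rec (fun _ => ℕ) l1242 l1243 (Nat.ble (nat_lit 1243) i))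
noncomputable def t1232_1244 (i : ℕ) : ℕ := (@Bool.rec (fun _ => ℕ) (@Bool.rec (fun _ => ℕ) (@Bool.rec (fun _ => ℕ) l1232 (t1233_1235 i) (Nat.ble (nat_lit 1233) i)) (@Bool.rec (fun _ => ℕ) l1235 (t1236_1238 i) (Nat.ble (nat_lit 1236) i)) (Nat.ble (nat_lit 1235) i)) (@Bool.rec (fun _ => ℕ) (@Bool.rec (fun _ => ℕ) l1238 (t1239_1241 i) (Nat.ble (nat_lit 1239) i)) (@Bool.rec (fun _ => ℕ) l1241 (t1242_1244 i) (Nat.ble (nat_lit 1242) i)) (Nat.ble (nat_lit 1241) i)) (Nat.ble (nat_lit 1238) i))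
noncomputable def t1247_1249 (i : ℕ) : ℕ := (@Bool.rec (fun _ => ℕ) l1247 l1248 (Nat.ble (nat_lit 1248) i))
noncomputable def t1250_1252 (i : ℕ) : ℕ := (@Bool.rec (fun _ => ℕ) l1250 l1251 (Nat.ble (nat_lit 1251) i))
noncomputable def t1253_1255 (i : ℕ) : ℕ := (@Bool.rec (fun _ => ℕ) l1253 l1254 (Nat.ble (nat_lit 1254) i))
noncomputable def t1244_1255 (i : ℕ) : ℕ := (@Bool.rec (fun _ => ℕ) (@Bool.rec (fun _ => ℕ) (@Bool.rec (fun _ => ℕ) l1244 l1245 (Nat.ble (nat_lit 1245) i)) (@Bool.rec (fun _ => ℕ) l1246 (t1247_1249 i) (Nat.ble (nat_lit 1247) i)) (Nat.ble (nat_lit 1246) i)) (@Bool.rec (fun _ => ℕ) (@Bool.rec (fun _ => ℕ) l1249 (t1250_1252 i) (Nat.ble (nat_lit 1250) i)) (@Bool.rec (fun _ => ℕ) l1252 (t1253_1255 i) (Nat.ble (nat_lit 1253) i)) (Nat.ble (nat_lit 1252) i)) (Nat.ble (nat_lit 1249) i))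
noncomputable def t1256_1258 (i : ℕ) : ℕ := (@Bool.rec (fun _ => ℕ) l1256 l1257 (Nat.ble (nat_lit 1257) i))
noncomputable def t1259_1261 (i : ℕ) : ℕ := (@Bool.rec (fun _ => ℕ) l1259 l1260 (Nat.ble (nat_lit 1260) i))
noncomputable def t1262_1264 (i : ℕ) : ℕ := (@Bool.rec (fun _ => ℕ) l1262 l1263 (Nat.ble (nat_lit 1263) i))
noncomputable def t1265_1267 (i : ℕ) : ℕ := (@Bool.rec (fun _ => ℕ) l1265 l1266 (Nat.ble (nat_lit 1266) i))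
noncomputable def t1255_1267 (i : ℕ) : ℕ := (@Bool.rec (fun _ => ℕ) (@Bool.rec (fun _ => ℕ) (@Bool.rec (fun _ => ℕ) l1255 (t1256_1258 i) (Nat.ble (nat_lit 1256) i)) (@Bool.rec (fun _ => ℕ) l1258 (t1259_1261 i) (Nat.ble (nat_lit 1259) i)) (Nat.ble (nat_lit 1258) i)) (@Bool.rec (fun _ => ℕ) (@Bool.rec (fun _ => ℕ) l1261 (t1262_1264 i) (Nat.ble (nat_lit 1262) i)) (@Bool.rec (fun _ => ℕ) l1264 (t1265_1267 i) (Nat.ble (nat_lit 1265) i)) (Nat.ble (nat_lit 1264) i)) (Nat.ble (nat_lit 1261) i))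
noncomputable def t1270_1272 (i : ℕ) : ℕ := (@Bool.rec (fun _ => ℕ) l1270 l1271 (Nat.ble (nat_lit 1271) i))
noncomputable def t1273_1275 (i : ℕ) : ℕ := (@Bool.rec (fun _ => ℕ) l1273 l1274 (Nat.ble (nat_lit 1274) i))
noncomputable def t1276_1278 (i : ℕ) : ℕ := (@Bool.rec (fun _ => ℕ) l1276 l1277 (Nat.ble (nat_lit 1277) i))
noncomputable def t1267_1278 (i : ℕ) : ℕ := (@Bool.rec (fun _ => ℕ) (@Bool.rec (fun _ => ℕ) (@Bool.rec (fun _ => ℕ) l1267 l1268 (Nat.ble (nat_lit 1268) i)) (@Bool.rec (fun _ => ℕ) l1269 (t1270_1272 i) (Nat.ble (nat_lit 1270) i)) (Nat.ble (nat_lit 1269) i)) (@Bool.rec (fun _ => ℕ) (@Bool.rec (fun _ => ℕ) l1272 (t1273_1275 i) (Nat.ble (nat_lit 1273) i)) (@Bool.rec (fun _ => ℕ) l1275 (t1276_1278 i) (Nat.ble (nat_lit 1276) i)) (Nat.ble (nat_lit 1275) i)) (Nat.ble (nat_lit 1272) i))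
noncomputable def t1279_1281 (i : ℕ) : ℕ := (@Bool.rec (fun _ => ℕ) l1279 l1280 (Nat.ble (nat_lit 1280) i))
noncomputable def t1282_1284 (i : ℕ) : ℕ := (@Bool.rec (fun _ => ℕ) l1282 l1283 (Nat.ble (nat_lit 1283) i))
noncomputable def t1285_1287 (i : ℕ) : ℕ := (@Bool.rec (fun _ => ℕ) l1285 l1286 (Nat.ble (nat_lit 1286) i))
noncomputable def t1288_1290 (i : ℕ) : ℕ := (@Bool.rec (fun _ => ℕ) l1288 l1289 (Nat.ble (nat_lit 1289) i))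
noncomputable def t1278_1290 (i : ℕ) : ℕ := (@Bool.rec (fun _ => ℕ) (@Bool.rec (fun _ => ℕ) (@Bool.rec (fun _ => ℕ) l1278 (t1279_1281 i) (Nat.ble (nat_lit 1279) i)) (@Bool.rec (fun _ => ℕ) l1281 (t1282_1284 i) (Nat.ble (nat_lit 1282) i)) (Nat.ble (nat_lit 1281) i)) (@Bool.rec (fun _ => ℕ) (@Bool.rec (fun _ => ℕ) l1284 (t1285_1287 i) (Nat.ble (nat_lit 1285) i)) (@Bool.rec (fun _ => ℕ) l1287 (t1288_1290 i) (Nat.ble (nat_lit 1288) i)) (Nat.ble (nat_lit 1287) i)) (Nat.ble (nat_lit 1284) i))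
noncomputable def t1198_1290 (i : ℕ) : ℕ := (@Bool.rec (fun _ => ℕ) (@Bool.rec (fun _ => ℕ) (@Bool.rec (fun _ => ℕ) (t1198_1209 i) (t1209_1221 i) (Nat.ble (nat_lit 1209) i)) (@Bool.rec (fun _ => ℕ) (t1221_1232 i) (t1232_1244 i) (Nat.ble (nat_lit 1232) i)) (Nat.ble (nat_lit 1221) i)) (@Bool.rec (fun _ => ℕ) (@Bool.rec (fun _ => ℕ) (t1244_1255 i) (t1255_1267 i) (Nat.ble (nat_lit 1255) i)) (@Bool.rec (fun _ => ℕ) (t1267_1278 i) (t1278_1290 i) (Nat.ble (nat_lit 1278) i)) (Nat.ble (nat_lit 1267) i)) (Nat.ble (nat_lit 1244) i))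
noncomputable def t1293_1295 (i : ℕ) : ℕ := (@Bool.rec (fun _ => ℕ) l1293 l1294 (Nat.ble (nat_lit 1294) i))
noncomputable def t1296_1298 (i : ℕ) : ℕ := (@Bool.rec (fun _ => ℕ) l1296 l1297 (Nat.ble (nat_lit 1297) i))
noncomputable def t1299_1301 (i : ℕ) : ℕ := (@Bool.rec (fun _ => ℕ) l1299 l1300 (Nat.ble (nat_lit 1300) i))
noncomputable def t1290_1301 (i : ℕ) : ℕ := (@Bool.rec (fun _ => ℕ) (@Bool.rec (fun _ => ℕ) (@Bool.rec (fun _ => ℕ) l1290 l1291 (Nat.ble (nat_lit 1291) i)) (@Bool.rec (fun _ => ℕ) l1292 (t1293_1295 i) (Nat.ble (nat_lit 1293) i)) (Nat.ble (nat_lit 1292) i)) (@Bool.rec (fun _ => ℕ) (@Bool.rec (fun _ => ℕ) l1295 (t1296_1298 i) (Nat.ble (nat_lit 1296) i)) (@Bool.rec (fun _ => ℕ) l1298 (t1299_1301 i) (Nat.ble (nat_lit 1299) i)) (Nat.ble (nat_lit 1298) i)) (Nat.ble (nat_lit 1295) i))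
noncomputable def t1302_1304 (i : ℕ) : ℕ := (@Bool.rec (fun _ => ℕ) l1302 l1303 (Nat.ble (nat_lit 1303) i))
noncomputable def t1305_1307 (i : ℕ) : ℕ := (@Bool.rec (fun _ => ℕ) l1305 l1306 (Nat.ble (nat_lit 1306) i))
noncomputable def t1308_1310 (i : ℕ) : ℕ := (@Bool.rec (fun _ => ℕ) l1308 l1309 (Nat.ble (nat_lit 1309) i))
noncomputable def t1311_1313 (i : ℕ) : ℕ := (@Bool.rec (fun _ => ℕ) l1311 l1312 (Nat.ble (nat_lit 1312) i))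
noncomputable def t1301_1313 (i : ℕ) : ℕ := (@Bool.rec (fun _ => ℕ) (@Bool.rec (fun _ => ℕ) (@Bool.rec (fun _ => ℕ) l1301 (t1302_1304 i) (Nat.ble (nat_lit 1302) i)) (@Bool.rec (fun _ => ℕ) l1304 (t1305_1307 i) (Nat.ble (nat_lit 1305) i)) (Nat.ble (nat_lit 1304) i)) (@Bool.rec (fun _ => ℕ) (@Bool.rec (fun _ => ℕ) l1307 (t1308_1310 i) (Nat.ble (nat_lit 1308) i)) (@Bool.rec (fun _ => ℕ) l1310 (t1311_1313 i) (Nat.ble (nat_lit 1311) i)) (Nat.ble (nat_lit 1310) i)) (Nat.ble (nat_lit 1307) i))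
noncomputable def t1316_1318 (i : ℕ) : ℕ := (@Bool.rec (fun _ => ℕ) l1316 l1317 (Nat.ble (nat_lit 1317) i))
noncomputable def t1319_1321 (i : ℕ) : ℕ := (@Bool.rec (fun _ => ℕ) l1319 l1320 (Nat.ble (nat_lit 1320) i))
noncomputable def t1322_1324 (i : ℕ) : ℕ := (@Bool.rec (fun _ => ℕ) l1322 l1323 (Nat.ble (nat_lit 1323) i))
noncomputable def t1313_1324 (i : ℕ) : ℕ := (@Bool.rec (fun _ => ℕ) (@Bool.rec (fun _ => ℕ) (@Bool.rec (fun _ => ℕ) l1313 l1314 (Nat.ble (nat_lit 1314) i)) (@Bool.rec (fun _ => ℕ) l1315 (t1316_1318 i) (Nat.ble (nat_lit 1316) i)) (Nat.ble (nat_lit 1315) i)) (@Bool.rec (fun _ => ℕ) (@Bool.rec (fun _ => ℕ) l1318 (t1319_1321 i) (Nat.ble (nat_lit 1319) i)) (@Bool.rec (fun _ => ℕ) l1321 (t1322_1324 i) (Nat.ble (nat_lit 1322) i)) (Nat.ble (nat_lit 1321) i)) (Nat.ble (nat_lit 1318) i))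
noncomputable def t1325_1327 (i : ℕ) : ℕ := (@Bool.rec (fun _ => ℕ) l1325 l1326 (Nat.ble (nat_lit 1326) i))
noncomputable def t1328_1330 (i : ℕ) : ℕ := (@Bool.rec (fun _ => ℕ) l1328 l1329 (Nat.ble (nat_lit 1329) i))
noncomputable def t1331_1333 (i : ℕ) : ℕ := (@Bool.rec (fun _ => ℕ) l1331 l1332 (Nat.ble (nat_lit 1332) i))
noncomputable def t1334_1336 (i : ℕ) : ℕ := (@Bool.rec (fun _ => ℕ) l1334 l1335 (Nat.ble (nat_lit 1335) i))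
noncomputable def t1324_1336 (i : ℕ) : ℕ := (@Bool.rec (fun _ => ℕ) (@Bool.rec (fun _ => ℕ) (@Bool.rec (fun _ => ℕ) l1324 (t1325_1327 i) (Nat.ble (nat_lit 1325) i)) (@Bool.rec (fun _ => ℕ) l1327 (t1328_1330 i) (Nat.ble (nat_lit 1328) i)) (Nat.ble (nat_lit 1327) i)) (@Bool.rec (fun _ => ℕ) (@Bool.rec (fun _ => ℕ) l1330 (t1331_1333 i) (Nat.ble (nat_lit 1331) i)) (@Bool.rec (fun _ => ℕ) l1333 (t1334_1336 i) (Nat.ble (nat_lit 1334) i)) (Nat.ble (nat_lit 1333) i)) (Nat.ble (nat_lit 1330) i))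
noncomputable def t1339_1341 (i : ℕ) : ℕ := (@Bool.rec (fun _ => ℕ) l1339 l1340 (Nat.ble (nat_lit 1340) i))
noncomputable def t1342_1344 (i : ℕ) : ℕ := (@Bool.rec (fun _ => ℕ) l1342 l1343 (Nat.ble (nat_lit 1343) i))
noncomputable def t1345_1347 (i : ℕ) : ℕ := (@Bool.rec (fun _ => ℕ) l1345 l1346 (Nat.ble (nat_lit 1346) i))
noncomputable def t1336_1347 (i : ℕ) : ℕ := (@Bool.rec (fun _ => ℕ) (@Bool.rec (fun _ => ℕ) (@Bool.rec (fun _ => ℕ) l1336 l1337 (Nat.ble (nat_lit 1337) i)) (@Bool.rec (fun _ => ℕ) l1338 (t1339_1341 i) (Nat.ble (nat_lit 1339) i)) (Nat.ble (nat_lit 1338) i)) (@Bool.rec (fun _ => ℕ) (@Bool.rec (fun _ => ℕ) l1341 (t1342_1344 i) (Nat.ble (nat_lit 1342) i)) (@Bool.rec (fun _ => ℕ) l1344 (t1345_1347 i) (Nat.ble (nat_lit 1345) i)) (Nat.ble (nat_lit 1344) i)) (Nat.ble (nat_lit 1341) i))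
noncomputable def t1348_1350 (i : ℕ) : ℕ := (@Bool.rec (fun _ => ℕ) l1348 l1349 (Nat.ble (nat_lit 1349) i))
noncomputable def t1351_1353 (i : ℕ) : ℕ := (@Bool.rec (fun _ => ℕ) l1351 l1352 (Nat.ble (nat_lit 1352) i))
noncomputable def t1354_1356 (i : ℕ) : ℕ := (@Bool.rec (fun _ => ℕ) l1354 l1355 (Nat.ble (nat_lit 1355) i))
noncomputable def t1357_1359 (i : ℕ) : ℕ := (@Bool.rec (fun _ => ℕ) l1357 l1358 (Nat.ble (nat_lit 1358) i))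
noncomputable def t1347_1359 (i : ℕ) : ℕ := (@Bool.rec (fun _ => ℕ) (@Bool.rec (fun _ => ℕ) (@Bool.rec (fun _ => ℕ) l1347 (t1348_1350 i) (Nat.ble (nat_lit 1348) i)) (@Bool.rec (fun _ => ℕ) l1350 (t1351_1353 i) (Nat.ble (nat_lit 1351) i)) (Nat.ble (nat_lit 1350) i)) (@Bool.rec (fun _ => ℕ) (@Bool.rec (fun _ => ℕ) l1353 (t1354_1356 i) (Nat.ble (nat_lit 1354) i)) (@Bool.rec (fun _ => ℕ) l1356 (t1357_1359 i) (Nat.ble (nat_lit 1357) i)) (Nat.ble (nat_lit 1356) i)) (Nat.ble (nat_lit 1353) i))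
noncomputable def t1362_1364 (i : ℕ) : ℕ := (@Bool.rec (fun _ => ℕ) l1362 l1363 (Nat.ble (nat_lit 1363) i))
noncomputable def t1365_1367 (i : ℕ) : ℕ := (@Bool.rec (fun _ => ℕ) l1365 l1366 (Nat.ble (nat_lit 1366) i))
noncomputable def t1368_1370 (i : ℕ) : ℕ := (@Bool.rec (fun _ => ℕ) l1368 l1369 (Nat.ble (nat_lit 1369) i))
noncomputable def t1359_1370 (i : ℕ) : ℕ := (@Bool.rec (fun _ => ℕ) (@Bool.rec (fun _ => ℕ) (@Bool.rec (fun _ => ℕ) l1359 l1360 (Nat.ble (nat_lit 1360) i)) (@Bool.rec (fun _ => ℕ) l1361 (t1362_1364 i) (Nat.ble (nat_lit 1362) i)) (Nat.ble (nat_lit 1361) i)) (@Bool.rec (fun _ => ℕ) (@Bool.rec (fun _ => ℕ) l1364 (t1365_1367 i) (Nat.ble (nat_lit 1365) i)) (@Bool.rec (fun _ => ℕ) l1367 (t1368_1370 i) (Nat.ble (nat_lit 1368) i)) (Nat.ble (nat_lit 1367) i)) (Nat.ble (nat_lit 1364) i))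
noncomputable def t1371_1373 (i : ℕ) : ℕ := (@Bool.rec (fun _ => ℕ) l1371 l1372 (Nat.ble (nat_lit 1372) i))
noncomputable def t1374_1376 (i : ℕ) : ℕ := (@Bool.rec (fun _ => ℕ) l1374 l1375 (Nat.ble (nat_lit 1375) i))
noncomputable def t1377_1379 (i : ℕ) : ℕ := (@Bool.rec (fun _ => ℕ) l1377 l1378 (Nat.ble (nat_lit 1378) i))
noncomputable def t1380_1382 (i : ℕ) : ℕ := (@Bool.rec (fun _ => ℕ) l1380 l1381 (Nat.ble (nat_lit 1381) i))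
noncomputable def t1370_1382 (i : ℕ) : ℕ := (@Bool.rec (fun _ => ℕ) (@Bool.rec (fun _ => ℕ) (@Bool.rec (fun _ => ℕ) l1370 (t1371_1373 i) (Nat.ble (nat_lit 1371) i)) (@Bool.rec (fun _ => ℕ) l1373 (t1374_1376 i) (Nat.ble (nat_lit 1374) i)) (Nat.ble (nat_lit 1373) i)) (@Bool.rec (fun _ => ℕ) (@Bool.rec (fun _ => ℕ) l1376 (t1377_1379 i) (Nat.ble (nat_lit 1377) i)) (@Bool.rec (fun _ => ℕ) l1379 (t1380_1382 i) (Nat.ble (nat_lit 1380) i)) (Nat.ble (nat_lit 1379) i)) (Nat.ble (nat_lit 1376) i))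
noncomputable def t1290_1382 (i : ℕ) : ℕ := (@Bool.rec (fun _ => ℕ) (@Bool.rec (fun _ => ℕ) (@Bool.rec (fun _ => ℕ) (t1290_1301 i) (t1301_1313 i) (Nat.ble (nat_lit 1301) i)) (@Bool.rec (fun _ => ℕ) (t1313_1324 i) (t1324_1336 i) (Nat.ble (nat_lit 1324) i)) (Nat.ble (nat_lit 1313) i)) (@Bool.rec (fun _ => ℕ) (@Bool.rec (fun _ => ℕ) (t1336_1347 i) (t1347_1359 i) (Nat.ble (nat_lit 1347) i)) (@Bool.rec (fun _ => ℕ) (t1359_1370 i) (t1370_1382 i) (Nat.ble (nat_lit 1370) i)) (Nat.ble (nat_lit 1359) i)) (Nat.ble (nat_lit 1336) i))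
noncomputable def t1385_1387 (i : ℕ) : ℕ := (@Bool.rec (fun _ => ℕ) l1385 l1386 (Nat.ble (nat_lit 1386) i))
noncomputable def t1388_1390 (i : ℕ) : ℕ := (@Bool.rec (fun _ => ℕ) l1388 l1389 (Nat.ble (nat_lit 1389) i))
noncomputable def t1391_1393 (i : ℕ) : ℕ := (@Bool.rec (fun _ => ℕ) l1391 l1392 (Nat.ble (nat_lit 1392) i))
noncomputable def t1382_1393 (i : ℕ) : ℕ := (@Bool.rec (fun _ => ℕ) (@Bool.rec (fun _ => ℕ) (@Bool.rec (fun _ => ℕ) l1382 l1383 (Nat.ble (nat_lit 1383) i)) (@Bool.rec (fun _ => ℕ) l1384 (t1385_1387 i) (Nat.ble (nat_lit 1385) i)) (Nat.ble (nat_lit 1384) i)) (@Bool.rec (fun _ => ℕ) (@Bool.rec (fun _ => ℕ) l1387 (t1388_1390 i) (Nat.ble (nat_lit 1388) i)) (@Bool.rec (fun _ => ℕ) l1390 (t1391_1393 i) (Nat.ble (nat_lit 1391) i)) (Nat.ble (nat_lit 1390) i)) (Nat.ble (nat_lit 1387) i))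
noncomputable def t1394_1396 (i : ℕ) : ℕ := (@Bool.rec (fun _ => ℕ) l1394 l1395 (Nat.ble (nat_lit 1395) i))
noncomputable def t1397_1399 (i : ℕ) : ℕ := (@Bool.rec (fun _ => ℕ) l1397 l1398 (Nat.ble (nat_lit 1398) i))
noncomputable def t1400_1402 (i : ℕ) : ℕ := (@Bool.rec (fun _ => ℕ) l1400 l1401 (Nat.ble (nat_lit 1401) i))
noncomputable def t1403_1405 (i : ℕ) : ℕ := (@Bool.rec (fun _ => ℕ) l1403 l1404 (Nat.ble (nat_lit 1404) i))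
noncomputable def t1393_1405 (i : ℕ) : ℕ := (@Bool.rec (fun _ => ℕ) (@Bool.rec (fun _ => ℕ) (@Bool.rec (fun _ => ℕ) l1393 (t1394_1396 i) (Nat.ble (nat_lit 1394) i)) (@Bool.rec (fun _ => ℕ) l1396 (t1397_1399 i) (Nat.ble (nat_lit 1397) i)) (Nat.ble (nat_lit 1396) i)) (@Bool.rec (fun _ => ℕ) (@Bool.rec (fun _ => ℕ) l1399 (t1400_1402 i) (Nat.ble (nat_lit 1400) i)) (@Bool.rec (fun _ => ℕ) l1402 (t1403_1405 i) (Nat.ble (nat_lit 1403) i)) (Nat.ble (nat_lit 1402) i)) (Nat.ble (nat_lit 1399) i))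
noncomputable def t1408_1410 (i : ℕ) : ℕ := (@Bool.rec (fun _ => ℕ) l1408 l1409 (Nat.ble (nat_lit 1409) i))
noncomputable def t1411_1413 (i : ℕ) : ℕ := (@Bool.rec (fun _ => ℕ) l1411 l1412 (Nat.ble (nat_lit 1412) i))
noncomputable def t1414_1416 (i : ℕ) : ℕ := (@Bool.rec (fun _ => ℕ) l1414 l1415 (Nat.ble (nat_lit 1415) i))
noncomputable def t1405_1416 (i : ℕ) : ℕ := (@Bool.rec (fun _ => ℕ) (@Bool.rec (fun _ => ℕ) (@Bool.rec (fun _ => ℕ) l1405 l1406 (Nat.ble (nat_lit 1406) i)) (@Bool.rec (fun _ => ℕ) l1407 (t1408_1410 i) (Nat.ble (nat_lit 1408) i)) (Nat.ble (nat_lit 1407) i)) (@Bool.rec (fun _ => ℕ) (@Bool.rec (fun _ => ℕ) l1410 (t1411_1413 i) (Nat.ble (nat_lit 1411) i)) (@Bool.rec (fun _ => ℕ) l1413 (t1414_1416 i) (Nat.ble (nat_lit 1414) i)) (Nat.ble (nat_lit 1413) i)) (Nat.ble (nat_lit 1410) i))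
noncomputable def t1417_1419 (i : ℕ) : ℕ := (@Bool.rec (fun _ => ℕ) l1417 l1418 (Nat.ble (nat_lit 1418) i))
noncomputable def t1420_1422 (i : ℕ) : ℕ := (@Bool.rec (fun _ => ℕ) l1420 l1421 (Nat.ble (nat_lit 1421) i))
noncomputable def t1423_1425 (i : ℕ) : ℕ := (@Bool.rec (fun _ => ℕ) l1423 l1424 (Nat.ble (nat_lit 1424) i))
noncomputable def t1426_1428 (i : ℕ) : ℕ := (@Bool.rec (fun _ => ℕ) l1426 l1427 (Nat.ble (nat_lit 1427) i))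
noncomputable def t1416_1428 (i : ℕ) : ℕ := (@Bool.rec (fun _ => ℕ) (@Bool.rec (fun _ => ℕ) (@Bool.rec (fun _ => ℕ) l1416 (t1417_1419 i) (Nat.ble (nat_lit 1417) i)) (@Bool.rec (fun _ => ℕ) l1419 (t1420_1422 i) (Nat.ble (nat_lit 1420) i)) (Nat.ble (nat_lit 1419) i)) (@Bool.rec (fun _ => ℕ) (@Bool.rec (fun _ => ℕ) l1422 (t1423_1425 i) (Nat.ble (nat_lit 1423) i)) (@Bool.rec (fun _ => ℕ) l1425 (t1426_1428 i) (Nat.ble (nat_lit 1426) i)) (Nat.ble (nat_lit 1425) i)) (Nat.ble (nat_lit 1422) i))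
noncomputable def t1431_1433 (i : ℕ) : ℕ := (@Bool.rec (fun _ => ℕ) l1431 l1432 (Nat.ble (nat_lit 1432) i))
noncomputable def t1434_1436 (i : ℕ) : ℕ := (@Bool.rec (fun _ => ℕ) l1434 l1435 (Nat.ble (nat_lit 1435) i))
noncomputable def t1437_1439 (i : ℕ) : ℕ := (@Bool.rec (fun _ => ℕ) l1437 l1438 (Nat.ble (nat_lit 1438) i))
noncomputable def t1428_1439 (i : ℕ) : ℕ := (@Bool.rec (fun _ => ℕ) (@Bool.rec (fun _ => ℕ) (@Bool.rec (fun _ => ℕ) l1428 l1429 (Nat.ble (nat_lit 1429) i)) (@Bool.rec (fun _ => ℕ) l1430 (t1431_1433 i) (Nat.ble (nat_lit 1431) i)) (Nat.ble (nat_lit 1430) i)) (@Bool.rec (fun _ => ℕ) (@Bool.rec (fun _ => ℕ) l1433 (t1434_1436 i) (Nat.ble (nat_lit 1434) i)) (@Bool.rec (fun _ => ℕ) l1436 (t1437_1439 i) (Nat.ble (nat_lit 1437) i)) (Nat.ble (nat_lit 1436) i)) (Nat.ble (nat_lit 1433) i))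
noncomputable def t1440_1442 (i : ℕ) : ℕ := (@Bool.rec (fun _ => ℕ) l1440 l1441 (Nat.ble (nat_lit 1441) i))
noncomputable def t1443_1445 (i : ℕ) : ℕ := (@Bool.rec (fun _ => ℕ) l1443 l1444 (Nat.ble (nat_lit 1444) i))
noncomputable def t1446_1448 (i : ℕ) : ℕ := (@Bool.rec (fun _ => ℕ) l1446 l1447 (Nat.ble (nat_lit 1447) i))
noncomputable def t1449_1451 (i : ℕ) : ℕ := (@Bool.rec (fun _ => ℕ) l1449 l1450 (Nat.ble (nat_lit 1450) i))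
noncomputable def t1439_1451 (i : ℕ) : ℕ := (@Bool.rec (fun _ => ℕ) (@Bool.rec (fun _ => ℕ) (@Bool.rec (fun _ => ℕ) l1439 (t1440_1442 i) (Nat.ble (nat_lit 1440) i)) (@Bool.rec (fun _ => ℕ) l1442 (t1443_1445 i) (Nat.ble (nat_lit 1443) i)) (Nat.ble (nat_lit 1442) i)) (@Bool.rec (fun _ => ℕ) (@Bool.rec (fun _ => ℕ) l1445 (t1446_1448 i) (Nat.ble (nat_lit 1446) i)) (@Bool.rec (fun _ => ℕ) l1448 (t1449_1451 i) (Nat.ble (nat_lit 1449) i)) (Nat.ble (nat_lit 1448) i)) (Nat.ble (nat_lit 1445) i))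
noncomputable def t1452_1454 (i : ℕ) : ℕ := (@Bool.rec (fun _ => ℕ) l1452 l1453 (Nat.ble (nat_lit 1453) i))
noncomputable def t1455_1457 (i : ℕ) : ℕ := (@Bool.rec (fun _ => ℕ) l1455 l1456 (Nat.ble (nat_lit 1456) i))
noncomputable def t1458_1460 (i : ℕ) : ℕ := (@Bool.rec (fun _ => ℕ) l1458 l1459 (Nat.ble (nat_lit 1459) i))
noncomputable def t1461_1463 (i : ℕ) : ℕ := (@Bool.rec (fun _ => ℕ) l1461 l1462 (Nat.ble (nat_lit 1462) i))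
noncomputable def t1451_1463 (i : ℕ) : ℕ := (@Bool.rec (fun _ => ℕ) (@Bool.rec (fun _ => ℕ) (@Bool.rec (fun _ => ℕ) l1451 (t1452_1454 i) (Nat.ble (nat_lit 1452) i)) (@Bool.rec (fun _ => ℕ) l1454 (t1455_1457 i) (Nat.ble (nat_lit 1455) i)) (Nat.ble (nat_lit 1454) i)) (@Bool.rec (fun _ => ℕ) (@Bool.rec (fun _ => ℕ) l1457 (t1458_1460 i) (Nat.ble (nat_lit 1458) i)) (@Bool.rec (fun _ => ℕ) l1460 (t1461_1463 i) (Nat.ble (nat_lit 1461) i)) (Nat.ble (nat_lit 1460) i)) (Nat.ble (nat_lit 1457) i))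
noncomputable def t1464_1466 (i : ℕ) : ℕ := (@Bool.rec (fun _ => ℕ) l1464 l1465 (Nat.ble (nat_lit 1465) i))
noncomputable def t1467_1469 (i : ℕ) : ℕ := (@Bool.rec (fun _ => ℕ) l1467 l1468 (Nat.ble (nat_lit 1468) i))
noncomputable def t1470_1472 (i : ℕ) : ℕ := (@Bool.rec (fun _ => ℕ) l1470 l1471 (Nat.ble (nat_lit 1471) i))
noncomputable def t1473_1475 (i : ℕ) : ℕ := (@Bool.rec (fun _ => ℕ) l1473 l1474 (Nat.ble (nat_lit 1474) i))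
noncomputable def t1463_1475 (i : ℕ) : ℕ := (@Bool.rec (fun _ => ℕ) (@Bool.rec (fun _ => ℕ) (@Bool.rec (fun _ => ℕ) l1463 (t1464_1466 i) (Nat.ble (nat_lit 1464) i)) (@Bool.rec (fun _ => ℕ) l1466 (t1467_1469 i) (Nat.ble (nat_lit 1467) i)) (Nat.ble (nat_lit 1466) i)) (@Bool.rec (fun _ => ℕ) (@Bool.rec (fun _ => ℕ) l1469 (t1470_1472 i) (Nat.ble (nat_lit 1470) i)) (@Bool.rec (fun _ => ℕ) l1472 (t1473_1475 i) (Nat.ble (nat_lit 1473) i)) (Nat.ble (nat_lit 1472) i)) (Nat.ble (nat_lit 1469) i))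
noncomputable def t1382_1475 (i : ℕ) : ℕ := (@Bool.rec (fun _ => ℕ) (@Bool.rec (fun _ => ℕ) (@Bool.rec (fun _ => ℕ) (t1382_1393 i) (t1393_1405 i) (Nat.ble (nat_lit 1393) i)) (@Bool.rec (fun _ => ℕ) (t1405_1416 i) (t1416_1428 i) (Nat.ble (nat_lit 1416) i)) (Nat.ble (nat_lit 1405) i)) (@Bool.rec (fun _ => ℕ) (@Bool.rec (fun _ => ℕ) (t1428_1439 i) (t1439_1451 i) (Nat.ble (nat_lit 1439) i)) (@Bool.rec (fun _ => ℕ) (t1451_1463 i) (t1463_1475 i) (Nat.ble (nat_lit 1463) i)) (Nat.ble (nat_lit 1451) i)) (Nat.ble (nat_lit 1428) i))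
noncomputable def t737_1475 (i : ℕ) : ℕ := (@Bool.rec (fun _ => ℕ) (@Bool.rec (fun _ => ℕ) (@Bool.rec (fun _ => ℕ) (t737_829 i) (t829_921 i) (Nat.ble (nat_lit 829) i)) (@Bool.rec (fun _ => ℕ) (t921_1013 i) (t1013_1106 i) (Nat.ble (nat_lit 1013) i)) (Nat.ble (nat_lit 921) i)) (@Bool.rec (fun _ => ℕ) (@Bool.rec (fun _ => ℕ) (t1106_1198 i) (t1198_1290 i) (Nat.ble (nat_lit 1198) i)) (@Bool.rec (fun _ => ℕ) (t1290_1382 i) (t1382_1475 i) (Nat.ble (nat_lit 1382) i)) (Nat.ble (nat_lit 1290) i)) (Nat.ble (nat_lit 1106) i))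
noncomputable def t1478_1480 (i : ℕ) : ℕ := (@Bool.rec (fun _ => ℕ) l1478 l1479 (Nat.ble (nat_lit 1479) i))
noncomputable def t1481_1483 (i : ℕ) : ℕ := (@Bool.rec (fun _ => ℕ) l1481 l1482 (Nat.ble (nat_lit 1482) i))
noncomputable def t1484_1486 (i : ℕ) : ℕ := (@Bool.rec (fun _ => ℕ) l1484 l1485 (Nat.ble (nat_lit 1485) i))
noncomputable def t1475_1486 (i : ℕ) : ℕ := (@Bool.rec (fun _ => ℕ) (@Bool.rec (fun _ => ℕ) (@Bool.rec (fun _ => ℕ) l1475 l1476 (Nat.ble (nat_lit 1476) i)) (@Bool.rec (fun _ => ℕ) l1477 (t1478_1480 i) (Nat.ble (nat_lit 1478) i)) (Nat.ble (nat_lit 1477) i)) (@Bool.rec (fun _ => ℕ) (@Bool.rec (fun _ => ℕ) l1480 (t1481_1483 i) (Nat.ble (nat_lit 1481) i)) (@Bool.rec (fun _ => ℕ) l1483 (t1484_1486 i) (Nat.ble (nat_lit 1484) i)) (Nat.ble (nat_lit 1483) i)) (Nat.ble (nat_lit 1480) i))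
noncomputable def t1487_1489 (i : ℕ) : ℕ := (@Bool.rec (fun _ => ℕ) l1487 l1488 (Nat.ble (nat_lit 1488) i))
noncomputable def t1490_1492 (i : ℕ) : ℕ := (@Bool.rec (fun _ => ℕ) l1490 l1491 (Nat.ble (nat_lit 1491) i))
noncomputable def t1493_1495 (i : ℕ) : ℕ := (@Bool.rec (fun _ => ℕ) l1493 l1494 (Nat.ble (nat_lit 1494) i))
noncomputable def t1496_1498 (i : ℕ) : ℕ := (@Bool.rec (fun _ => ℕ) l1496 l1497 (Nat.ble (nat_lit 1497) i))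
noncomputable def t1486_1498 (i : ℕ) : ℕ := (@Bool.rec (fun _ => ℕ) (@Bool.rec (fun _ => ℕ) (@Bool.rec (fun _ => ℕ) l1486 (t1487_1489 i) (Nat.ble (nat_lit 1487) i)) (@Bool.rec (fun _ => ℕ) l1489 (t1490_1492 i) (Nat.ble (nat_lit 1490) i)) (Nat.ble (nat_lit 1489) i)) (@Bool.rec (fun _ => ℕ) (@Bool.rec (fun _ => ℕ) l1492 (t1493_1495 i) (Nat.ble (nat_lit 1493) i)) (@Bool.rec (fun _ => ℕ) l1495 (t1496_1498 i) (Nat.ble (nat_lit 1496) i)) (Nat.ble (nat_lit 1495) i)) (Nat.ble (nat_lit 1492) i))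
noncomputable def t1501_1503 (i : ℕ) : ℕ := (@Bool.rec (fun _ => ℕ) l1501 l1502 (Nat.ble (nat_lit 1502) i))
noncomputable def t1504_1506 (i : ℕ) : ℕ := (@Bool.rec (fun _ => ℕ) l1504 l1505 (Nat.ble (nat_lit 1505) i))
noncomputable def t1507_1509 (i : ℕ) : ℕ := (@Bool.rec (fun _ => ℕ) l1507 l1508 (Nat.ble (nat_lit 1508) i))
noncomputable def t1498_1509 (i : ℕ) : ℕ := (@Bool.rec (fun _ => ℕ) (@Bool.rec (fun _ => ℕ) (@Bool.rec (fun _ => ℕ) l1498 l1499 (Nat.ble (nat_lit 1499) i)) (@Bool.rec (fun _ => ℕ) l1500 (t1501_1503 i) (Nat.ble (nat_lit 1501) i)) (Nat.ble (nat_lit 1500) i)) (@Bool.rec (fun _ => ℕ) (@Bool.rec (fun _ => ℕ) l1503 (t1504_1506 i) (Nat.ble (nat_lit 1504) i)) (@Bool.rec (fun _ => ℕ) l1506 (t1507_1509 i) (Nat.ble (nat_lit 1507) i)) (Nat.ble (nat_lit 1506) i)) (Nat.ble (nat_lit 1503) i))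
noncomputable def t1510_1512 (i : ℕ) : ℕ := (@Bool.rec (fun _ => ℕ) l1510 l1511 (Nat.ble (nat_lit 1511) i))
noncomputable def t1513_1515 (i : ℕ) : ℕ := (@Bool.rec (fun _ => ℕ) l1513 l1514 (Nat.ble (nat_lit 1514) i))
noncomputable def t1516_1518 (i : ℕ) : ℕ := (@Bool.rec (fun _ => ℕ) l1516 l1517 (Nat.ble (nat_lit 1517) i))
noncomputable def t1519_1521 (i : ℕ) : ℕ := (@Bool.rec (fun _ => ℕ) l1519 l1520 (Nat.ble (nat_lit 1520) i))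
noncomputable def t1509_1521 (i : ℕ) : ℕ := (@Bool.rec (fun _ => ℕ) (@Bool.rec (fun _ => ℕ) (@Bool.rec (fun _ => ℕ) l1509 (t1510_1512 i) (Nat.ble (nat_lit 1510) i)) (@Bool.rec (fun _ => ℕ) l1512 (t1513_1515 i) (Nat.ble (nat_lit 1513) i)) (Nat.ble (nat_lit 1512) i)) (@Bool.rec (fun _ => ℕ) (@Bool.rec (fun _ => ℕ) l1515 (t1516_1518 i) (Nat.ble (nat_lit 1516) i)) (@Bool.rec (fun _ => ℕ) l1518 (t1519_1521 i) (Nat.ble (nat_lit 1519) i)) (Nat.ble (nat_lit 1518) i)) (Nat.ble (nat_lit 1515) i))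
noncomputable def t1524_1526 (i : ℕ) : ℕ := (@Bool.rec (fun _ => ℕ) l1524 l1525 (Nat.ble (nat_lit 1525) i))
noncomputable def t1527_1529 (i : ℕ) : ℕ := (@Bool.rec (fun _ => ℕ) l1527 l1528 (Nat.ble (nat_lit 1528) i))
noncomputable def t1530_1532 (i : ℕ) : ℕ := (@Bool.rec (fun _ => ℕ) l1530 l1531 (Nat.ble (nat_lit 1531) i))
noncomputable def t1521_1532 (i : ℕ) : ℕ := (@Bool.rec (fun _ => ℕ) (@Bool.rec (fun _ => ℕ) (@Bool.rec (fun _ => ℕ) l1521 l1522 (Nat.ble (nat_lit 1522) i)) (@Bool.rec (fun _ => ℕ) l1523 (t1524_1526 i) (Nat.ble (nat_lit 1524) i)) (Nat.ble (nat_lit 1523) i)) (@Bool.rec (fun _ => ℕ) (@Bool.rec (fun _ => ℕ) l1526 (t1527_1529 i) (Nat.ble (nat_lit 1527) i)) (@Bool.rec (fun _ => ℕ) l1529 (t1530_1532 i) (Nat.ble (nat_lit 1530) i)) (Nat.ble (nat_lit 1529) i)) (Nat.ble (nat_lit 1526) i))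
noncomputable def t1533_1535 (i : ℕ) : ℕ := (@Bool.rec (fun _ => ℕ) l1533 l1534 (Nat.ble (nat_lit 1534) i))
noncomputable def t1536_1538 (i : ℕ) : ℕ := (@Bool.rec (fun _ => ℕ) l1536 l1537 (Nat.ble (nat_lit 1537) i))
noncomputable def t1539_1541 (i : ℕ) : ℕ := (@Bool.rec (fun _ => ℕ) l1539 l1540 (Nat.ble (nat_lit 1540) i))
noncomputable def t1542_1544 (i : ℕ) : ℕ := (@Bool.rec (fun _ => ℕ) l1542 l1543 (Nat.ble (nat_lit 1543) i))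
noncomputable def t1532_1544 (i : ℕ) : ℕ := (@Bool.rec (fun _ => ℕ) (@Bool.rec (fun _ => ℕ) (@Bool.rec (fun _ => ℕ) l1532 (t1533_1535 i) (Nat.ble (nat_lit 1533) i)) (@Bool.rec (fun _ => ℕ) l1535 (t1536_1538 i) (Nat.ble (nat_lit 1536) i)) (Nat.ble (nat_lit 1535) i)) (@Bool.rec (fun _ => ℕ) (@Bool.rec (fun _ => ℕ) l1538 (t1539_1541 i) (Nat.ble (nat_lit 1539) i)) (@Bool.rec (fun _ => ℕ) l1541 (t1542_1544 i) (Nat.ble (nat_lit 1542) i)) (Nat.ble (nat_lit 1541) i)) (Nat.ble (nat_lit 1538) i))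
noncomputable def t1547_1549 (i : ℕ) : ℕ := (@Bool.rec (fun _ => ℕ) l1547 l1548 (Nat.ble (nat_lit 1548) i))
noncomputable def t1550_1552 (i : ℕ) : ℕ := (@Bool.rec (fun _ => ℕ) l1550 l1551 (Nat.ble (nat_lit 1551) i))
noncomputable def t1553_1555 (i : ℕ) : ℕ := (@Bool.rec (fun _ => ℕ) l1553 l1554 (Nat.ble (nat_lit 1554) i))
noncomputable def t1544_1555 (i : ℕ) : ℕ := (@Bool.rec (fun _ => ℕ) (@Bool.rec (fun _ => ℕ) (@Bool.rec (fun _ => ℕ) l1544 l1545 (Nat.ble (nat_lit 1545) i)) (@Bool.rec (fun _ => ℕ) l1546 (t1547_1549 i) (Nat.ble (nat_lit 1547) i)) (Nat.ble (nat_lit 1546) i)) (@Bool.rec (fun _ => ℕ) (@Bool.rec (fun _ => ℕ) l1549 (t1550_1552 i) (Nat.ble (nat_lit 1550) i)) (@Bool.rec (fun _ => ℕ) l1552 (t1553_1555 i) (Nat.ble (nat_lit 1553) i)) (Nat.ble (nat_lit 1552) i)) (Nat.ble (nat_lit 1549) i))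
noncomputable def t1556_1558 (i : ℕ) : ℕ := (@Bool.rec (fun _ => ℕ) l1556 l1557 (Nat.ble (nat_lit 1557) i))
noncomputable def t1559_1561 (i : ℕ) : ℕ := (@Bool.rec (fun _ => ℕ) l1559 l1560 (Nat.ble (nat_lit 1560) i))
noncomputable def t1562_1564 (i : ℕ) : ℕ := (@Bool.rec (fun _ => ℕ) l1562 l1563 (Nat.ble (nat_lit 1563) i))
noncomputable def t1565_1567 (i : ℕ) : ℕ := (@Bool.rec (fun _ => ℕ) l1565 l1566 (Nat.ble (nat_lit 1566) i))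
noncomputable def t1555_1567 (i : ℕ) : ℕ := (@Bool.rec (fun _ => ℕ) (@Bool.rec (fun _ => ℕ) (@Bool.rec (fun _ => ℕ) l1555 (t1556_1558 i) (Nat.ble (nat_lit 1556) i)) (@Bool.rec (fun _ => ℕ) l1558 (t1559_1561 i) (Nat.ble (nat_lit 1559) i)) (Nat.ble (nat_lit 1558) i)) (@Bool.rec (fun _ => ℕ) (@Bool.rec (fun _ => ℕ) l1561 (t1562_1564 i) (Nat.ble (nat_lit 1562) i)) (@Bool.rec (fun _ => ℕ) l1564 (t1565_1567 i) (Nat.ble (nat_lit 1565) i)) (Nat.ble (nat_lit 1564) i)) (Nat.ble (nat_lit 1561) i))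
noncomputable def t1475_1567 (i : ℕ) : ℕ := (@Bool.rec (fun _ => ℕ) (@Bool.rec (fun _ => ℕ) (@Bool.rec (fun _ => ℕ) (t1475_1486 i) (t1486_1498 i) (Nat.ble (nat_lit 1486) i)) (@Bool.rec (fun _ => ℕ) (t1498_1509 i) (t1509_1521 i) (Nat.ble (nat_lit 1509) i)) (Nat.ble (nat_lit 1498) i)) (@Bool.rec (fun _ => ℕ) (@Bool.rec (fun _ => ℕ) (t1521_1532 i) (t1532_1544 i) (Nat.ble (nat_lit 1532) i)) (@Bool.rec (fun _ => ℕ) (t1544_1555 i) (t1555_1567 i) (Nat.ble (nat_lit 1555) i)) (Nat.ble (nat_lit 1544) i)) (Nat.ble (nat_lit 1521) i))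
noncomputable def t1570_1572 (i : ℕ) : ℕ := (@Bool.rec (fun _ => ℕ) l1570 l1571 (Nat.ble (nat_lit 1571) i))
noncomputable def t1573_1575 (i : ℕ) : ℕ := (@Bool.rec (fun _ => ℕ) l1573 l1574 (Nat.ble (nat_lit 1574) i))
noncomputable def t1576_1578 (i : ℕ) : ℕ := (@Bool.rec (fun _ => ℕ) l1576 l1577 (Nat.ble (nat_lit 1577) i))
noncomputable def t1567_1578 (i : ℕ) : ℕ := (@Bool.rec (fun _ => ℕ) (@Bool.rec (fun _ => ℕ) (@Bool.rec (fun _ => ℕ) l1567 l1568 (Nat.ble (nat_lit 1568) i)) (@Bool.rec (fun _ => ℕ) l1569 (t1570_1572 i) (Nat.ble (nat_lit 1570) i)) (Nat.ble (nat_lit 1569) i)) (@Bool.rec (fun _ => ℕ) (@Bool.rec (fun _ => ℕ) l1572 (t1573_1575 i) (Nat.ble (nat_lit 1573) i)) (@Bool.rec (fun _ => ℕ) l1575 (t1576_1578 i) (Nat.ble (nat_lit 1576) i)) (Nat.ble (nat_lit 1575) i)) (Nat.ble (nat_lit 1572) i))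
noncomputable def t1579_1581 (i : ℕ) : ℕ := (@Bool.rec (fun _ => ℕ) l1579 l1580 (Nat.ble (nat_lit 1580) i))
noncomputable def t1582_1584 (i : ℕ) : ℕ := (@Bool.rec (fun _ => ℕ) l1582 l1583 (Nat.ble (nat_lit 1583) i))
noncomputable def t1585_1587 (i : ℕ) : ℕ := (@Bool.rec (fun _ => ℕ) l1585 l1586 (Nat.ble (nat_lit 1586) i))
noncomputable def t1588_1590 (i : ℕ) : ℕ := (@Bool.rec (fun _ => ℕ) l1588 l1589 (Nat.ble (nat_lit 1589) i))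
noncomputable def t1578_1590 (i : ℕ) : ℕ := (@Bool.rec (fun _ => ℕ) (@Bool.rec (fun _ => ℕ) (@Bool.rec (fun _ => ℕ) l1578 (t1579_1581 i) (Nat.ble (nat_lit 1579) i)) (@Bool.rec (fun _ => ℕ) l1581 (t1582_1584 i) (Nat.ble (nat_lit 1582) i)) (Nat.ble (nat_lit 1581) i)) (@Bool.rec (fun _ => ℕ) (@Bool.rec (fun _ => ℕ) l1584 (t1585_1587 i) (Nat.ble (nat_lit 1585) i)) (@Bool.rec (fun _ => ℕ) l1587 (t1588_1590 i) (Nat.ble (nat_lit 1588) i)) (Nat.ble (nat_lit 1587) i)) (Nat.ble (nat_lit 1584) i))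
noncomputable def t1593_1595 (i : ℕ) : ℕ := (@Bool.rec (fun _ => ℕ) l1593 l1594 (Nat.ble (nat_lit 1594) i))
noncomputable def t1596_1598 (i : ℕ) : ℕ := (@Bool.rec (fun _ => ℕ) l1596 l1597 (Nat.ble (nat_lit 1597) i))
noncomputable def t1599_1601 (i : ℕ) : ℕ := (@Bool.rec (fun _ => ℕ) l1599 l1600 (Nat.ble (nat_lit 1600) i))
noncomputable def t1590_1601 (i : ℕ) : ℕ := (@Bool.rec (fun _ => ℕ) (@Bool.rec (fun _ => ℕ) (@Bool.rec (fun _ => ℕ) l1590 l1591 (Nat.ble (nat_lit 1591) i)) (@Bool.rec (fun _ => ℕ) l1592 (t1593_1595 i) (Nat.ble (nat_lit 1593) i)) (Nat.ble (nat_lit 1592) i)) (@Bool.rec (fun _ => ℕ) (@Bool.rec (fun _ => ℕ) l1595 (t1596_1598 i) (Nat.ble (nat_lit 1596) i)) (@Bool.rec (fun _ => ℕ) l1598 (t1599_1601 i) (Nat.ble (nat_lit 1599) i)) (Nat.ble (nat_lit 1598) i)) (Nat.ble (nat_lit 1595) i))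
noncomputable def t1602_1604 (i : ℕ) : ℕ := (@Bool.rec (fun _ => ℕ) l1602 l1603 (Nat.ble (nat_lit 1603) i))
noncomputable def t1605_1607 (i : ℕ) : ℕ := (@Bool.rec (fun _ => ℕ) l1605 l1606 (Nat.ble (nat_lit 1606) i))
noncomputable def t1608_1610 (i : ℕ) : ℕ := (@Bool.rec (fun _ => ℕ) l1608 l1609 (Nat.ble (nat_lit 1609) i))
noncomputable def t1611_1613 (i : ℕ) : ℕ := (@Bool.rec (fun _ => ℕ) l1611 l1612 (Nat.ble (nat_lit 1612) i))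
noncomputable def t1601_1613 (i : ℕ) : ℕ := (@Bool.rec (fun _ => ℕ) (@Bool.rec (fun _ => ℕ) (@Bool.rec (fun _ => ℕ) l1601 (t1602_1604 i) (Nat.ble (nat_lit 1602) i)) (@Bool.rec (fun _ => ℕ) l1604 (t1605_1607 i) (Nat.ble (nat_lit 1605) i)) (Nat.ble (nat_lit 1604) i)) (@Bool.rec (fun _ => ℕ) (@Bool.rec (fun _ => ℕ) l1607 (t1608_1610 i) (Nat.ble (nat_lit 1608) i)) (@Bool.rec (fun _ => ℕ) l1610 (t1611_1613 i) (Nat.ble (nat_lit 1611) i)) (Nat.ble (nat_lit 1610) i)) (Nat.ble (nat_lit 1607) i))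
noncomputable def t1616_1618 (i : ℕ) : ℕ := (@Bool.rec (fun _ => ℕ) l1616 l1617 (Nat.ble (nat_lit 1617) i))
noncomputable def t1619_1621 (i : ℕ) : ℕ := (@Bool.rec (fun _ => ℕ) l1619 l1620 (Nat.ble (nat_lit 1620) i))
noncomputable def t1622_1624 (i : ℕ) : ℕ := (@Bool.rec (fun _ => ℕ) l1622 l1623 (Nat.ble (nat_lit 1623) i))
noncomputable def t1613_1624 (i : ℕ) : ℕ := (@Bool.rec (fun _ => ℕ) (@Bool.rec (fun _ => ℕ) (@Bool.rec (fun _ => ℕ) l1613 l1614 (Nat.ble (nat_lit 1614) i)) (@Bool.rec (fun _ => ℕ) l1615 (t1616_1618 i) (Nat.ble (nat_lit 1616) i)) (Nat.ble (nat_lit 1615) i)) (@Bool.rec (fun _ => ℕ) (@Bool.rec (fun _ => ℕ) l1618 (t1619_1621 i) (Nat.ble (nat_lit 1619) i)) (@Bool.rec (fun _ => ℕ) l1621 (t1622_1624 i) (Nat.ble (nat_lit 1622) i)) (Nat.ble (nat_lit 1621) i)) (Nat.ble (nat_lit 1618) i))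
noncomputable def t1625_1627 (i : ℕ) : ℕ := (@Bool.rec (fun _ => ℕ) l1625 l1626 (Nat.ble (nat_lit 1626) i))
noncomputable def t1628_1630 (i : ℕ) : ℕ := (@Bool.rec (fun _ => ℕ) l1628 l1629 (Nat.ble (nat_lit 1629) i))
noncomputable def t1631_1633 (i : ℕ) : ℕ := (@Bool.rec (fun _ => ℕ) l1631 l1632 (Nat.ble (nat_lit 1632) i))
noncomputable def t1634_1636 (i : ℕ) : ℕ := (@Bool.rec (fun _ => ℕ) l1634 l1635 (Nat.ble (nat_lit 1635) i))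
noncomputable def t1624_1636 (i : ℕ) : ℕ := (@Bool.rec (fun _ => ℕ) (@Bool.rec (fun _ => ℕ) (@Bool.rec (fun _ => ℕ) l1624 (t1625_1627 i) (Nat.ble (nat_lit 1625) i)) (@Bool.rec (fun _ => ℕ) l1627 (t1628_1630 i) (Nat.ble (nat_lit 1628) i)) (Nat.ble (nat_lit 1627) i)) (@Bool.rec (fun _ => ℕ) (@Bool.rec (fun _ => ℕ) l1630 (t1631_1633 i) (Nat.ble (nat_lit 1631) i)) (@Bool.rec (fun _ => ℕ) l1633 (t1634_1636 i) (Nat.ble (nat_lit 1634) i)) (Nat.ble (nat_lit 1633) i)) (Nat.ble (nat_lit 1630) i))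
noncomputable def t1639_1641 (i : ℕ) : ℕ := (@Bool.rec (fun _ => ℕ) l1639 l1640 (Nat.ble (nat_lit 1640) i))
noncomputable def t1642_1644 (i : ℕ) : ℕ := (@Bool.rec (fun _ => ℕ) l1642 l1643 (Nat.ble (nat_lit 1643) i))
noncomputable def t1645_1647 (i : ℕ) : ℕ := (@Bool.rec (fun _ => ℕ) l1645 l1646 (Nat.ble (nat_lit 1646) i))
noncomputable def t1636_1647 (i : ℕ) : ℕ := (@Bool.rec (fun _ => ℕ) (@Bool.rec (fun _ => ℕ) (@Bool.rec (fun _ => ℕ) l1636 l1637 (Nat.ble (nat_lit 1637) i)) (@Bool.rec (fun _ => ℕ) l1638 (t1639_1641 i) (Nat.ble (nat_lit 1639) i)) (Nat.ble (nat_lit 1638) i)) (@Bool.rec (fun _ => ℕ) (@Bool.rec (fun _ => ℕ) l1641 (t1642_1644 i) (Nat.ble (nat_lit 1642) i)) (@Bool.rec (fun _ => ℕ) l1644 (t1645_1647 i) (Nat.ble (nat_lit 1645) i)) (Nat.ble (nat_lit 1644) i)) (Nat.ble (nat_lit 1641) i))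
noncomputable def t1648_1650 (i : ℕ) : ℕ := (@Bool.rec (fun _ => ℕ) l1648 l1649 (Nat.ble (nat_lit 1649) i))
noncomputable def t1651_1653 (i : ℕ) : ℕ := (@Bool.rec (fun _ => ℕ) l1651 l1652 (Nat.ble (nat_lit 1652) i))
noncomputable def t1654_1656 (i : ℕ) : ℕ := (@Bool.rec (fun _ => ℕ) l1654 l1655 (Nat.ble (nat_lit 1655) i))
noncomputable def t1657_1659 (i : ℕ) : ℕ := (@Bool.rec (fun _ => ℕ) l1657 l1658 (Nat.ble (nat_lit 1658) i))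
noncomputable def t1647_1659 (i : ℕ) : ℕ := (@Bool.rec (fun _ => ℕ) (@Bool.rec (fun _ => ℕ) (@Bool.rec (fun _ => ℕ) l1647 (t1648_1650 i) (Nat.ble (nat_lit 1648) i)) (@Bool.rec (fun _ => ℕ) l1650 (t1651_1653 i) (Nat.ble (nat_lit 1651) i)) (Nat.ble (nat_lit 1650) i)) (@Bool.rec (fun _ => ℕ) (@Bool.rec (fun _ => ℕ) l1653 (t1654_1656 i) (Nat.ble (nat_lit 1654) i)) (@Bool.rec (fun _ => ℕ) l1656 (t1657_1659 i) (Nat.ble (nat_lit 1657) i)) (Nat.ble (nat_lit 1656) i)) (Nat.ble (nat_lit 1653) i))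
noncomputable def t1567_1659 (i : ℕ) : ℕ := (@Bool.rec (fun _ => ℕ) (@Bool.rec (fun _ => ℕ) (@Bool.rec (fun _ => ℕ) (t1567_1578 i) (t1578_1590 i) (Nat.ble (nat_lit 1578) i)) (@Bool.rec (fun _ => ℕ) (t1590_1601 i) (t1601_1613 i) (Nat.ble (nat_lit 1601) i)) (Nat.ble (nat_lit 1590) i)) (@Bool.rec (fun _ => ℕ) (@Bool.rec (fun _ => ℕ) (t1613_1624 i) (t1624_1636 i) (Nat.ble (nat_lit 1624) i)) (@Bool.rec (fun _ => ℕ) (t1636_1647 i) (t1647_1659 i) (Nat.ble (nat_lit 1647) i)) (Nat.ble (nat_lit 1636) i)) (Nat.ble (nat_lit 1613) i))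
noncomputable def t1662_1664 (i : ℕ) : ℕ := (@Bool.rec (fun _ => ℕ) l1662 l1663 (Nat.ble (nat_lit 1663) i))
noncomputable def t1665_1667 (i : ℕ) : ℕ := (@Bool.rec (fun _ => ℕ) l1665 l1666 (Nat.ble (nat_lit 1666) i))
noncomputable def t1668_1670 (i : ℕ) : ℕ := (@Bool.rec (fun _ => ℕ) l1668 l1669 (Nat.ble (nat_lit 1669) i))
noncomputable def t1659_1670 (i : ℕ) : ℕ := (@Bool.rec (fun _ => ℕ) (@Bool.rec (fun _ => ℕ) (@Bool.rec (fun _ => ℕ) l1659 l1660 (Nat.ble (nat_lit 1660) i)) (@Bool.rec (fun _ => ℕ) l1661 (t1662_1664 i) (Nat.ble (nat_lit 1662) i)) (Nat.ble (nat_lit 1661) i)) (@Bool.rec (fun _ => ℕ) (@Bool.rec (fun _ => ℕ) l1664 (t1665_1667 i) (Nat.ble (nat_lit 1665) i)) (@Bool.rec (fun _ => ℕ) l1667 (t1668_1670 i) (Nat.ble (nat_lit 1668) i)) (Nat.ble (nat_lit 1667) i)) (Nat.ble (nat_lit 1664) i))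
noncomputable def t1671_1673 (i : ℕ) : ℕ := (@Bool.rec (fun _ => ℕ) l1671 l1672 (Nat.ble (nat_lit 1672) i))
noncomputable def t1674_1676 (i : ℕ) : ℕ := (@Bool.rec (fun _ => ℕ) l1674 l1675 (Nat.ble (nat_lit 1675) i))
noncomputable def t1677_1679 (i : ℕ) : ℕ := (@Bool.rec (fun _ => ℕ) l1677 l1678 (Nat.ble (nat_lit 1678) i))
noncomputable def t1680_1682 (i : ℕ) : ℕ := (@Bool.rec (fun _ => ℕ) l1680 l1681 (Nat.ble (nat_lit 1681) i))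
noncomputable def t1670_1682 (i : ℕ) : ℕ := (@Bool.rec (fun _ => ℕ) (@Bool.rec (fun _ => ℕ) (@Bool.rec (fun _ => ℕ) l1670 (t1671_1673 i) (Nat.ble (nat_lit 1671) i)) (@Bool.rec (fun _ => ℕ) l1673 (t1674_1676 i) (Nat.ble (nat_lit 1674) i)) (Nat.ble (nat_lit 1673) i)) (@Bool.rec (fun _ => ℕ) (@Bool.rec (fun _ => ℕ) l1676 (t1677_1679 i) (Nat.ble (nat_lit 1677) i)) (@Bool.rec (fun _ => ℕ) l1679 (t1680_1682 i) (Nat.ble (nat_lit 1680) i)) (Nat.ble (nat_lit 1679) i)) (Nat.ble (nat_lit 1676) i))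
noncomputable def t1685_1687 (i : ℕ) : ℕ := (@Bool.rec (fun _ => ℕ) l1685 l1686 (Nat.ble (nat_lit 1686) i))
noncomputable def t1688_1690 (i : ℕ) : ℕ := (@Bool.rec (fun _ => ℕ) l1688 l1689 (Nat.ble (nat_lit 1689) i))
noncomputable def t1691_1693 (i : ℕ) : ℕ := (@Bool.rec (fun _ => ℕ) l1691 l1692 (Nat.ble (nat_lit 1692) i))
noncomputable def t1682_1693 (i : ℕ) : ℕ := (@Bool.rec (fun _ => ℕ) (@Bool.rec (fun _ => ℕ) (@Bool.rec (fun _ => ℕ) l1682 l1683 (Nat.ble (nat_lit 1683) i)) (@Bool.rec (fun _ => ℕ) l1684 (t1685_1687 i) (Nat.ble (nat_lit 1685) i)) (Nat.ble (nat_lit 1684) i)) (@Bool.rec (fun _ => ℕ) (@Bool.rec (fun _ => ℕ) l1687 (t1688_1690 i) (Nat.ble (nat_lit 1688) i)) (@Bool.rec (fun _ => ℕ) l1690 (t1691_1693 i) (Nat.ble (nat_lit 1691) i)) (Nat.ble (nat_lit 1690) i)) (Nat.ble (nat_lit 1687) i))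
noncomputable def t1694_1696 (i : ℕ) : ℕ := (@Bool.rec (fun _ => ℕ) l1694 l1695 (Nat.ble (nat_lit 1695) i))
noncomputable def t1697_1699 (i : ℕ) : ℕ := (@Bool.rec (fun _ => ℕ) l1697 l1698 (Nat.ble (nat_lit 1698) i))
noncomputable def t1700_1702 (i : ℕ) : ℕ := (@Bool.rec (fun _ => ℕ) l1700 l1701 (Nat.ble (nat_lit 1701) i))
noncomputable def t1703_1705 (i : ℕ) : ℕ := (@Bool.rec (fun _ => ℕ) l1703 l1704 (Nat.ble (nat_lit 1704) i))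
noncomputable def t1693_1705 (i : ℕ) : ℕ := (@Bool.rec (fun _ => ℕ) (@Bool.rec (fun _ => ℕ) (@Bool.rec (fun _ => ℕ) l1693 (t1694_1696 i) (Nat.ble (nat_lit 1694) i)) (@Bool.rec (fun _ => ℕ) l1696 (t1697_1699 i) (Nat.ble (nat_lit 1697) i)) (Nat.ble (nat_lit 1696) i)) (@Bool.rec (fun _ => ℕ) (@Bool.rec (fun _ => ℕ) l1699 (t1700_1702 i) (Nat.ble (nat_lit 1700) i)) (@Bool.rec (fun _ => ℕ) l1702 (t1703_1705 i) (Nat.ble (nat_lit 1703) i)) (Nat.ble (nat_lit 1702) i)) (Nat.ble (nat_lit 1699) i))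
noncomputable def t1708_1710 (i : ℕ) : ℕ := (@Bool.rec (fun _ => ℕ) l1708 l1709 (Nat.ble (nat_lit 1709) i))
noncomputable def t1711_1713 (i : ℕ) : ℕ := (@Bool.rec (fun _ => ℕ) l1711 l1712 (Nat.ble (nat_lit 1712) i))
noncomputable def t1714_1716 (i : ℕ) : ℕ := (@Bool.rec (fun _ => ℕ) l1714 l1715 (Nat.ble (nat_lit 1715) i))
noncomputable def t1705_1716 (i : ℕ) : ℕ := (@Bool.rec (fun _ => ℕ) (@Bool.rec (fun _ => ℕ) (@Bool.rec (fun _ => ℕ) l1705 l1706 (Nat.ble (nat_lit 1706) i)) (@Bool.rec (fun _ => ℕ) l1707 (t1708_1710 i) (Nat.ble (nat_lit 1708) i)) (Nat.ble (nat_lit 1707) i)) (@Bool.rec (fun _ => ℕ) (@Bool.rec (fun _ => ℕ) l1710 (t1711_1713 i) (Nat.ble (nat_lit 1711) i)) (@Bool.rec (fun _ => ℕ) l1713 (t1714_1716 i) (Nat.ble (nat_lit 1714) i)) (Nat.ble (nat_lit 1713) i)) (Nat.ble (nat_lit 1710) i))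
noncomputable def t1717_1719 (i : ℕ) : ℕ := (@Bool.rec (fun _ => ℕ) l1717 l1718 (Nat.ble (nat_lit 1718) i))
noncomputable def t1720_1722 (i : ℕ) : ℕ := (@Bool.rec (fun _ => ℕ) l1720 l1721 (Nat.ble (nat_lit 1721) i))
noncomputable def t1723_1725 (i : ℕ) : ℕ := (@Bool.rec (fun _ => ℕ) l1723 l1724 (Nat.ble (nat_lit 1724) i))
noncomputable def t1726_1728 (i : ℕ) : ℕ := (@Bool.rec (fun _ => ℕ) l1726 l1727 (Nat.ble (nat_lit 1727) i))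
noncomputable def t1716_1728 (i : ℕ) : ℕ := (@Bool.rec (fun _ => ℕ) (@Bool.rec (fun _ => ℕ) (@Bool.rec (fun _ => ℕ) l1716 (t1717_1719 i) (Nat.ble (nat_lit 1717) i)) (@Bool.rec (fun _ => ℕ) l1719 (t1720_1722 i) (Nat.ble (nat_lit 1720) i)) (Nat.ble (nat_lit 1719) i)) (@Bool.rec (fun _ => ℕ) (@Bool.rec (fun _ => ℕ) l1722 (t1723_1725 i) (Nat.ble (nat_lit 1723) i)) (@Bool.rec (fun _ => ℕ) l1725 (t1726_1728 i) (Nat.ble (nat_lit 1726) i)) (Nat.ble (nat_lit 1725) i)) (Nat.ble (nat_lit 1722) i))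
noncomputable def t1731_1733 (i : ℕ) : ℕ := (@Bool.rec (fun _ => ℕ) l1731 l1732 (Nat.ble (nat_lit 1732) i))
noncomputable def t1734_1736 (i : ℕ) : ℕ := (@Bool.rec (fun _ => ℕ) l1734 l1735 (Nat.ble (nat_lit 1735) i))
noncomputable def t1737_1739 (i : ℕ) : ℕ := (@Bool.rec (fun _ => ℕ) l1737 l1738 (Nat.ble (nat_lit 1738) i))
noncomputable def t1728_1739 (i : ℕ) : ℕ := (@Bool.rec (fun _ => ℕ) (@Bool.rec (fun _ => ℕ) (@Bool.rec (fun _ => ℕ) l1728 l1729 (Nat.ble (nat_lit 1729) i)) (@Bool.rec (fun _ => ℕ) l1730 (t1731_1733 i) (Nat.ble (nat_lit 1731) i)) (Nat.ble (nat_lit 1730) i)) (@Bool.rec (fun _ => ℕ) (@Bool.rec (fun _ => ℕ) l1733 (t1734_1736 i) (Nat.ble (nat_lit 1734) i)) (@Bool.rec (fun _ => ℕ) l1736 (t1737_1739 i) (Nat.ble (nat_lit 1737) i)) (Nat.ble (nat_lit 1736) i)) (Nat.ble (nat_lit 1733) i))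
noncomputable def t1740_1742 (i : ℕ) : ℕ := (@Bool.rec (fun _ => ℕ) l1740 l1741 (Nat.ble (nat_lit 1741) i))
noncomputable def t1743_1745 (i : ℕ) : ℕ := (@Bool.rec (fun _ => ℕ) l1743 l1744 (Nat.ble (nat_lit 1744) i))
noncomputable def t1746_1748 (i : ℕ) : ℕ := (@Bool.rec (fun _ => ℕ) l1746 l1747 (Nat.ble (nat_lit 1747) i))
noncomputable def t1749_1751 (i : ℕ) : ℕ := (@Bool.rec (fun _ => ℕ) l1749 l1750 (Nat.ble (nat_lit 1750) i))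
noncomputable def t1739_1751 (i : ℕ) : ℕ := (@Bool.rec (fun _ => ℕ) (@Bool.rec (fun _ => ℕ) (@Bool.rec (fun _ => ℕ) l1739 (t1740_1742 i) (Nat.ble (nat_lit 1740) i)) (@Bool.rec (fun _ => ℕ) l1742 (t1743_1745 i) (Nat.ble (nat_lit 1743) i)) (Nat.ble (nat_lit 1742) i)) (@Bool.rec (fun _ => ℕ) (@Bool.rec (fun _ => ℕ) l1745 (t1746_1748 i) (Nat.ble (nat_lit 1746) i)) (@Bool.rec (fun _ => ℕ) l1748 (t1749_1751 i) (Nat.ble (nat_lit 1749) i)) (Nat.ble (nat_lit 1748) i)) (Nat.ble (nat_lit 1745) i))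
noncomputable def t1659_1751 (i : ℕ) : ℕ := (@Bool.rec (fun _ => ℕ) (@Bool.rec (fun _ => ℕ) (@Bool.rec (fun _ => ℕ) (t1659_1670 i) (t1670_1682 i) (Nat.ble (nat_lit 1670) i)) (@Bool.rec (fun _ => ℕ) (t1682_1693 i) (t1693_1705 i) (Nat.ble (nat_lit 1693) i)) (Nat.ble (nat_lit 1682) i)) (@Bool.rec (fun _ => ℕ) (@Bool.rec (fun _ => ℕ) (t1705_1716 i) (t1716_1728 i) (Nat.ble (nat_lit 1716) i)) (@Bool.rec (fun _ => ℕ) (t1728_1739 i) (t1739_1751 i) (Nat.ble (nat_lit 1739) i)) (Nat.ble (nat_lit 1728) i)) (Nat.ble (nat_lit 1705) i))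
noncomputable def t1754_1756 (i : ℕ) : ℕ := (@Bool.rec (fun _ => ℕ) l1754 l1755 (Nat.ble (nat_lit 1755) i))
noncomputable def t1757_1759 (i : ℕ) : ℕ := (@Bool.rec (fun _ => ℕ) l1757 l1758 (Nat.ble (nat_lit 1758) i))
noncomputable def t1760_1762 (i : ℕ) : ℕ := (@Bool.rec (fun _ => ℕ) l1760 l1761 (Nat.ble (nat_lit 1761) i))
noncomputable def t1751_1762 (i : ℕ) : ℕ := (@Bool.rec (fun _ => ℕ) (@Bool.rec (fun _ => ℕ) (@Bool.rec (fun _ => ℕ) l1751 l1752 (Nat.ble (nat_lit 1752) i)) (@Bool.rec (fun _ => ℕ) l1753 (t1754_1756 i) (Nat.ble (nat_lit 1754) i)) (Nat.ble (nat_lit 1753) i)) (@Bool.rec (fun _ => ℕ) (@Bool.rec (fun _ => ℕ) l1756 (t1757_1759 i) (Nat.ble (nat_lit 1757) i)) (@Bool.rec (fun _ => ℕ) l1759 (t1760_1762 i) (Nat.ble (nat_lit 1760) i)) (Nat.ble (nat_lit 1759) i)) (Nat.ble (nat_lit 1756) i))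
noncomputable def t1763_1765 (i : ℕ) : ℕ := (@Bool.rec (fun _ => ℕ) l1763 l1764 (Nat.ble (nat_lit 1764) i))
noncomputable def t1766_1768 (i : ℕ) : ℕ := (@Bool.rec (fun _ => ℕ) l1766 l1767 (Nat.ble (nat_lit 1767) i))
noncomputable def t1769_1771 (i : ℕ) : ℕ := (@Bool.rec (fun _ => ℕ) l1769 l1770 (Nat.ble (nat_lit 1770) i))
noncomputable def t1772_1774 (i : ℕ) : ℕ := (@Bool.rec (fun _ => ℕ) l1772 l1773 (Nat.ble (nat_lit 1773) i))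
noncomputable def t1762_1774 (i : ℕ) : ℕ := (@Bool.rec (fun _ => ℕ) (@Bool.rec (fun _ => ℕ) (@Bool.rec (fun _ => ℕ) l1762 (t1763_1765 i) (Nat.ble (nat_lit 1763) i)) (@Bool.rec (fun _ => ℕ) l1765 (t1766_1768 i) (Nat.ble (nat_lit 1766) i)) (Nat.ble (nat_lit 1765) i)) (@Bool.rec (fun _ => ℕ) (@Bool.rec (fun _ => ℕ) l1768 (t1769_1771 i) (Nat.ble (nat_lit 1769) i)) (@Bool.rec (fun _ => ℕ) l1771 (t1772_1774 i) (Nat.ble (nat_lit 1772) i)) (Nat.ble (nat_lit 1771) i)) (Nat.ble (nat_lit 1768) i))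
noncomputable def t1777_1779 (i : ℕ) : ℕ := (@Bool.rec (fun _ => ℕ) l1777 l1778 (Nat.ble (nat_lit 1778) i))
noncomputable def t1780_1782 (i : ℕ) : ℕ := (@Bool.rec (fun _ => ℕ) l1780 l1781 (Nat.ble (nat_lit 1781) i))
noncomputable def t1783_1785 (i : ℕ) : ℕ := (@Bool.rec (fun _ => ℕ) l1783 l1784 (Nat.ble (nat_lit 1784) i))
noncomputable def t1774_1785 (i : ℕ) : ℕ := (@Bool.rec (fun _ => ℕ) (@Bool.rec (fun _ => ℕ) (@Bool.rec (fun _ => ℕ) l1774 l1775 (Nat.ble (nat_lit 1775) i)) (@Bool.rec (fun _ => ℕ) l1776 (t1777_1779 i) (Nat.ble (nat_lit 1777) i)) (Nat.ble (nat_lit 1776) i)) (@Bool.rec (fun _ => ℕ) (@Bool.rec (fun _ => ℕ) l1779 (t1780_1782 i) (Nat.ble (nat_lit 1780) i)) (@Bool.rec (fun _ => ℕ) l1782 (t1783_1785 i) (Nat.ble (nat_lit 1783) i)) (Nat.ble (nat_lit 1782) i)) (Nat.ble (nat_lit 1779) i))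
noncomputable def t1786_1788 (i : ℕ) : ℕ := (@Bool.rec (fun _ => ℕ) l1786 l1787 (Nat.ble (nat_lit 1787) i))
noncomputable def t1789_1791 (i : ℕ) : ℕ := (@Bool.rec (fun _ => ℕ) l1789 l1790 (Nat.ble (nat_lit 1790) i))
noncomputable def t1792_1794 (i : ℕ) : ℕ := (@Bool.rec (fun _ => ℕ) l1792 l1793 (Nat.ble (nat_lit 1793) i))
noncomputable def t1795_1797 (i : ℕ) : ℕ := (@Bool.rec (fun _ => ℕ) l1795 l1796 (Nat.ble (nat_lit 1796) i))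
noncomputable def t1785_1797 (i : ℕ) : ℕ := (@Bool.rec (fun _ => ℕ) (@Bool.rec (fun _ => ℕ) (@Bool.rec (fun _ => ℕ) l1785 (t1786_1788 i) (Nat.ble (nat_lit 1786) i)) (@Bool.rec (fun _ => ℕ) l1788 (t1789_1791 i) (Nat.ble (nat_lit 1789) i)) (Nat.ble (nat_lit 1788) i)) (@Bool.rec (fun _ => ℕ) (@Bool.rec (fun _ => ℕ) l1791 (t1792_1794 i) (Nat.ble (nat_lit 1792) i)) (@Bool.rec (fun _ => ℕ) l1794 (t1795_1797 i) (Nat.ble (nat_lit 1795) i)) (Nat.ble (nat_lit 1794) i)) (Nat.ble (nat_lit 1791) i))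
noncomputable def t1800_1802 (i : ℕ) : ℕ := (@Bool.rec (fun _ => ℕ) l1800 l1801 (Nat.ble (nat_lit 1801) i))
noncomputable def t1803_1805 (i : ℕ) : ℕ := (@Bool.rec (fun _ => ℕ) l1803 l1804 (Nat.ble (nat_lit 1804) i))
noncomputable def t1806_1808 (i : ℕ) : ℕ := (@Bool.rec (fun _ => ℕ) l1806 l1807 (Nat.ble (nat_lit 1807) i))
noncomputable def t1797_1808 (i : ℕ) : ℕ := (@Bool.rec (fun _ => ℕ) (@Bool.rec (fun _ => ℕ) (@Bool.rec (fun _ => ℕ) l1797 l1798 (Nat.ble (nat_lit 1798) i)) (@Bool.rec (fun _ => ℕ) l1799 (t1800_1802 i) (Nat.ble (nat_lit 1800) i)) (Nat.ble (nat_lit 1799) i)) (@Bool.rec (fun _ => ℕ) (@Bool.rec (fun _ => ℕ) l1802 (t1803_1805 i) (Nat.ble (nat_lit 1803) i)) (@Bool.rec (fun _ => ℕ) l1805 (t1806_1808 i) (Nat.ble (nat_lit 1806) i)) (Nat.ble (nat_lit 1805) i)) (Nat.ble (nat_lit 1802) i))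
noncomputable def t1809_1811 (i : ℕ) : ℕ := (@Bool.rec (fun _ => ℕ) l1809 l1810 (Nat.ble (nat_lit 1810) i))
noncomputable def t1812_1814 (i : ℕ) : ℕ := (@Bool.rec (fun _ => ℕ) l1812 l1813 (Nat.ble (nat_lit 1813) i))
noncomputable def t1815_1817 (i : ℕ) : ℕ := (@Bool.rec (fun _ => ℕ) l1815 l1816 (Nat.ble (nat_lit 1816) i))
noncomputable def t1818_1820 (i : ℕ) : ℕ := (@Bool.rec (fun _ => ℕ) l1818 l1819 (Nat.ble (nat_lit 1819) i))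
noncomputable def t1808_1820 (i : ℕ) : ℕ := (@Bool.rec (fun _ => ℕ) (@Bool.rec (fun _ => ℕ) (@Bool.rec (fun _ => ℕ) l1808 (t1809_1811 i) (Nat.ble (nat_lit 1809) i)) (@Bool.rec (fun _ => ℕ) l1811 (t1812_1814 i) (Nat.ble (nat_lit 1812) i)) (Nat.ble (nat_lit 1811) i)) (@Bool.rec (fun _ => ℕ) (@Bool.rec (fun _ => ℕ) l1814 (t1815_1817 i) (Nat.ble (nat_lit 1815) i)) (@Bool.rec (fun _ => ℕ) l1817 (t1818_1820 i) (Nat.ble (nat_lit 1818) i)) (Nat.ble (nat_lit 1817) i)) (Nat.ble (nat_lit 1814) i))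
noncomputable def t1823_1825 (i : ℕ) : ℕ := (@Bool.rec (fun _ => ℕ) l1823 l1824 (Nat.ble (nat_lit 1824) i))
noncomputable def t1826_1828 (i : ℕ) : ℕ := (@Bool.rec (fun _ => ℕ) l1826 l1827 (Nat.ble (nat_lit 1827) i))
noncomputable def t1829_1831 (i : ℕ) : ℕ := (@Bool.rec (fun _ => ℕ) l1829 l1830 (Nat.ble (nat_lit 1830) i))
noncomputable def t1820_1831 (i : ℕ) : ℕ := (@Bool.rec (fun _ => ℕ) (@Bool.rec (fun _ => ℕ) (@Bool.rec (fun _ => ℕ) l1820 l1821 (Nat.ble (nat_lit 1821) i)) (@Bool.rec (fun _ => ℕ) l1822 (t1823_1825 i) (Nat.ble (nat_lit 1823) i)) (Nat.ble (nat_lit 1822) i)) (@Bool.rec (fun _ => ℕ) (@Bool.rec (fun _ => ℕ) l1825 (t1826_1828 i) (Nat.ble (nat_lit 1826) i)) (@Bool.rec (fun _ => ℕ) l1828 (t1829_1831 i) (Nat.ble (nat_lit 1829) i)) (Nat.ble (nat_lit 1828) i)) (Nat.ble (nat_lit 1825) i))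
noncomputable def t1832_1834 (i : ℕ) : ℕ := (@Bool.rec (fun _ => ℕ) l1832 l1833 (Nat.ble (nat_lit 1833) i))
noncomputable def t1835_1837 (i : ℕ) : ℕ := (@Bool.rec (fun _ => ℕ) l1835 l1836 (Nat.ble (nat_lit 1836) i))
noncomputable def t1838_1840 (i : ℕ) : ℕ := (@Bool.rec (fun _ => ℕ) l1838 l1839 (Nat.ble (nat_lit 1839) i))
noncomputable def t1841_1843 (i : ℕ) : ℕ := (@Bool.rec (fun _ => ℕ) l1841 l1842 (Nat.ble (nat_lit 1842) i))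
noncomputable def t1831_1843 (i : ℕ) : ℕ := (@Bool.rec (fun _ => ℕ) (@Bool.rec (fun _ => ℕ) (@Bool.rec (fun _ => ℕ) l1831 (t1832_1834 i) (Nat.ble (nat_lit 1832) i)) (@Bool.rec (fun _ => ℕ) l1834 (t1835_1837 i) (Nat.ble (nat_lit 1835) i)) (Nat.ble (nat_lit 1834) i)) (@Bool.rec (fun _ => ℕ) (@Bool.rec (fun _ => ℕ) l1837 (t1838_1840 i) (Nat.ble (nat_lit 1838) i)) (@Bool.rec (fun _ => ℕ) l1840 (t1841_1843 i) (Nat.ble (nat_lit 1841) i)) (Nat.ble (nat_lit 1840) i)) (Nat.ble (nat_lit 1837) i))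
noncomputable def t1751_1843 (i : ℕ) : ℕ := (@Bool.rec (fun _ => ℕ) (@Bool.rec (fun _ => ℕ) (@Bool.rec (fun _ => ℕ) (t1751_1762 i) (t1762_1774 i) (Nat.ble (nat_lit 1762) i)) (@Bool.rec (fun _ => ℕ) (t1774_1785 i) (t1785_1797 i) (Nat.ble (nat_lit 1785) i)) (Nat.ble (nat_lit 1774) i)) (@Bool.rec (fun _ => ℕ) (@Bool.rec (fun _ => ℕ) (t1797_1808 i) (t1808_1820 i) (Nat.ble (nat_lit 1808) i)) (@Bool.rec (fun _ => ℕ) (t1820_1831 i) (t1831_1843 i) (Nat.ble (nat_lit 1831) i)) (Nat.ble (nat_lit 1820) i)) (Nat.ble (nat_lit 1797) i))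
noncomputable def t1846_1848 (i : ℕ) : ℕ := (@Bool.rec (fun _ => ℕ) l1846 l1847 (Nat.ble (nat_lit 1847) i))
noncomputable def t1849_1851 (i : ℕ) : ℕ := (@Bool.rec (fun _ => ℕ) l1849 l1850 (Nat.ble (nat_lit 1850) i))
noncomputable def t1852_1854 (i : ℕ) : ℕ := (@Bool.rec (fun _ => ℕ) l1852 l1853 (Nat.ble (nat_lit 1853) i))
noncomputable def t1843_1854 (i : ℕ) : ℕ := (@Bool.rec (fun _ => ℕ) (@Bool.rec (fun _ => ℕ) (@Bool.rec (fun _ => ℕ) l1843 l1844 (Nat.ble (nat_lit 1844) i)) (@Bool.rec (fun _ => ℕ) l1845 (t1846_1848 i) (Nat.ble (nat_lit 1846) i)) (Nat.ble (nat_lit 1845) i)) (@Bool.rec (fun _ => ℕ) (@Bool.rec (fun _ => ℕ) l1848 (t1849_1851 i) (Nat.ble (nat_lit 1849) i)) (@Bool.rec (fun _ => ℕ) l1851 (t1852_1854 i) (Nat.ble (nat_lit 1852) i)) (Nat.ble (nat_lit 1851) i)) (Nat.ble (nat_lit 1848) i))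
noncomputable def t1855_1857 (i : ℕ) : ℕ := (@Bool.rec (fun _ => ℕ) l1855 l1856 (Nat.ble (nat_lit 1856) i))
noncomputable def t1858_1860 (i : ℕ) : ℕ := (@Bool.rec (fun _ => ℕ) l1858 l1859 (Nat.ble (nat_lit 1859) i))
noncomputable def t1861_1863 (i : ℕ) : ℕ := (@Bool.rec (fun _ => ℕ) l1861 l1862 (Nat.ble (nat_lit 1862) i))
noncomputable def t1864_1866 (i : ℕ) : ℕ := (@Bool.rec (fun _ => ℕ) l1864 l1865 (Nat.ble (nat_lit 1865) i))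
noncomputable def t1854_1866 (i : ℕ) : ℕ := (@Bool.rec (fun _ => ℕ) (@Bool.rec (fun _ => ℕ) (@Bool.rec (fun _ => ℕ) l1854 (t1855_1857 i) (Nat.ble (nat_lit 1855) i)) (@Bool.rec (fun _ => ℕ) l1857 (t1858_1860 i) (Nat.ble (nat_lit 1858) i)) (Nat.ble (nat_lit 1857) i)) (@Bool.rec (fun _ => ℕ) (@Bool.rec (fun _ => ℕ) l1860 (t1861_1863 i) (Nat.ble (nat_lit 1861) i)) (@Bool.rec (fun _ => ℕ) l1863 (t1864_1866 i) (Nat.ble (nat_lit 1864) i)) (Nat.ble (nat_lit 1863) i)) (Nat.ble (nat_lit 1860) i))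
noncomputable def t1869_1871 (i : ℕ) : ℕ := (@Bool.rec (fun _ => ℕ) l1869 l1870 (Nat.ble (nat_lit 1870) i))
noncomputable def t1872_1874 (i : ℕ) : ℕ := (@Bool.rec (fun _ => ℕ) l1872 l1873 (Nat.ble (nat_lit 1873) i))
noncomputable def t1875_1877 (i : ℕ) : ℕ := (@Bool.rec (fun _ => ℕ) l1875 l1876 (Nat.ble (nat_lit 1876) i))
noncomputable def t1866_1877 (i : ℕ) : ℕ := (@Bool.rec (fun _ => ℕ) (@Bool.rec (fun _ => ℕ) (@Bool.rec (fun _ => ℕ) l1866 l1867 (Nat.ble (nat_lit 1867) i)) (@Bool.rec (fun _ => ℕ) l1868 (t1869_1871 i) (Nat.ble (nat_lit 1869) i)) (Nat.ble (nat_lit 1868) i)) (@Bool.rec (fun _ => ℕ) (@Bool.rec (fun _ => ℕ) l1871 (t1872_1874 i) (Nat.ble (nat_lit 1872) i)) (@Bool.rec (fun _ => ℕ) l1874 (t1875_1877 i) (Nat.ble (nat_lit 1875) i)) (Nat.ble (nat_lit 1874) i)) (Nat.ble (nat_lit 1871) i))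
noncomputable def t1878_1880 (i : ℕ) : ℕ := (@Bool.rec (fun _ => ℕ) l1878 l1879 (Nat.ble (nat_lit 1879) i))
noncomputable def t1881_1883 (i : ℕ) : ℕ := (@Bool.rec (fun _ => ℕ) l1881 l1882 (Nat.ble (nat_lit 1882) i))
noncomputable def t1884_1886 (i : ℕ) : ℕ := (@Bool.rec (fun _ => ℕ) l1884 l1885 (Nat.ble (nat_lit 1885) i))
noncomputable def t1887_1889 (i : ℕ) : ℕ := (@Bool.rec (fun _ => ℕ) l1887 l1888 (Nat.ble (nat_lit 1888) i))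
noncomputable def t1877_1889 (i : ℕ) : ℕ := (@Bool.rec (fun _ => ℕ) (@Bool.rec (fun _ => ℕ) (@Bool.rec (fun _ => ℕ) l1877 (t1878_1880 i) (Nat.ble (nat_lit 1878) i)) (@Bool.rec (fun _ => ℕ) l1880 (t1881_1883 i) (Nat.ble (nat_lit 1881) i)) (Nat.ble (nat_lit 1880) i)) (@Bool.rec (fun _ => ℕ) (@Bool.rec (fun _ => ℕ) l1883 (t1884_1886 i) (Nat.ble (nat_lit 1884) i)) (@Bool.rec (fun _ => ℕ) l1886 (t1887_1889 i) (Nat.ble (nat_lit 1887) i)) (Nat.ble (nat_lit 1886) i)) (Nat.ble (nat_lit 1883) i))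
noncomputable def t1892_1894 (i : ℕ) : ℕ := (@Bool.rec (fun _ => ℕ) l1892 l1893 (Nat.ble (nat_lit 1893) i))
noncomputable def t1895_1897 (i : ℕ) : ℕ := (@Bool.rec (fun _ => ℕ) l1895 l1896 (Nat.ble (nat_lit 1896) i))
noncomputable def t1898_1900 (i : ℕ) : ℕ := (@Bool.rec (fun _ => ℕ) l1898 l1899 (Nat.ble (nat_lit 1899) i))
noncomputable def t1889_1900 (i : ℕ) : ℕ := (@Bool.rec (fun _ => ℕ) (@Bool.rec (fun _ => ℕ) (@Bool.rec (fun _ => ℕ) l1889 l1890 (Nat.ble (nat_lit 1890) i)) (@Bool.rec (fun _ => ℕ) l1891 (t1892_1894 i) (Nat.ble (nat_lit 1892) i)) (Nat.ble (nat_lit 1891) i)) (@Bool.rec (fun _ => ℕ) (@Bool.rec (fun _ => ℕ) l1894 (t1895_1897 i) (Nat.ble (nat_lit 1895) i)) (@Bool.rec (fun _ => ℕ) l1897 (t1898_1900 i) (Nat.ble (nat_lit 1898) i)) (Nat.ble (nat_lit 1897) i)) (Nat.ble (nat_lit 1894) i))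
noncomputable def t1901_1903 (i : ℕ) : ℕ := (@Bool.rec (fun _ => ℕ) l1901 l1902 (Nat.ble (nat_lit 1902) i))
noncomputable def t1904_1906 (i : ℕ) : ℕ := (@Bool.rec (fun _ => ℕ) l1904 l1905 (Nat.ble (nat_lit 1905) i))
noncomputable def t1907_1909 (i : ℕ) : ℕ := (@Bool.rec (fun _ => ℕ) l1907 l1908 (Nat.ble (nat_lit 1908) i))
noncomputable def t1910_1912 (i : ℕ) : ℕ := (@Bool.rec (fun _ => ℕ) l1910 l1911 (Nat.ble (nat_lit 1911) i))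
noncomputable def t1900_1912 (i : ℕ) : ℕ := (@Bool.rec (fun _ => ℕ) (@Bool.rec (fun _ => ℕ) (@Bool.rec (fun _ => ℕ) l1900 (t1901_1903 i) (Nat.ble (nat_lit 1901) i)) (@Bool.rec (fun _ => ℕ) l1903 (t1904_1906 i) (Nat.ble (nat_lit 1904) i)) (Nat.ble (nat_lit 1903) i)) (@Bool.rec (fun _ => ℕ) (@Bool.rec (fun _ => ℕ) l1906 (t1907_1909 i) (Nat.ble (nat_lit 1907) i)) (@Bool.rec (fun _ => ℕ) l1909 (t1910_1912 i) (Nat.ble (nat_lit 1910) i)) (Nat.ble (nat_lit 1909) i)) (Nat.ble (nat_lit 1906) i))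
noncomputable def t1915_1917 (i : ℕ) : ℕ := (@Bool.rec (fun _ => ℕ) l1915 l1916 (Nat.ble (nat_lit 1916) i))
noncomputable def t1918_1920 (i : ℕ) : ℕ := (@Bool.rec (fun _ => ℕ) l1918 l1919 (Nat.ble (nat_lit 1919) i))
noncomputable def t1921_1923 (i : ℕ) : ℕ := (@Bool.rec (fun _ => ℕ) l1921 l1922 (Nat.ble (nat_lit 1922) i))
noncomputable def t1912_1923 (i : ℕ) : ℕ := (@Bool.rec (fun _ => ℕ) (@Bool.rec (fun _ => ℕ) (@Bool.rec (fun _ => ℕ) l1912 l1913 (Nat.ble (nat_lit 1913) i)) (@Bool.rec (fun _ => ℕ) l1914 (t1915_1917 i) (Nat.ble (nat_lit 1915) i)) (Nat.ble (nat_lit 1914) i)) (@Bool.rec (fun _ => ℕ) (@Bool.rec (fun _ => ℕ) l1917 (t1918_1920 i) (Nat.ble (nat_lit 1918) i)) (@Bool.rec (fun _ => ℕ) l1920 (t1921_1923 i) (Nat.ble (nat_lit 1921) i)) (Nat.ble (nat_lit 1920) i)) (Nat.ble (nat_lit 1917) i))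
noncomputable def t1924_1926 (i : ℕ) : ℕ := (@Bool.rec (fun _ => ℕ) l1924 l1925 (Nat.ble (nat_lit 1925) i))
noncomputable def t1927_1929 (i : ℕ) : ℕ := (@Bool.rec (fun _ => ℕ) l1927 l1928 (Nat.ble (nat_lit 1928) i))
noncomputable def t1930_1932 (i : ℕ) : ℕ := (@Bool.rec (fun _ => ℕ) l1930 l1931 (Nat.ble (nat_lit 1931) i))
noncomputable def t1933_1935 (i : ℕ) : ℕ := (@Bool.rec (fun _ => ℕ) l1933 l1934 (Nat.ble (nat_lit 1934) i))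
noncomputable def t1923_1935 (i : ℕ) : ℕ := (@Bool.rec (fun _ => ℕ) (@Bool.rec (fun _ => ℕ) (@Bool.rec (fun _ => ℕ) l1923 (t1924_1926 i) (Nat.ble (nat_lit 1924) i)) (@Bool.rec (fun _ => ℕ) l1926 (t1927_1929 i) (Nat.ble (nat_lit 1927) i)) (Nat.ble (nat_lit 1926) i)) (@Bool.rec (fun _ => ℕ) (@Bool.rec (fun _ => ℕ) l1929 (t1930_1932 i) (Nat.ble (nat_lit 1930) i)) (@Bool.rec (fun _ => ℕ) l1932 (t1933_1935 i) (Nat.ble (nat_lit 1933) i)) (Nat.ble (nat_lit 1932) i)) (Nat.ble (nat_lit 1929) i))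
noncomputable def t1843_1935 (i : ℕ) : ℕ := (@Bool.rec (fun _ => ℕ) (@Bool.rec (fun _ => ℕ) (@Bool.rec (fun _ => ℕ) (t1843_1854 i) (t1854_1866 i) (Nat.ble (nat_lit 1854) i)) (@Bool.rec (fun _ => ℕ) (t1866_1877 i) (t1877_1889 i) (Nat.ble (nat_lit 1877) i)) (Nat.ble (nat_lit 1866) i)) (@Bool.rec (fun _ => ℕ) (@Bool.rec (fun _ => ℕ) (t1889_1900 i) (t1900_1912 i) (Nat.ble (nat_lit 1900) i)) (@Bool.rec (fun _ => ℕ) (t1912_1923 i) (t1923_1935 i) (Nat.ble (nat_lit 1923) i)) (Nat.ble (nat_lit 1912) i)) (Nat.ble (nat_lit 1889) i))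
noncomputable def t1938_1940 (i : ℕ) : ℕ := (@Bool.rec (fun _ => ℕ) l1938 l1939 (Nat.ble (nat_lit 1939) i))
noncomputable def t1941_1943 (i : ℕ) : ℕ := (@Bool.rec (fun _ => ℕ) l1941 l1942 (Nat.ble (nat_lit 1942) i))
noncomputable def t1944_1946 (i : ℕ) : ℕ := (@Bool.rec (fun _ => ℕ) l1944 l1945 (Nat.ble (nat_lit 1945) i))
noncomputable def t1935_1946 (i : ℕ) : ℕ := (@Bool.rec (fun _ => ℕ) (@Bool.rec (fun _ => ℕ) (@Bool.rec (fun _ => ℕ) l1935 l1936 (Nat.ble (nat_lit 1936) i)) (@Bool.rec (fun _ => ℕ) l1937 (t1938_1940 i) (Nat.ble (nat_lit 1938) i)) (Nat.ble (nat_lit 1937) i)) (@Bool.rec (fun _ => ℕ) (@Bool.rec (fun _ => ℕ) l1940 (t1941_1943 i) (Nat.ble (nat_lit 1941) i)) (@Bool.rec (fun _ => ℕ) l1943 (t1944_1946 i) (Nat.ble (nat_lit 1944) i)) (Nat.ble (nat_lit 1943) i)) (Nat.ble (nat_lit 1940) i))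
noncomputable def t1947_1949 (i : ℕ) : ℕ := (@Bool.rec (fun _ => ℕ) l1947 l1948 (Nat.ble (nat_lit 1948) i))
noncomputable def t1950_1952 (i : ℕ) : ℕ := (@Bool.rec (fun _ => ℕ) l1950 l1951 (Nat.ble (nat_lit 1951) i))
noncomputable def t1953_1955 (i : ℕ) : ℕ := (@Bool.rec (fun _ => ℕ) l1953 l1954 (Nat.ble (nat_lit 1954) i))
noncomputable def t1956_1958 (i : ℕ) : ℕ := (@Bool.rec (fun _ => ℕ) l1956 l1957 (Nat.ble (nat_lit 1957) i))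
noncomputable def t1946_1958 (i : ℕ) : ℕ := (@Bool.rec (fun _ => ℕ) (@Bool.rec (fun _ => ℕ) (@Bool.rec (fun _ => ℕ) l1946 (t1947_1949 i) (Nat.ble (nat_lit 1947) i)) (@Bool.rec (fun _ => ℕ) l1949 (t1950_1952 i) (Nat.ble (nat_lit 1950) i)) (Nat.ble (nat_lit 1949) i)) (@Bool.rec (fun _ => ℕ) (@Bool.rec (fun _ => ℕ) l1952 (t1953_1955 i) (Nat.ble (nat_lit 1953) i)) (@Bool.rec (fun _ => ℕ) l1955 (t1956_1958 i) (Nat.ble (nat_lit 1956) i)) (Nat.ble (nat_lit 1955) i)) (Nat.ble (nat_lit 1952) i))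
noncomputable def t1961_1963 (i : ℕ) : ℕ := (@Bool.rec (fun _ => ℕ) l1961 l1962 (Nat.ble (nat_lit 1962) i))
noncomputable def t1964_1966 (i : ℕ) : ℕ := (@Bool.rec (fun _ => ℕ) l1964 l1965 (Nat.ble (nat_lit 1965) i))
noncomputable def t1967_1969 (i : ℕ) : ℕ := (@Bool.rec (fun _ => ℕ) l1967 l1968 (Nat.ble (nat_lit 1968) i))
noncomputable def t1958_1969 (i : ℕ) : ℕ := (@Bool.rec (fun _ => ℕ) (@Bool.rec (fun _ => ℕ) (@Bool.rec (fun _ => ℕ) l1958 l1959 (Nat.ble (nat_lit 1959) i)) (@Bool.rec (fun _ => ℕ) l1960 (t1961_1963 i) (Nat.ble (nat_lit 1961) i)) (Nat.ble (nat_lit 1960) i)) (@Bool.rec (fun _ => ℕ) (@Bool.rec (fun _ => ℕ) l1963 (t1964_1966 i) (Nat.ble (nat_lit 1964) i)) (@Bool.rec (fun _ => ℕ) l1966 (t1967_1969 i) (Nat.ble (nat_lit 1967) i)) (Nat.ble (nat_lit 1966) i)) (Nat.ble (nat_lit 1963) i))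
noncomputable def t1970_1972 (i : ℕ) : ℕ := (@Bool.rec (fun _ => ℕ) l1970 l1971 (Nat.ble (nat_lit 1971) i))
noncomputable def t1973_1975 (i : ℕ) : ℕ := (@Bool.rec (fun _ => ℕ) l1973 l1974 (Nat.ble (nat_lit 1974) i))
noncomputable def t1976_1978 (i : ℕ) : ℕ := (@Bool.rec (fun _ => ℕ) l1976 l1977 (Nat.ble (nat_lit 1977) i))
noncomputable def t1979_1981 (i : ℕ) : ℕ := (@Bool.rec (fun _ => ℕ) l1979 l1980 (Nat.ble (nat_lit 1980) i))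
noncomputable def t1969_1981 (i : ℕ) : ℕ := (@Bool.rec (fun _ => ℕ) (@Bool.rec (fun _ => ℕ) (@Bool.rec (fun _ => ℕ) l1969 (t1970_1972 i) (Nat.ble (nat_lit 1970) i)) (@Bool.rec (fun _ => ℕ) l1972 (t1973_1975 i) (Nat.ble (nat_lit 1973) i)) (Nat.ble (nat_lit 1972) i)) (@Bool.rec (fun _ => ℕ) (@Bool.rec (fun _ => ℕ) l1975 (t1976_1978 i) (Nat.ble (nat_lit 1976) i)) (@Bool.rec (fun _ => ℕ) l1978 (t1979_1981 i) (Nat.ble (nat_lit 1979) i)) (Nat.ble (nat_lit 1978) i)) (Nat.ble (nat_lit 1975) i))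
noncomputable def t1984_1986 (i : ℕ) : ℕ := (@Bool.rec (fun _ => ℕ) l1984 l1985 (Nat.ble (nat_lit 1985) i))
noncomputable def t1987_1989 (i : ℕ) : ℕ := (@Bool.rec (fun _ => ℕ) l1987 l1988 (Nat.ble (nat_lit 1988) i))
noncomputable def t1990_1992 (i : ℕ) : ℕ := (@Bool.rec (fun _ => ℕ) l1990 l1991 (Nat.ble (nat_lit 1991) i))
noncomputable def t1981_1992 (i : ℕ) : ℕ := (@Bool.rec (fun _ => ℕ) (@Bool.rec (fun _ => ℕ) (@Bool.rec (fun _ => ℕ) l1981 l1982 (Nat.ble (nat_lit 1982) i)) (@Bool.rec (fun _ => ℕ) l1983 (t1984_1986 i) (Nat.ble (nat_lit 1984) i)) (Nat.ble (nat_lit 1983) i)) (@Bool.rec (fun _ => ℕ) (@Bool.rec (fun _ => ℕ) l1986 (t1987_1989 i) (Nat.ble (nat_lit 1987) i)) (@Bool.rec (fun _ => ℕ) l1989 (t1990_1992 i) (Nat.ble (nat_lit 1990) i)) (Nat.ble (nat_lit 1989) i)) (Nat.ble (nat_lit 1986) i))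
noncomputable def t1993_1995 (i : ℕ) : ℕ := (@Bool.rec (fun _ => ℕ) l1993 l1994 (Nat.ble (nat_lit 1994) i))
noncomputable def t1996_1998 (i : ℕ) : ℕ := (@Bool.rec (fun _ => ℕ) l1996 l1997 (Nat.ble (nat_lit 1997) i))
noncomputable def t1999_2001 (i : ℕ) : ℕ := (@Bool.rec (fun _ => ℕ) l1999 l2000 (Nat.ble (nat_lit 2000) i))
noncomputable def t2002_2004 (i : ℕ) : ℕ := (@Bool.rec (fun _ => ℕ) l2002 l2003 (Nat.ble (nat_lit 2003) i))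
noncomputable def t1992_2004 (i : ℕ) : ℕ := (@Bool.rec (fun _ => ℕ) (@Bool.rec (fun _ => ℕ) (@Bool.rec (fun _ => ℕ) l1992 (t1993_1995 i) (Nat.ble (nat_lit 1993) i)) (@Bool.rec (fun _ => ℕ) l1995 (t1996_1998 i) (Nat.ble (nat_lit 1996) i)) (Nat.ble (nat_lit 1995) i)) (@Bool.rec (fun _ => ℕ) (@Bool.rec (fun _ => ℕ) l1998 (t1999_2001 i) (Nat.ble (nat_lit 1999) i)) (@Bool.rec (fun _ => ℕ) l2001 (t2002_2004 i) (Nat.ble (nat_lit 2002) i)) (Nat.ble (nat_lit 2001) i)) (Nat.ble (nat_lit 1998) i))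
noncomputable def t2007_2009 (i : ℕ) : ℕ := (@Bool.rec (fun _ => ℕ) l2007 l2008 (Nat.ble (nat_lit 2008) i))
noncomputable def t2010_2012 (i : ℕ) : ℕ := (@Bool.rec (fun _ => ℕ) l2010 l2011 (Nat.ble (nat_lit 2011) i))
noncomputable def t2013_2015 (i : ℕ) : ℕ := (@Bool.rec (fun _ => ℕ) l2013 l2014 (Nat.ble (nat_lit 2014) i))
noncomputable def t2004_2015 (i : ℕ) : ℕ := (@Bool.rec (fun _ => ℕ) (@Bool.rec (fun _ => ℕ) (@Bool.rec (fun _ => ℕ) l2004 l2005 (Nat.ble (nat_lit 2005) i)) (@Bool.rec (fun _ => ℕ) l2006 (t2007_2009 i) (Nat.ble (nat_lit 2007) i)) (Nat.ble (nat_lit 2006) i)) (@Bool.rec (fun _ => ℕ) (@Bool.rec (fun _ => ℕ) l2009 (t2010_2012 i) (Nat.ble (nat_lit 2010) i)) (@Bool.rec (fun _ => ℕ) l2012 (t2013_2015 i) (Nat.ble (nat_lit 2013) i)) (Nat.ble (nat_lit 2012) i)) (Nat.ble (nat_lit 2009) i))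
noncomputable def t2016_2018 (i : ℕ) : ℕ := (@Bool.rec (fun _ => ℕ) l2016 l2017 (Nat.ble (nat_lit 2017) i))
noncomputable def t2019_2021 (i : ℕ) : ℕ := (@Bool.rec (fun _ => ℕ) l2019 l2020 (Nat.ble (nat_lit 2020) i))
noncomputable def t2022_2024 (i : ℕ) : ℕ := (@Bool.rec (fun _ => ℕ) l2022 l2023 (Nat.ble (nat_lit 2023) i))
noncomputable def t2025_2027 (i : ℕ) : ℕ := (@Bool.rec (fun _ => ℕ) l2025 l2026 (Nat.ble (nat_lit 2026) i))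
noncomputable def t2015_2027 (i : ℕ) : ℕ := (@Bool.rec (fun _ => ℕ) (@Bool.rec (fun _ => ℕ) (@Bool.rec (fun _ => ℕ) l2015 (t2016_2018 i) (Nat.ble (nat_lit 2016) i)) (@Bool.rec (fun _ => ℕ) l2018 (t2019_2021 i) (Nat.ble (nat_lit 2019) i)) (Nat.ble (nat_lit 2018) i)) (@Bool.rec (fun _ => ℕ) (@Bool.rec (fun _ => ℕ) l2021 (t2022_2024 i) (Nat.ble (nat_lit 2022) i)) (@Bool.rec (fun _ => ℕ) l2024 (t2025_2027 i) (Nat.ble (nat_lit 2025) i)) (Nat.ble (nat_lit 2024) i)) (Nat.ble (nat_lit 2021) i))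
noncomputable def t1935_2027 (i : ℕ) : ℕ := (@Bool.rec (fun _ => ℕ) (@Bool.rec (fun _ => ℕ) (@Bool.rec (fun _ => ℕ) (t1935_1946 i) (t1946_1958 i) (Nat.ble (nat_lit 1946) i)) (@Bool.rec (fun _ => ℕ) (t1958_1969 i) (t1969_1981 i) (Nat.ble (nat_lit 1969) i)) (Nat.ble (nat_lit 1958) i)) (@Bool.rec (fun _ => ℕ) (@Bool.rec (fun _ => ℕ) (t1981_1992 i) (t1992_2004 i) (Nat.ble (nat_lit 1992) i)) (@Bool.rec (fun _ => ℕ) (t2004_2015 i) (t2015_2027 i) (Nat.ble (nat_lit 2015) i)) (Nat.ble (nat_lit 2004) i)) (Nat.ble (nat_lit 1981) i))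
noncomputable def t2030_2032 (i : ℕ) : ℕ := (@Bool.rec (fun _ => ℕ) l2030 l2031 (Nat.ble (nat_lit 2031) i))
noncomputable def t2033_2035 (i : ℕ) : ℕ := (@Bool.rec (fun _ => ℕ) l2033 l2034 (Nat.ble (nat_lit 2034) i))
noncomputable def t2036_2038 (i : ℕ) : ℕ := (@Bool.rec (fun _ => ℕ) l2036 l2037 (Nat.ble (nat_lit 2037) i))
noncomputable def t2027_2038 (i : ℕ) : ℕ := (@Bool.rec (fun _ => ℕ) (@Bool.rec (fun _ => ℕ) (@Bool.rec (fun _ => ℕ) l2027 l2028 (Nat.ble (nat_lit 2028) i)) (@Bool.rec (fun _ => ℕ) l2029 (t2030_2032 i) (Nat.ble (nat_lit 2030) i)) (Nat.ble (nat_lit 2029) i)) (@Bool.rec (fun _ => ℕ) (@Bool.rec (fun _ => ℕ) l2032 (t2033_2035 i) (Nat.ble (nat_lit 2033) i)) (@Bool.rec (fun _ => ℕ) l2035 (t2036_2038 i) (Nat.ble (nat_lit 2036) i)) (Nat.ble (nat_lit 2035) i)) (Nat.ble (nat_lit 2032) i))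
noncomputable def t2039_2041 (i : ℕ) : ℕ := (@Bool.rec (fun _ => ℕ) l2039 l2040 (Nat.ble (nat_lit 2040) i))
noncomputable def t2042_2044 (i : ℕ) : ℕ := (@Bool.rec (fun _ => ℕ) l2042 l2043 (Nat.ble (nat_lit 2043) i))
noncomputable def t2045_2047 (i : ℕ) : ℕ := (@Bool.rec (fun _ => ℕ) l2045 l2046 (Nat.ble (nat_lit 2046) i))
noncomputable def t2048_2050 (i : ℕ) : ℕ := (@Bool.rec (fun _ => ℕ) l2048 l2049 (Nat.ble (nat_lit 2049) i))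
noncomputable def t2038_2050 (i : ℕ) : ℕ := (@Bool.rec (fun _ => ℕ) (@Bool.rec (fun _ => ℕ) (@Bool.rec (fun _ => ℕ) l2038 (t2039_2041 i) (Nat.ble (nat_lit 2039) i)) (@Bool.rec (fun _ => ℕ) l2041 (t2042_2044 i) (Nat.ble (nat_lit 2042) i)) (Nat.ble (nat_lit 2041) i)) (@Bool.rec (fun _ => ℕ) (@Bool.rec (fun _ => ℕ) l2044 (t2045_2047 i) (Nat.ble (nat_lit 2045) i)) (@Bool.rec (fun _ => ℕ) l2047 (t2048_2050 i) (Nat.ble (nat_lit 2048) i)) (Nat.ble (nat_lit 2047) i)) (Nat.ble (nat_lit 2044) i))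
noncomputable def t2053_2055 (i : ℕ) : ℕ := (@Bool.rec (fun _ => ℕ) l2053 l2054 (Nat.ble (nat_lit 2054) i))
noncomputable def t2056_2058 (i : ℕ) : ℕ := (@Bool.rec (fun _ => ℕ) l2056 l2057 (Nat.ble (nat_lit 2057) i))
noncomputable def t2059_2061 (i : ℕ) : ℕ := (@Bool.rec (fun _ => ℕ) l2059 l2060 (Nat.ble (nat_lit 2060) i))
noncomputable def t2050_2061 (i : ℕ) : ℕ := (@Bool.rec (fun _ => ℕ) (@Bool.rec (fun _ => ℕ) (@Bool.rec (fun _ => ℕ) l2050 l2051 (Nat.ble (nat_lit 2051) i)) (@Bool.rec (fun _ => ℕ) l2052 (t2053_2055 i) (Nat.ble (nat_lit 2053) i)) (Nat.ble (nat_lit 2052) i)) (@Bool.rec (fun _ => ℕ) (@Bool.rec (fun _ => ℕ) l2055 (t2056_2058 i) (Nat.ble (nat_lit 2056) i)) (@Bool.rec (fun _ => ℕ) l2058 (t2059_2061 i) (Nat.ble (nat_lit 2059) i)) (Nat.ble (nat_lit 2058) i)) (Nat.ble (nat_lit 2055) i))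
noncomputable def t2062_2064 (i : ℕ) : ℕ := (@Bool.rec (fun _ => ℕ) l2062 l2063 (Nat.ble (nat_lit 2063) i))
noncomputable def t2065_2067 (i : ℕ) : ℕ := (@Bool.rec (fun _ => ℕ) l2065 l2066 (Nat.ble (nat_lit 2066) i))
noncomputable def t2068_2070 (i : ℕ) : ℕ := (@Bool.rec (fun _ => ℕ) l2068 l2069 (Nat.ble (nat_lit 2069) i))
noncomputable def t2071_2073 (i : ℕ) : ℕ := (@Bool.rec (fun _ => ℕ) l2071 l2072 (Nat.ble (nat_lit 2072) i))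
noncomputable def t2061_2073 (i : ℕ) : ℕ := (@Bool.rec (fun _ => ℕ) (@Bool.rec (fun _ => ℕ) (@Bool.rec (fun _ => ℕ) l2061 (t2062_2064 i) (Nat.ble (nat_lit 2062) i)) (@Bool.rec (fun _ => ℕ) l2064 (t2065_2067 i) (Nat.ble (nat_lit 2065) i)) (Nat.ble (nat_lit 2064) i)) (@Bool.rec (fun _ => ℕ) (@Bool.rec (fun _ => ℕ) l2067 (t2068_2070 i) (Nat.ble (nat_lit 2068) i)) (@Bool.rec (fun _ => ℕ) l2070 (t2071_2073 i) (Nat.ble (nat_lit 2071) i)) (Nat.ble (nat_lit 2070) i)) (Nat.ble (nat_lit 2067) i))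
noncomputable def t2076_2078 (i : ℕ) : ℕ := (@Bool.rec (fun _ => ℕ) l2076 l2077 (Nat.ble (nat_lit 2077) i))
noncomputable def t2079_2081 (i : ℕ) : ℕ := (@Bool.rec (fun _ => ℕ) l2079 l2080 (Nat.ble (nat_lit 2080) i))
noncomputable def t2082_2084 (i : ℕ) : ℕ := (@Bool.rec (fun _ => ℕ) l2082 l2083 (Nat.ble (nat_lit 2083) i))
noncomputable def t2073_2084 (i : ℕ) : ℕ := (@Bool.rec (fun _ => ℕ) (@Bool.rec (fun _ => ℕ) (@Bool.rec (fun _ => ℕ) l2073 l2074 (Nat.ble (nat_lit 2074) i)) (@Bool.rec (fun _ => ℕ) l2075 (t2076_2078 i) (Nat.ble (nat_lit 2076) i)) (Nat.ble (nat_lit 2075) i)) (@Bool.rec (fun _ => ℕ) (@Bool.rec (fun _ => ℕ) l2078 (t2079_2081 i) (Nat.ble (nat_lit 2079) i)) (@Bool.rec (fun _ => ℕ) l2081 (t2082_2084 i) (Nat.ble (nat_lit 2082) i)) (Nat.ble (nat_lit 2081) i)) (Nat.ble (nat_lit 2078) i))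
noncomputable def t2085_2087 (i : ℕ) : ℕ := (@Bool.rec (fun _ => ℕ) l2085 l2086 (Nat.ble (nat_lit 2086) i))
noncomputable def t2088_2090 (i : ℕ) : ℕ := (@Bool.rec (fun _ => ℕ) l2088 l2089 (Nat.ble (nat_lit 2089) i))
noncomputable def t2091_2093 (i : ℕ) : ℕ := (@Bool.rec (fun _ => ℕ) l2091 l2092 (Nat.ble (nat_lit 2092) i))
noncomputable def t2094_2096 (i : ℕ) : ℕ := (@Bool.rec (fun _ => ℕ) l2094 l2095 (Nat.ble (nat_lit 2095) i))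
noncomputable def t2084_2096 (i : ℕ) : ℕ := (@Bool.rec (fun _ => ℕ) (@Bool.rec (fun _ => ℕ) (@Bool.rec (fun _ => ℕ) l2084 (t2085_2087 i) (Nat.ble (nat_lit 2085) i)) (@Bool.rec (fun _ => ℕ) l2087 (t2088_2090 i) (Nat.ble (nat_lit 2088) i)) (Nat.ble (nat_lit 2087) i)) (@Bool.rec (fun _ => ℕ) (@Bool.rec (fun _ => ℕ) l2090 (t2091_2093 i) (Nat.ble (nat_lit 2091) i)) (@Bool.rec (fun _ => ℕ) l2093 (t2094_2096 i) (Nat.ble (nat_lit 2094) i)) (Nat.ble (nat_lit 2093) i)) (Nat.ble (nat_lit 2090) i))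
noncomputable def t2099_2101 (i : ℕ) : ℕ := (@Bool.rec (fun _ => ℕ) l2099 l2100 (Nat.ble (nat_lit 2100) i))
noncomputable def t2102_2104 (i : ℕ) : ℕ := (@Bool.rec (fun _ => ℕ) l2102 l2103 (Nat.ble (nat_lit 2103) i))
noncomputable def t2105_2107 (i : ℕ) : ℕ := (@Bool.rec (fun _ => ℕ) l2105 l2106 (Nat.ble (nat_lit 2106) i))
noncomputable def t2096_2107 (i : ℕ) : ℕ := (@Bool.rec (fun _ => ℕ) (@Bool.rec (fun _ => ℕ) (@Bool.rec (fun _ => ℕ) l2096 l2097 (Nat.ble (nat_lit 2097) i)) (@Bool.rec (fun _ => ℕ) l2098 (t2099_2101 i) (Nat.ble (nat_lit 2099) i)) (Nat.ble (nat_lit 2098) i)) (@Bool.rec (fun _ => ℕ) (@Bool.rec (fun _ => ℕ) l2101 (t2102_2104 i) (Nat.ble (nat_lit 2102) i)) (@Bool.rec (fun _ => ℕ) l2104 (t2105_2107 i) (Nat.ble (nat_lit 2105) i)) (Nat.ble (nat_lit 2104) i)) (Nat.ble (nat_lit 2101) i))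
noncomputable def t2108_2110 (i : ℕ) : ℕ := (@Bool.rec (fun _ => ℕ) l2108 l2109 (Nat.ble (nat_lit 2109) i))
noncomputable def t2111_2113 (i : ℕ) : ℕ := (@Bool.rec (fun _ => ℕ) l2111 l2112 (Nat.ble (nat_lit 2112) i))
noncomputable def t2114_2116 (i : ℕ) : ℕ := (@Bool.rec (fun _ => ℕ) l2114 l2115 (Nat.ble (nat_lit 2115) i))
noncomputable def t2117_2119 (i : ℕ) : ℕ := (@Bool.rec (fun _ => ℕ) l2117 l2118 (Nat.ble (nat_lit 2118) i))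
noncomputable def t2107_2119 (i : ℕ) : ℕ := (@Bool.rec (fun _ => ℕ) (@Bool.rec (fun _ => ℕ) (@Bool.rec (fun _ => ℕ) l2107 (t2108_2110 i) (Nat.ble (nat_lit 2108) i)) (@Bool.rec (fun _ => ℕ) l2110 (t2111_2113 i) (Nat.ble (nat_lit 2111) i)) (Nat.ble (nat_lit 2110) i)) (@Bool.rec (fun _ => ℕ) (@Bool.rec (fun _ => ℕ) l2113 (t2114_2116 i) (Nat.ble (nat_lit 2114) i)) (@Bool.rec (fun _ => ℕ) l2116 (t2117_2119 i) (Nat.ble (nat_lit 2117) i)) (Nat.ble (nat_lit 2116) i)) (Nat.ble (nat_lit 2113) i))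
noncomputable def t2027_2119 (i : ℕ) : ℕ := (@Bool.rec (fun _ => ℕ) (@Bool.rec (fun _ => ℕ) (@Bool.rec (fun _ => ℕ) (t2027_2038 i) (t2038_2050 i) (Nat.ble (nat_lit 2038) i)) (@Bool.rec (fun _ => ℕ) (t2050_2061 i) (t2061_2073 i) (Nat.ble (nat_lit 2061) i)) (Nat.ble (nat_lit 2050) i)) (@Bool.rec (fun _ => ℕ) (@Bool.rec (fun _ => ℕ) (t2073_2084 i) (t2084_2096 i) (Nat.ble (nat_lit 2084) i)) (@Bool.rec (fun _ => ℕ) (t2096_2107 i) (t2107_2119 i) (Nat.ble (nat_lit 2107) i)) (Nat.ble (nat_lit 2096) i)) (Nat.ble (nat_lit 2073) i))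
noncomputable def t2122_2124 (i : ℕ) : ℕ := (@Bool.rec (fun _ => ℕ) l2122 l2123 (Nat.ble (nat_lit 2123) i))
noncomputable def t2125_2127 (i : ℕ) : ℕ := (@Bool.rec (fun _ => ℕ) l2125 l2126 (Nat.ble (nat_lit 2126) i))
noncomputable def t2128_2130 (i : ℕ) : ℕ := (@Bool.rec (fun _ => ℕ) l2128 l2129 (Nat.ble (nat_lit 2129) i))
noncomputable def t2119_2130 (i : ℕ) : ℕ := (@Bool.rec (fun _ => ℕ) (@Bool.rec (fun _ => ℕ) (@Bool.rec (fun _ => ℕ) l2119 l2120 (Nat.ble (nat_lit 2120) i)) (@Bool.rec (fun _ => ℕ) l2121 (t2122_2124 i) (Nat.ble (nat_lit 2122) i)) (Nat.ble (nat_lit 2121) i)) (@Bool.rec (fun _ => ℕ) (@Bool.rec (fun _ => ℕ) l2124 (t2125_2127 i) (Nat.ble (nat_lit 2125) i)) (@Bool.rec (fun _ => ℕ) l2127 (t2128_2130 i) (Nat.ble (nat_lit 2128) i)) (Nat.ble (nat_lit 2127) i)) (Nat.ble (nat_lit 2124) i))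
noncomputable def t2131_2133 (i : ℕ) : ℕ := (@Bool.rec (fun _ => ℕ) l2131 l2132 (Nat.ble (nat_lit 2132) i))
noncomputable def t2134_2136 (i : ℕ) : ℕ := (@Bool.rec (fun _ => ℕ) l2134 l2135 (Nat.ble (nat_lit 2135) i))
noncomputable def t2137_2139 (i : ℕ) : ℕ := (@Bool.rec (fun _ => ℕ) l2137 l2138 (Nat.ble (nat_lit 2138) i))
noncomputable def t2140_2142 (i : ℕ) : ℕ := (@Bool.rec (fun _ => ℕ) l2140 l2141 (Nat.ble (nat_lit 2141) i))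
noncomputable def t2130_2142 (i : ℕ) : ℕ := (@Bool.rec (fun _ => ℕ) (@Bool.rec (fun _ => ℕ) (@Bool.rec (fun _ => ℕ) l2130 (t2131_2133 i) (Nat.ble (nat_lit 2131) i)) (@Bool.rec (fun _ => ℕ) l2133 (t2134_2136 i) (Nat.ble (nat_lit 2134) i)) (Nat.ble (nat_lit 2133) i)) (@Bool.rec (fun _ => ℕ) (@Bool.rec (fun _ => ℕ) l2136 (t2137_2139 i) (Nat.ble (nat_lit 2137) i)) (@Bool.rec (fun _ => ℕ) l2139 (t2140_2142 i) (Nat.ble (nat_lit 2140) i)) (Nat.ble (nat_lit 2139) i)) (Nat.ble (nat_lit 2136) i))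
noncomputable def t2145_2147 (i : ℕ) : ℕ := (@Bool.rec (fun _ => ℕ) l2145 l2146 (Nat.ble (nat_lit 2146) i))
noncomputable def t2148_2150 (i : ℕ) : ℕ := (@Bool.rec (fun _ => ℕ) l2148 l2149 (Nat.ble (nat_lit 2149) i))
noncomputable def t2151_2153 (i : ℕ) : ℕ := (@Bool.rec (fun _ => ℕ) l2151 l2152 (Nat.ble (nat_lit 2152) i))
noncomputable def t2142_2153 (i : ℕ) : ℕ := (@Bool.rec (fun _ => ℕ) (@Bool.rec (fun _ => ℕ) (@Bool.rec (fun _ => ℕ) l2142 l2143 (Nat.ble (nat_lit 2143) i)) (@Bool.rec (fun _ => ℕ) l2144 (t2145_2147 i) (Nat.ble (nat_lit 2145) i)) (Nat.ble (nat_lit 2144) i)) (@Bool.rec (fun _ => ℕ) (@Bool.rec (fun _ => ℕ) l2147 (t2148_2150 i) (Nat.ble (nat_lit 2148) i)) (@Bool.rec (fun _ => ℕ) l2150 (t2151_2153 i) (Nat.ble (nat_lit 2151) i)) (Nat.ble (nat_lit 2150) i)) (Nat.ble (nat_lit 2147) i))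
noncomputable def t2154_2156 (i : ℕ) : ℕ := (@Bool.rec (fun _ => ℕ) l2154 l2155 (Nat.ble (nat_lit 2155) i))
noncomputable def t2157_2159 (i : ℕ) : ℕ := (@Bool.rec (fun _ => ℕ) l2157 l2158 (Nat.ble (nat_lit 2158) i))
noncomputable def t2160_2162 (i : ℕ) : ℕ := (@Bool.rec (fun _ => ℕ) l2160 l2161 (Nat.ble (nat_lit 2161) i))
noncomputable def t2163_2165 (i : ℕ) : ℕ := (@Bool.rec (fun _ => ℕ) l2163 l2164 (Nat.ble (nat_lit 2164) i))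
noncomputable def t2153_2165 (i : ℕ) : ℕ := (@Bool.rec (fun _ => ℕ) (@Bool.rec (fun _ => ℕ) (@Bool.rec (fun _ => ℕ) l2153 (t2154_2156 i) (Nat.ble (nat_lit 2154) i)) (@Bool.rec (fun _ => ℕ) l2156 (t2157_2159 i) (Nat.ble (nat_lit 2157) i)) (Nat.ble (nat_lit 2156) i)) (@Bool.rec (fun _ => ℕ) (@Bool.rec (fun _ => ℕ) l2159 (t2160_2162 i) (Nat.ble (nat_lit 2160) i)) (@Bool.rec (fun _ => ℕ) l2162 (t2163_2165 i) (Nat.ble (nat_lit 2163) i)) (Nat.ble (nat_lit 2162) i)) (Nat.ble (nat_lit 2159) i))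
noncomputable def t2168_2170 (i : ℕ) : ℕ := (@Bool.rec (fun _ => ℕ) l2168 l2169 (Nat.ble (nat_lit 2169) i))
noncomputable def t2171_2173 (i : ℕ) : ℕ := (@Bool.rec (fun _ => ℕ) l2171 l2172 (Nat.ble (nat_lit 2172) i))
noncomputable def t2174_2176 (i : ℕ) : ℕ := (@Bool.rec (fun _ => ℕ) l2174 l2175 (Nat.ble (nat_lit 2175) i))
noncomputable def t2165_2176 (i : ℕ) : ℕ := (@Bool.rec (fun _ => ℕ) (@Bool.rec (fun _ => ℕ) (@Bool.rec (fun _ => ℕ) l2165 l2166 (Nat.ble (nat_lit 2166) i)) (@Bool.rec (fun _ => ℕ) l2167 (t2168_2170 i) (Nat.ble (nat_lit 2168) i)) (Nat.ble (nat_lit 2167) i)) (@Bool.rec (fun _ => ℕ) (@Bool.rec (fun _ => ℕ) l2170 (t2171_2173 i) (Nat.ble (nat_lit 2171) i)) (@Bool.rec (fun _ => ℕ) l2173 (t2174_2176 i) (Nat.ble (nat_lit 2174) i)) (Nat.ble (nat_lit 2173) i)) (Nat.ble (nat_lit 2170) i))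
noncomputable def t2177_2179 (i : ℕ) : ℕ := (@Bool.rec (fun _ => ℕ) l2177 l2178 (Nat.ble (nat_lit 2178) i))
noncomputable def t2180_2182 (i : ℕ) : ℕ := (@Bool.rec (fun _ => ℕ) l2180 l2181 (Nat.ble (nat_lit 2181) i))
noncomputable def t2183_2185 (i : ℕ) : ℕ := (@Bool.rec (fun _ => ℕ) l2183 l2184 (Nat.ble (nat_lit 2184) i))
noncomputable def t2186_2188 (i : ℕ) : ℕ := (@Bool.rec (fun _ => ℕ) l2186 l2187 (Nat.ble (nat_lit 2187) i))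
noncomputable def t2176_2188 (i : ℕ) : ℕ := (@Bool.rec (fun _ => ℕ) (@Bool.rec (fun _ => ℕ) (@Bool.rec (fun _ => ℕ) l2176 (t2177_2179 i) (Nat.ble (nat_lit 2177) i)) (@Bool.rec (fun _ => ℕ) l2179 (t2180_2182 i) (Nat.ble (nat_lit 2180) i)) (Nat.ble (nat_lit 2179) i)) (@Bool.rec (fun _ => ℕ) (@Bool.rec (fun _ => ℕ) l2182 (t2183_2185 i) (Nat.ble (nat_lit 2183) i)) (@Bool.rec (fun _ => ℕ) l2185 (t2186_2188 i) (Nat.ble (nat_lit 2186) i)) (Nat.ble (nat_lit 2185) i)) (Nat.ble (nat_lit 2182) i))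
noncomputable def t2189_2191 (i : ℕ) : ℕ := (@Bool.rec (fun _ => ℕ) l2189 l2190 (Nat.ble (nat_lit 2190) i))
noncomputable def t2192_2194 (i : ℕ) : ℕ := (@Bool.rec (fun _ => ℕ) l2192 l2193 (Nat.ble (nat_lit 2193) i))
noncomputable def t2195_2197 (i : ℕ) : ℕ := (@Bool.rec (fun _ => ℕ) l2195 l2196 (Nat.ble (nat_lit 2196) i))
noncomputable def t2198_2200 (i : ℕ) : ℕ := (@Bool.rec (fun _ => ℕ) l2198 l2199 (Nat.ble (nat_lit 2199) i))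
noncomputable def t2188_2200 (i : ℕ) : ℕ := (@Bool.rec (fun _ => ℕ) (@Bool.rec (fun _ => ℕ) (@Bool.rec (fun _ => ℕ) l2188 (t2189_2191 i) (Nat.ble (nat_lit 2189) i)) (@Bool.rec (fun _ => ℕ) l2191 (t2192_2194 i) (Nat.ble (nat_lit 2192) i)) (Nat.ble (nat_lit 2191) i)) (@Bool.rec (fun _ => ℕ) (@Bool.rec (fun _ => ℕ) l2194 (t2195_2197 i) (Nat.ble (nat_lit 2195) i)) (@Bool.rec (fun _ => ℕ) l2197 (t2198_2200 i) (Nat.ble (nat_lit 2198) i)) (Nat.ble (nat_lit 2197) i)) (Nat.ble (nat_lit 2194) i))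
noncomputable def t2201_2203 (i : ℕ) : ℕ := (@Bool.rec (fun _ => ℕ) l2201 l2202 (Nat.ble (nat_lit 2202) i))
noncomputable def t2204_2206 (i : ℕ) : ℕ := (@Bool.rec (fun _ => ℕ) l2204 l2205 (Nat.ble (nat_lit 2205) i))
noncomputable def t2207_2209 (i : ℕ) : ℕ := (@Bool.rec (fun _ => ℕ) l2207 l2208 (Nat.ble (nat_lit 2208) i))
noncomputable def t2210_2212 (i : ℕ) : ℕ := (@Bool.rec (fun _ => ℕ) l2210 l2211 (Nat.ble (nat_lit 2211) i))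
noncomputable def t2200_2212 (i : ℕ) : ℕ := (@Bool.rec (fun _ => ℕ) (@Bool.rec (fun _ => ℕ) (@Bool.rec (fun _ => ℕ) l2200 (t2201_2203 i) (Nat.ble (nat_lit 2201) i)) (@Bool.rec (fun _ => ℕ) l2203 (t2204_2206 i) (Nat.ble (nat_lit 2204) i)) (Nat.ble (nat_lit 2203) i)) (@Bool.rec (fun _ => ℕ) (@Bool.rec (fun _ => ℕ) l2206 (t2207_2209 i) (Nat.ble (nat_lit 2207) i)) (@Bool.rec (fun _ => ℕ) l2209 (t2210_2212 i) (Nat.ble (nat_lit 2210) i)) (Nat.ble (nat_lit 2209) i)) (Nat.ble (nat_lit 2206) i))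
noncomputable def t2119_2212 (i : ℕ) : ℕ := (@Bool.rec (fun _ => ℕ) (@Bool.rec (fun _ => ℕ) (@Bool.rec (fun _ => ℕ) (t2119_2130 i) (t2130_2142 i) (Nat.ble (nat_lit 2130) i)) (@Bool.rec (fun _ => ℕ) (t2142_2153 i) (t2153_2165 i) (Nat.ble (nat_lit 2153) i)) (Nat.ble (nat_lit 2142) i)) (@Bool.rec (fun _ => ℕ) (@Bool.rec (fun _ => ℕ) (t2165_2176 i) (t2176_2188 i) (Nat.ble (nat_lit 2176) i)) (@Bool.rec (fun _ => ℕ) (t2188_2200 i) (t2200_2212 i) (Nat.ble (nat_lit 2200) i)) (Nat.ble (nat_lit 2188) i)) (Nat.ble (nat_lit 2165) i))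
noncomputable def t1475_2212 (i : ℕ) : ℕ := (@Bool.rec (fun _ => ℕ) (@Bool.rec (fun _ => ℕ) (@Bool.rec (fun _ => ℕ) (t1475_1567 i) (t1567_1659 i) (Nat.ble (nat_lit 1567) i)) (@Bool.rec (fun _ => ℕ) (t1659_1751 i) (t1751_1843 i) (Nat.ble (nat_lit 1751) i)) (Nat.ble (nat_lit 1659) i)) (@Bool.rec (fun _ => ℕ) (@Bool.rec (fun _ => ℕ) (t1843_1935 i) (t1935_2027 i) (Nat.ble (nat_lit 1935) i)) (@Bool.rec (fun _ => ℕ) (t2027_2119 i) (t2119_2212 i) (Nat.ble (nat_lit 2119) i)) (Nat.ble (nat_lit 2027) i)) (Nat.ble (nat_lit 1843) i))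
noncomputable def t2215_2217 (i : ℕ) : ℕ := (@Bool.rec (fun _ => ℕ) l2215 l2216 (Nat.ble (nat_lit 2216) i))
noncomputable def t2218_2220 (i : ℕ) : ℕ := (@Bool.rec (fun _ => ℕ) l2218 l2219 (Nat.ble (nat_lit 2219) i))
noncomputable def t2221_2223 (i : ℕ) : ℕ := (@Bool.rec (fun _ => ℕ) l2221 l2222 (Nat.ble (nat_lit 2222) i))
noncomputable def t2212_2223 (i : ℕ) : ℕ := (@Bool.rec (fun _ => ℕ) (@Bool.rec (fun _ => ℕ) (@Bool.rec (fun _ => ℕ) l2212 l2213 (Nat.ble (nat_lit 2213) i)) (@Bool.rec (fun _ => ℕ) l2214 (t2215_2217 i) (Nat.ble (nat_lit 2215) i)) (Nat.ble (nat_lit 2214) i)) (@Bool.rec (fun _ => ℕ) (@Bool.rec (fun _ => ℕ) l2217 (t2218_2220 i) (Nat.ble (nat_lit 2218) i)) (@Bool.rec (fun _ => ℕ) l2220 (t2221_2223 i) (Nat.ble (nat_lit 2221) i)) (Nat.ble (nat_lit 2220) i)) (Nat.ble (nat_lit 2217) i))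
noncomputable def t2224_2226 (i : ℕ) : ℕ := (@Bool.rec (fun _ => ℕ) l2224 l2225 (Nat.ble (nat_lit 2225) i))
noncomputable def t2227_2229 (i : ℕ) : ℕ := (@Bool.rec (fun _ => ℕ) l2227 l2228 (Nat.ble (nat_lit 2228) i))
noncomputable def t2230_2232 (i : ℕ) : ℕ := (@Bool.rec (fun _ => ℕ) l2230 l2231 (Nat.ble (nat_lit 2231) i))
noncomputable def t2233_2235 (i : ℕ) : ℕ := (@Bool.rec (fun _ => ℕ) l2233 l2234 (Nat.ble (nat_lit 2234) i))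
noncomputable def t2223_2235 (i : ℕ) : ℕ := (@Bool.rec (fun _ => ℕ) (@Bool.rec (fun _ => ℕ) (@Bool.rec (fun _ => ℕ) l2223 (t2224_2226 i) (Nat.ble (nat_lit 2224) i)) (@Bool.rec (fun _ => ℕ) l2226 (t2227_2229 i) (Nat.ble (nat_lit 2227) i)) (Nat.ble (nat_lit 2226) i)) (@Bool.rec (fun _ => ℕ) (@Bool.rec (fun _ => ℕ) l2229 (t2230_2232 i) (Nat.ble (nat_lit 2230) i)) (@Bool.rec (fun _ => ℕ) l2232 (t2233_2235 i) (Nat.ble (nat_lit 2233) i)) (Nat.ble (nat_lit 2232) i)) (Nat.ble (nat_lit 2229) i))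
noncomputable def t2238_2240 (i : ℕ) : ℕ := (@Bool.rec (fun _ => ℕ) l2238 l2239 (Nat.ble (nat_lit 2239) i))
noncomputable def t2241_2243 (i : ℕ) : ℕ := (@Bool.rec (fun _ => ℕ) l2241 l2242 (Nat.ble (nat_lit 2242) i))
noncomputable def t2244_2246 (i : ℕ) : ℕ := (@Bool.rec (fun _ => ℕ) l2244 l2245 (Nat.ble (nat_lit 2245) i))
noncomputable def t2235_2246 (i : ℕ) : ℕ := (@Bool.rec (fun _ => ℕ) (@Bool.rec (fun _ => ℕ) (@Bool.rec (fun _ => ℕ) l2235 l2236 (Nat.ble (nat_lit 2236) i)) (@Bool.rec (fun _ => ℕ) l2237 (t2238_2240 i) (Nat.ble (nat_lit 2238) i)) (Nat.ble (nat_lit 2237) i)) (@Bool.rec (fun _ => ℕ) (@Bool.rec (fun _ => ℕ) l2240 (t2241_2243 i) (Nat.ble (nat_lit 2241) i)) (@Bool.rec (fun _ => ℕ) l2243 (t2244_2246 i) (Nat.ble (nat_lit 2244) i)) (Nat.ble (nat_lit 2243) i)) (Nat.ble (nat_lit 2240) i))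
noncomputable def t2247_2249 (i : ℕ) : ℕ := (@Bool.rec (fun _ => ℕ) l2247 l2248 (Nat.ble (nat_lit 2248) i))
noncomputable def t2250_2252 (i : ℕ) : ℕ := (@Bool.rec (fun _ => ℕ) l2250 l2251 (Nat.ble (nat_lit 2251) i))
noncomputable def t2253_2255 (i : ℕ) : ℕ := (@Bool.rec (fun _ => ℕ) l2253 l2254 (Nat.ble (nat_lit 2254) i))
noncomputable def t2256_2258 (i : ℕ) : ℕ := (@Bool.rec (fun _ => ℕ) l2256 l2257 (Nat.ble (nat_lit 2257) i))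
noncomputable def t2246_2258 (i : ℕ) : ℕ := (@Bool.rec (fun _ => ℕ) (@Bool.rec (fun _ => ℕ) (@Bool.rec (fun _ => ℕ) l2246 (t2247_2249 i) (Nat.ble (nat_lit 2247) i)) (@Bool.rec (fun _ => ℕ) l2249 (t2250_2252 i) (Nat.ble (nat_lit 2250) i)) (Nat.ble (nat_lit 2249) i)) (@Bool.rec (fun _ => ℕ) (@Bool.rec (fun _ => ℕ) l2252 (t2253_2255 i) (Nat.ble (nat_lit 2253) i)) (@Bool.rec (fun _ => ℕ) l2255 (t2256_2258 i) (Nat.ble (nat_lit 2256) i)) (Nat.ble (nat_lit 2255) i)) (Nat.ble (nat_lit 2252) i))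
noncomputable def t2261_2263 (i : ℕ) : ℕ := (@Bool.rec (fun _ => ℕ) l2261 l2262 (Nat.ble (nat_lit 2262) i))
noncomputable def t2264_2266 (i : ℕ) : ℕ := (@Bool.rec (fun _ => ℕ) l2264 l2265 (Nat.ble (nat_lit 2265) i))
noncomputable def t2267_2269 (i : ℕ) : ℕ := (@Bool.rec (fun _ => ℕ) l2267 l2268 (Nat.ble (nat_lit 2268) i))
noncomputable def t2258_2269 (i : ℕ) : ℕ := (@Bool.rec (fun _ => ℕ) (@Bool.rec (fun _ => ℕ) (@Bool.rec (fun _ => ℕ) l2258 l2259 (Nat.ble (nat_lit 2259) i)) (@Bool.rec (fun _ => ℕ) l2260 (t2261_2263 i) (Nat.ble (nat_lit 2261) i)) (Nat.ble (nat_lit 2260) i)) (@Bool.rec (fun _ => ℕ) (@Bool.rec (fun _ => ℕ) l2263 (t2264_2266 i) (Nat.ble (nat_lit 2264) i)) (@Bool.rec (fun _ => ℕ) l2266 (t2267_2269 i) (Nat.ble (nat_lit 2267) i)) (Nat.ble (nat_lit 2266) i)) (Nat.ble (nat_lit 2263) i))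
noncomputable def t2270_2272 (i : ℕ) : ℕ := (@Bool.rec (fun _ => ℕ) l2270 l2271 (Nat.ble (nat_lit 2271) i))
noncomputable def t2273_2275 (i : ℕ) : ℕ := (@Bool.rec (fun _ => ℕ) l2273 l2274 (Nat.ble (nat_lit 2274) i))
noncomputable def t2276_2278 (i : ℕ) : ℕ := (@Bool.rec (fun _ => ℕ) l2276 l2277 (Nat.ble (nat_lit 2277) i))
noncomputable def t2279_2281 (i : ℕ) : ℕ := (@Bool.rec (fun _ => ℕ) l2279 l2280 (Nat.ble (nat_lit 2280) i))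
noncomputable def t2269_2281 (i : ℕ) : ℕ := (@Bool.rec (fun _ => ℕ) (@Bool.rec (fun _ => ℕ) (@Bool.rec (fun _ => ℕ) l2269 (t2270_2272 i) (Nat.ble (nat_lit 2270) i)) (@Bool.rec (fun _ => ℕ) l2272 (t2273_2275 i) (Nat.ble (nat_lit 2273) i)) (Nat.ble (nat_lit 2272) i)) (@Bool.rec (fun _ => ℕ) (@Bool.rec (fun _ => ℕ) l2275 (t2276_2278 i) (Nat.ble (nat_lit 2276) i)) (@Bool.rec (fun _ => ℕ) l2278 (t2279_2281 i) (Nat.ble (nat_lit 2279) i)) (Nat.ble (nat_lit 2278) i)) (Nat.ble (nat_lit 2275) i))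
noncomputable def t2284_2286 (i : ℕ) : ℕ := (@Bool.rec (fun _ => ℕ) l2284 l2285 (Nat.ble (nat_lit 2285) i))
noncomputable def t2287_2289 (i : ℕ) : ℕ := (@Bool.rec (fun _ => ℕ) l2287 l2288 (Nat.ble (nat_lit 2288) i))
noncomputable def t2290_2292 (i : ℕ) : ℕ := (@Bool.rec (fun _ => ℕ) l2290 l2291 (Nat.ble (nat_lit 2291) i))
noncomputable def t2281_2292 (i : ℕ) : ℕ := (@Bool.rec (fun _ => ℕ) (@Bool.rec (fun _ => ℕ) (@Bool.rec (fun _ => ℕ) l2281 l2282 (Nat.ble (nat_lit 2282) i)) (@Bool.rec (fun _ => ℕ) l2283 (t2284_2286 i) (Nat.ble (nat_lit 2284) i)) (Nat.ble (nat_lit 2283) i)) (@Bool.rec (fun _ => ℕ) (@Bool.rec (fun _ => ℕ) l2286 (t2287_2289 i) (Nat.ble (nat_lit 2287) i)) (@Bool.rec (fun _ => ℕ) l2289 (t2290_2292 i) (Nat.ble (nat_lit 2290) i)) (Nat.ble (nat_lit 2289) i)) (Nat.ble (nat_lit 2286) i))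
noncomputable def t2293_2295 (i : ℕ) : ℕ := (@Bool.rec (fun _ => ℕ) l2293 l2294 (Nat.ble (nat_lit 2294) i))
noncomputable def t2296_2298 (i : ℕ) : ℕ := (@Bool.rec (fun _ => ℕ) l2296 l2297 (Nat.ble (nat_lit 2297) i))
noncomputable def t2299_2301 (i : ℕ) : ℕ := (@Bool.rec (fun _ => ℕ) l2299 l2300 (Nat.ble (nat_lit 2300) i))
noncomputable def t2302_2304 (i : ℕ) : ℕ := (@Bool.rec (fun _ => ℕ) l2302 l2303 (Nat.ble (nat_lit 2303) i))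
noncomputable def t2292_2304 (i : ℕ) : ℕ := (@Bool.rec (fun _ => ℕ) (@Bool.rec (fun _ => ℕ) (@Bool.rec (fun _ => ℕ) l2292 (t2293_2295 i) (Nat.ble (nat_lit 2293) i)) (@Bool.rec (fun _ => ℕ) l2295 (t2296_2298 i) (Nat.ble (nat_lit 2296) i)) (Nat.ble (nat_lit 2295) i)) (@Bool.rec (fun _ => ℕ) (@Bool.rec (fun _ => ℕ) l2298 (t2299_2301 i) (Nat.ble (nat_lit 2299) i)) (@Bool.rec (fun _ => ℕ) l2301 (t2302_2304 i) (Nat.ble (nat_lit 2302) i)) (Nat.ble (nat_lit 2301) i)) (Nat.ble (nat_lit 2298) i))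
noncomputable def t2212_2304 (i : ℕ) : ℕ := (@Bool.rec (fun _ => ℕ) (@Bool.rec (fun _ => ℕ) (@Bool.rec (fun _ => ℕ) (t2212_2223 i) (t2223_2235 i) (Nat.ble (nat_lit 2223) i)) (@Bool.rec (fun _ => ℕ) (t2235_2246 i) (t2246_2258 i) (Nat.ble (nat_lit 2246) i)) (Nat.ble (nat_lit 2235) i)) (@Bool.rec (fun _ => ℕ) (@Bool.rec (fun _ => ℕ) (t2258_2269 i) (t2269_2281 i) (Nat.ble (nat_lit 2269) i)) (@Bool.rec (fun _ => ℕ) (t2281_2292 i) (t2292_2304 i) (Nat.ble (nat_lit 2292) i)) (Nat.ble (nat_lit 2281) i)) (Nat.ble (nat_lit 2258) i))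
noncomputable def t2307_2309 (i : ℕ) : ℕ := (@Bool.rec (fun _ => ℕ) l2307 l2308 (Nat.ble (nat_lit 2308) i))
noncomputable def t2310_2312 (i : ℕ) : ℕ := (@Bool.rec (fun _ => ℕ) l2310 l2311 (Nat.ble (nat_lit 2311) i))
noncomputable def t2313_2315 (i : ℕ) : ℕ := (@Bool.rec (fun _ => ℕ) l2313 l2314 (Nat.ble (nat_lit 2314) i))
noncomputable def t2304_2315 (i : ℕ) : ℕ := (@Bool.rec (fun _ => ℕ) (@Bool.rec (fun _ => ℕ) (@Bool.rec (fun _ => ℕ) l2304 l2305 (Nat.ble (nat_lit 2305) i)) (@Bool.rec (fun _ => ℕ) l2306 (t2307_2309 i) (Nat.ble (nat_lit 2307) i)) (Nat.ble (nat_lit 2306) i)) (@Bool.rec (fun _ => ℕ) (@Bool.rec (fun _ => ℕ) l2309 (t2310_2312 i) (Nat.ble (nat_lit 2310) i)) (@Bool.rec (fun _ => ℕ) l2312 (t2313_2315 i) (Nat.ble (nat_lit 2313) i)) (Nat.ble (nat_lit 2312) i)) (Nat.ble (nat_lit 2309) i))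
noncomputable def t2316_2318 (i : ℕ) : ℕ := (@Bool.rec (fun _ => ℕ) l2316 l2317 (Nat.ble (nat_lit 2317) i))
noncomputable def t2319_2321 (i : ℕ) : ℕ := (@Bool.rec (fun _ => ℕ) l2319 l2320 (Nat.ble (nat_lit 2320) i))
noncomputable def t2322_2324 (i : ℕ) : ℕ := (@Bool.rec (fun _ => ℕ) l2322 l2323 (Nat.ble (nat_lit 2323) i))
noncomputable def t2325_2327 (i : ℕ) : ℕ := (@Bool.rec (fun _ => ℕ) l2325 l2326 (Nat.ble (nat_lit 2326) i))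
noncomputable def t2315_2327 (i : ℕ) : ℕ := (@Bool.rec (fun _ => ℕ) (@Bool.rec (fun _ => ℕ) (@Bool.rec (fun _ => ℕ) l2315 (t2316_2318 i) (Nat.ble (nat_lit 2316) i)) (@Bool.rec (fun _ => ℕ) l2318 (t2319_2321 i) (Nat.ble (nat_lit 2319) i)) (Nat.ble (nat_lit 2318) i)) (@Bool.rec (fun _ => ℕ) (@Bool.rec (fun _ => ℕ) l2321 (t2322_2324 i) (Nat.ble (nat_lit 2322) i)) (@Bool.rec (fun _ => ℕ) l2324 (t2325_2327 i) (Nat.ble (nat_lit 2325) i)) (Nat.ble (nat_lit 2324) i)) (Nat.ble (nat_lit 2321) i))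
noncomputable def t2330_2332 (i : ℕ) : ℕ := (@Bool.rec (fun _ => ℕ) l2330 l2331 (Nat.ble (nat_lit 2331) i))
noncomputable def t2333_2335 (i : ℕ) : ℕ := (@Bool.rec (fun _ => ℕ) l2333 l2334 (Nat.ble (nat_lit 2334) i))
noncomputable def t2336_2338 (i : ℕ) : ℕ := (@Bool.rec (fun _ => ℕ) l2336 l2337 (Nat.ble (nat_lit 2337) i))
noncomputable def t2327_2338 (i : ℕ) : ℕ := (@Bool.rec (fun _ => ℕ) (@Bool.rec (fun _ => ℕ) (@Bool.rec (fun _ => ℕ) l2327 l2328 (Nat.ble (nat_lit 2328) i)) (@Bool.rec (fun _ => ℕ) l2329 (t2330_2332 i) (Nat.ble (nat_lit 2330) i)) (Nat.ble (nat_lit 2329) i)) (@Bool.rec (fun _ => ℕ) (@Bool.rec (fun _ => ℕ) l2332 (t2333_2335 i) (Nat.ble (nat_lit 2333) i)) (@Bool.rec (fun _ => ℕ) l2335 (t2336_2338 i) (Nat.ble (nat_lit 2336) i)) (Nat.ble (nat_lit 2335) i)) (Nat.ble (nat_lit 2332) i))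
noncomputable def t2339_2341 (i : ℕ) : ℕ := (@Bool.rec (fun _ => ℕ) l2339 l2340 (Nat.ble (nat_lit 2340) i))
noncomputable def t2342_2344 (i : ℕ) : ℕ := (@Bool.rec (fun _ => ℕ) l2342 l2343 (Nat.ble (nat_lit 2343) i))
noncomputable def t2345_2347 (i : ℕ) : ℕ := (@Bool.rec (fun _ => ℕ) l2345 l2346 (Nat.ble (nat_lit 2346) i))
noncomputable def t2348_2350 (i : ℕ) : ℕ := (@Bool.rec (fun _ => ℕ) l2348 l2349 (Nat.ble (nat_lit 2349) i))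
noncomputable def t2338_2350 (i : ℕ) : ℕ := (@Bool.rec (fun _ => ℕ) (@Bool.rec (fun _ => ℕ) (@Bool.rec (fun _ => ℕ) l2338 (t2339_2341 i) (Nat.ble (nat_lit 2339) i)) (@Bool.rec (fun _ => ℕ) l2341 (t2342_2344 i) (Nat.ble (nat_lit 2342) i)) (Nat.ble (nat_lit 2341) i)) (@Bool.rec (fun _ => ℕ) (@Bool.rec (fun _ => ℕ) l2344 (t2345_2347 i) (Nat.ble (nat_lit 2345) i)) (@Bool.rec (fun _ => ℕ) l2347 (t2348_2350 i) (Nat.ble (nat_lit 2348) i)) (Nat.ble (nat_lit 2347) i)) (Nat.ble (nat_lit 2344) i))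
noncomputable def t2353_2355 (i : ℕ) : ℕ := (@Bool.rec (fun _ => ℕ) l2353 l2354 (Nat.ble (nat_lit 2354) i))
noncomputable def t2356_2358 (i : ℕ) : ℕ := (@Bool.rec (fun _ => ℕ) l2356 l2357 (Nat.ble (nat_lit 2357) i))
noncomputable def t2359_2361 (i : ℕ) : ℕ := (@Bool.rec (fun _ => ℕ) l2359 l2360 (Nat.ble (nat_lit 2360) i))
noncomputable def t2350_2361 (i : ℕ) : ℕ := (@Bool.rec (fun _ => ℕ) (@Bool.rec (fun _ => ℕ) (@Bool.rec (fun _ => ℕ) l2350 l2351 (Nat.ble (nat_lit 2351) i)) (@Bool.rec (fun _ => ℕ) l2352 (t2353_2355 i) (Nat.ble (nat_lit 2353) i)) (Nat.ble (nat_lit 2352) i)) (@Bool.rec (fun _ => ℕ) (@Bool.rec (fun _ => ℕ) l2355 (t2356_2358 i) (Nat.ble (nat_lit 2356) i)) (@Bool.rec (fun _ => ℕ) l2358 (t2359_2361 i) (Nat.ble (nat_lit 2359) i)) (Nat.ble (nat_lit 2358) i)) (Nat.ble (nat_lit 2355) i))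
noncomputable def t2362_2364 (i : ℕ) : ℕ := (@Bool.rec (fun _ => ℕ) l2362 l2363 (Nat.ble (nat_lit 2363) i))
noncomputable def t2365_2367 (i : ℕ) : ℕ := (@Bool.rec (fun _ => ℕ) l2365 l2366 (Nat.ble (nat_lit 2366) i))
noncomputable def t2368_2370 (i : ℕ) : ℕ := (@Bool.rec (fun _ => ℕ) l2368 l2369 (Nat.ble (nat_lit 2369) i))
noncomputable def t2371_2373 (i : ℕ) : ℕ := (@Bool.rec (fun _ => ℕ) l2371 l2372 (Nat.ble (nat_lit 2372) i))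
noncomputable def t2361_2373 (i : ℕ) : ℕ := (@Bool.rec (fun _ => ℕ) (@Bool.rec (fun _ => ℕ) (@Bool.rec (fun _ => ℕ) l2361 (t2362_2364 i) (Nat.ble (nat_lit 2362) i)) (@Bool.rec (fun _ => ℕ) l2364 (t2365_2367 i) (Nat.ble (nat_lit 2365) i)) (Nat.ble (nat_lit 2364) i)) (@Bool.rec (fun _ => ℕ) (@Bool.rec (fun _ => ℕ) l2367 (t2368_2370 i) (Nat.ble (nat_lit 2368) i)) (@Bool.rec (fun _ => ℕ) l2370 (t2371_2373 i) (Nat.ble (nat_lit 2371) i)) (Nat.ble (nat_lit 2370) i)) (Nat.ble (nat_lit 2367) i))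
noncomputable def t2376_2378 (i : ℕ) : ℕ := (@Bool.rec (fun _ => ℕ) l2376 l2377 (Nat.ble (nat_lit 2377) i))
noncomputable def t2379_2381 (i : ℕ) : ℕ := (@Bool.rec (fun _ => ℕ) l2379 l2380 (Nat.ble (nat_lit 2380) i))
noncomputable def t2382_2384 (i : ℕ) : ℕ := (@Bool.rec (fun _ => ℕ) l2382 l2383 (Nat.ble (nat_lit 2383) i))
noncomputable def t2373_2384 (i : ℕ) : ℕ := (@Bool.rec (fun _ => ℕ) (@Bool.rec (fun _ => ℕ) (@Bool.rec (fun _ => ℕ) l2373 l2374 (Nat.ble (nat_lit 2374) i)) (@Bool.rec (fun _ => ℕ) l2375 (t2376_2378 i) (Nat.ble (nat_lit 2376) i)) (Nat.ble (nat_lit 2375) i)) (@Bool.rec (fun _ => ℕ) (@Bool.rec (fun _ => ℕ) l2378 (t2379_2381 i) (Nat.ble (nat_lit 2379) i)) (@Bool.rec (fun _ => ℕ) l2381 (t2382_2384 i) (Nat.ble (nat_lit 2382) i)) (Nat.ble (nat_lit 2381) i)) (Nat.ble (nat_lit 2378) i))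
noncomputable def t2385_2387 (i : ℕ) : ℕ := (@Bool.rec (fun _ => ℕ) l2385 l2386 (Nat.ble (nat_lit 2386) i))
noncomputable def t2388_2390 (i : ℕ) : ℕ := (@Bool.rec (fun _ => ℕ) l2388 l2389 (Nat.ble (nat_lit 2389) i))
noncomputable def t2391_2393 (i : ℕ) : ℕ := (@Bool.rec (fun _ => ℕ) l2391 l2392 (Nat.ble (nat_lit 2392) i))
noncomputable def t2394_2396 (i : ℕ) : ℕ := (@Bool.rec (fun _ => ℕ) l2394 l2395 (Nat.ble (nat_lit 2395) i))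
noncomputable def t2384_2396 (i : ℕ) : ℕ := (@Bool.rec (fun _ => ℕ) (@Bool.rec (fun _ => ℕ) (@Bool.rec (fun _ => ℕ) l2384 (t2385_2387 i) (Nat.ble (nat_lit 2385) i)) (@Bool.rec (fun _ => ℕ) l2387 (t2388_2390 i) (Nat.ble (nat_lit 2388) i)) (Nat.ble (nat_lit 2387) i)) (@Bool.rec (fun _ => ℕ) (@Bool.rec (fun _ => ℕ) l2390 (t2391_2393 i) (Nat.ble (nat_lit 2391) i)) (@Bool.rec (fun _ => ℕ) l2393 (t2394_2396 i) (Nat.ble (nat_lit 2394) i)) (Nat.ble (nat_lit 2393) i)) (Nat.ble (nat_lit 2390) i))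
noncomputable def t2304_2396 (i : ℕ) : ℕ := (@Bool.rec (fun _ => ℕ) (@Bool.rec (fun _ => ℕ) (@Bool.rec (fun _ => ℕ) (t2304_2315 i) (t2315_2327 i) (Nat.ble (nat_lit 2315) i)) (@Bool.rec (fun _ => ℕ) (t2327_2338 i) (t2338_2350 i) (Nat.ble (nat_lit 2338) i)) (Nat.ble (nat_lit 2327) i)) (@Bool.rec (fun _ => ℕ) (@Bool.rec (fun _ => ℕ) (t2350_2361 i) (t2361_2373 i) (Nat.ble (nat_lit 2361) i)) (@Bool.rec (fun _ => ℕ) (t2373_2384 i) (t2384_2396 i) (Nat.ble (nat_lit 2384) i)) (Nat.ble (nat_lit 2373) i)) (Nat.ble (nat_lit 2350) i))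
noncomputable def t2399_2401 (i : ℕ) : ℕ := (@Bool.rec (fun _ => ℕ) l2399 l2400 (Nat.ble (nat_lit 2400) i))
noncomputable def t2402_2404 (i : ℕ) : ℕ := (@Bool.rec (fun _ => ℕ) l2402 l2403 (Nat.ble (nat_lit 2403) i))
noncomputable def t2405_2407 (i : ℕ) : ℕ := (@Bool.rec (fun _ => ℕ) l2405 l2406 (Nat.ble (nat_lit 2406) i))
noncomputable def t2396_2407 (i : ℕ) : ℕ := (@Bool.rec (fun _ => ℕ) (@Bool.rec (fun _ => ℕ) (@Bool.rec (fun _ => ℕ) l2396 l2397 (Nat.ble (nat_lit 2397) i)) (@Bool.rec (fun _ => ℕ) l2398 (t2399_2401 i) (Nat.ble (nat_lit 2399) i)) (Nat.ble (nat_lit 2398) i)) (@Bool.rec (fun _ => ℕ) (@Bool.rec (fun _ => ℕ) l2401 (t2402_2404 i) (Nat.ble (nat_lit 2402) i)) (@Bool.rec (fun _ => ℕ) l2404 (t2405_2407 i) (Nat.ble (nat_lit 2405) i)) (Nat.ble (nat_lit 2404) i)) (Nat.ble (nat_lit 2401) i))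
noncomputable def t2408_2410 (i : ℕ) : ℕ := (@Bool.rec (fun _ => ℕ) l2408 l2409 (Nat.ble (nat_lit 2409) i))
noncomputable def t2411_2413 (i : ℕ) : ℕ := (@Bool.rec (fun _ => ℕ) l2411 l2412 (Nat.ble (nat_lit 2412) i))
noncomputable def t2414_2416 (i : ℕ) : ℕ := (@Bool.rec (fun _ => ℕ) l2414 l2415 (Nat.ble (nat_lit 2415) i))
noncomputable def t2417_2419 (i : ℕ) : ℕ := (@Bool.rec (fun _ => ℕ) l2417 l2418 (Nat.ble (nat_lit 2418) i))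
noncomputable def t2407_2419 (i : ℕ) : ℕ := (@Bool.rec (fun _ => ℕ) (@Bool.rec (fun _ => ℕ) (@Bool.rec (fun _ => ℕ) l2407 (t2408_2410 i) (Nat.ble (nat_lit 2408) i)) (@Bool.rec (fun _ => ℕ) l2410 (t2411_2413 i) (Nat.ble (nat_lit 2411) i)) (Nat.ble (nat_lit 2410) i)) (@Bool.rec (fun _ => ℕ) (@Bool.rec (fun _ => ℕ) l2413 (t2414_2416 i) (Nat.ble (nat_lit 2414) i)) (@Bool.rec (fun _ => ℕ) l2416 (t2417_2419 i) (Nat.ble (nat_lit 2417) i)) (Nat.ble (nat_lit 2416) i)) (Nat.ble (nat_lit 2413) i))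
noncomputable def t2422_2424 (i : ℕ) : ℕ := (@Bool.rec (fun _ => ℕ) l2422 l2423 (Nat.ble (nat_lit 2423) i))
noncomputable def t2425_2427 (i : ℕ) : ℕ := (@Bool.rec (fun _ => ℕ) l2425 l2426 (Nat.ble (nat_lit 2426) i))
noncomputable def t2428_2430 (i : ℕ) : ℕ := (@Bool.rec (fun _ => ℕ) l2428 l2429 (Nat.ble (nat_lit 2429) i))
noncomputable def t2419_2430 (i : ℕ) : ℕ := (@Bool.rec (fun _ => ℕ) (@Bool.rec (fun _ => ℕ) (@Bool.rec (fun _ => ℕ) l2419 l2420 (Nat.ble (nat_lit 2420) i)) (@Bool.rec (fun _ => ℕ) l2421 (t2422_2424 i) (Nat.ble (nat_lit 2422) i)) (Nat.ble (nat_lit 2421) i)) (@Bool.rec (fun _ => ℕ) (@Bool.rec (fun _ => ℕ) l2424 (t2425_2427 i) (Nat.ble (nat_lit 2425) i)) (@Bool.rec (fun _ => ℕ) l2427 (t2428_2430 i) (Nat.ble (nat_lit 2428) i)) (Nat.ble (nat_lit 2427) i)) (Nat.ble (nat_lit 2424) i))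
noncomputable def t2431_2433 (i : ℕ) : ℕ := (@Bool.rec (fun _ => ℕ) l2431 l2432 (Nat.ble (nat_lit 2432) i))
noncomputable def t2434_2436 (i : ℕ) : ℕ := (@Bool.rec (fun _ => ℕ) l2434 l2435 (Nat.ble (nat_lit 2435) i))
noncomputable def t2437_2439 (i : ℕ) : ℕ := (@Bool.rec (fun _ => ℕ) l2437 l2438 (Nat.ble (nat_lit 2438) i))
noncomputable def t2440_2442 (i : ℕ) : ℕ := (@Bool.rec (fun _ => ℕ) l2440 l2441 (Nat.ble (nat_lit 2441) i))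
noncomputable def t2430_2442 (i : ℕ) : ℕ := (@Bool.rec (fun _ => ℕ) (@Bool.rec (fun _ => ℕ) (@Bool.rec (fun _ => ℕ) l2430 (t2431_2433 i) (Nat.ble (nat_lit 2431) i)) (@Bool.rec (fun _ => ℕ) l2433 (t2434_2436 i) (Nat.ble (nat_lit 2434) i)) (Nat.ble (nat_lit 2433) i)) (@Bool.rec (fun _ => ℕ) (@Bool.rec (fun _ => ℕ) l2436 (t2437_2439 i) (Nat.ble (nat_lit 2437) i)) (@Bool.rec (fun _ => ℕ) l2439 (t2440_2442 i) (Nat.ble (nat_lit 2440) i)) (Nat.ble (nat_lit 2439) i)) (Nat.ble (nat_lit 2436) i))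
noncomputable def t2445_2447 (i : ℕ) : ℕ := (@Bool.rec (fun _ => ℕ) l2445 l2446 (Nat.ble (nat_lit 2446) i))
noncomputable def t2448_2450 (i : ℕ) : ℕ := (@Bool.rec (fun _ => ℕ) l2448 l2449 (Nat.ble (nat_lit 2449) i))
noncomputable def t2451_2453 (i : ℕ) : ℕ := (@Bool.rec (fun _ => ℕ) l2451 l2452 (Nat.ble (nat_lit 2452) i))
noncomputable def t2442_2453 (i : ℕ) : ℕ := (@Bool.rec (fun _ => ℕ) (@Bool.rec (fun _ => ℕ) (@Bool.rec (fun _ => ℕ) l2442 l2443 (Nat.ble (nat_lit 2443) i)) (@Bool.rec (fun _ => ℕ) l2444 (t2445_2447 i) (Nat.ble (nat_lit 2445) i)) (Nat.ble (nat_lit 2444) i)) (@Bool.rec (fun _ => ℕ) (@Bool.rec (fun _ => ℕ) l2447 (t2448_2450 i) (Nat.ble (nat_lit 2448) i)) (@Bool.rec (fun _ => ℕ) l2450 (t2451_2453 i) (Nat.ble (nat_lit 2451) i)) (Nat.ble (nat_lit 2450) i)) (Nat.ble (nat_lit 2447) i))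
noncomputable def t2454_2456 (i : ℕ) : ℕ := (@Bool.rec (fun _ => ℕ) l2454 l2455 (Nat.ble (nat_lit 2455) i))
noncomputable def t2457_2459 (i : ℕ) : ℕ := (@Bool.rec (fun _ => ℕ) l2457 l2458 (Nat.ble (nat_lit 2458) i))
noncomputable def t2460_2462 (i : ℕ) : ℕ := (@Bool.rec (fun _ => ℕ) l2460 l2461 (Nat.ble (nat_lit 2461) i))
noncomputable def t2463_2465 (i : ℕ) : ℕ := (@Bool.rec (fun _ => ℕ) l2463 l2464 (Nat.ble (nat_lit 2464) i))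
noncomputable def t2453_2465 (i : ℕ) : ℕ := (@Bool.rec (fun _ => ℕ) (@Bool.rec (fun _ => ℕ) (@Bool.rec (fun _ => ℕ) l2453 (t2454_2456 i) (Nat.ble (nat_lit 2454) i)) (@Bool.rec (fun _ => ℕ) l2456 (t2457_2459 i) (Nat.ble (nat_lit 2457) i)) (Nat.ble (nat_lit 2456) i)) (@Bool.rec (fun _ => ℕ) (@Bool.rec (fun _ => ℕ) l2459 (t2460_2462 i) (Nat.ble (nat_lit 2460) i)) (@Bool.rec (fun _ => ℕ) l2462 (t2463_2465 i) (Nat.ble (nat_lit 2463) i)) (Nat.ble (nat_lit 2462) i)) (Nat.ble (nat_lit 2459) i))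
noncomputable def t2468_2470 (i : ℕ) : ℕ := (@Bool.rec (fun _ => ℕ) l2468 l2469 (Nat.ble (nat_lit 2469) i))
noncomputable def t2471_2473 (i : ℕ) : ℕ := (@Bool.rec (fun _ => ℕ) l2471 l2472 (Nat.ble (nat_lit 2472) i))
noncomputable def t2474_2476 (i : ℕ) : ℕ := (@Bool.rec (fun _ => ℕ) l2474 l2475 (Nat.ble (nat_lit 2475) i))
noncomputable def t2465_2476 (i : ℕ) : ℕ := (@Bool.rec (fun _ => ℕ) (@Bool.rec (fun _ => ℕ) (@Bool.rec (fun _ => ℕ) l2465 l2466 (Nat.ble (nat_lit 2466) i)) (@Bool.rec (fun _ => ℕ) l2467 (t2468_2470 i) (Nat.ble (nat_lit 2468) i)) (Nat.ble (nat_lit 2467) i)) (@Bool.rec (fun _ => ℕ) (@Bool.rec (fun _ => ℕ) l2470 (t2471_2473 i) (Nat.ble (nat_lit 2471) i)) (@Bool.rec (fun _ => ℕ) l2473 (t2474_2476 i) (Nat.ble (nat_lit 2474) i)) (Nat.ble (nat_lit 2473) i)) (Nat.ble (nat_lit 2470) i))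
noncomputable def t2477_2479 (i : ℕ) : ℕ := (@Bool.rec (fun _ => ℕ) l2477 l2478 (Nat.ble (nat_lit 2478) i))
noncomputable def t2480_2482 (i : ℕ) : ℕ := (@Bool.rec (fun _ => ℕ) l2480 l2481 (Nat.ble (nat_lit 2481) i))
noncomputable def t2483_2485 (i : ℕ) : ℕ := (@Bool.rec (fun _ => ℕ) l2483 l2484 (Nat.ble (nat_lit 2484) i))
noncomputable def t2486_2488 (i : ℕ) : ℕ := (@Bool.rec (fun _ => ℕ) l2486 l2487 (Nat.ble (nat_lit 2487) i))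
noncomputable def t2476_2488 (i : ℕ) : ℕ := (@Bool.rec (fun _ => ℕ) (@Bool.rec (fun _ => ℕ) (@Bool.rec (fun _ => ℕ) l2476 (t2477_2479 i) (Nat.ble (nat_lit 2477) i)) (@Bool.rec (fun _ => ℕ) l2479 (t2480_2482 i) (Nat.ble (nat_lit 2480) i)) (Nat.ble (nat_lit 2479) i)) (@Bool.rec (fun _ => ℕ) (@Bool.rec (fun _ => ℕ) l2482 (t2483_2485 i) (Nat.ble (nat_lit 2483) i)) (@Bool.rec (fun _ => ℕ) l2485 (t2486_2488 i) (Nat.ble (nat_lit 2486) i)) (Nat.ble (nat_lit 2485) i)) (Nat.ble (nat_lit 2482) i))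
noncomputable def t2396_2488 (i : ℕ) : ℕ := (@Bool.rec (fun _ => ℕ) (@Bool.rec (fun _ => ℕ) (@Bool.rec (fun _ => ℕ) (t2396_2407 i) (t2407_2419 i) (Nat.ble (nat_lit 2407) i)) (@Bool.rec (fun _ => ℕ) (t2419_2430 i) (t2430_2442 i) (Nat.ble (nat_lit 2430) i)) (Nat.ble (nat_lit 2419) i)) (@Bool.rec (fun _ => ℕ) (@Bool.rec (fun _ => ℕ) (t2442_2453 i) (t2453_2465 i) (Nat.ble (nat_lit 2453) i)) (@Bool.rec (fun _ => ℕ) (t2465_2476 i) (t2476_2488 i) (Nat.ble (nat_lit 2476) i)) (Nat.ble (nat_lit 2465) i)) (Nat.ble (nat_lit 2442) i))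
noncomputable def t2491_2493 (i : ℕ) : ℕ := (@Bool.rec (fun _ => ℕ) l2491 l2492 (Nat.ble (nat_lit 2492) i))
noncomputable def t2494_2496 (i : ℕ) : ℕ := (@Bool.rec (fun _ => ℕ) l2494 l2495 (Nat.ble (nat_lit 2495) i))
noncomputable def t2497_2499 (i : ℕ) : ℕ := (@Bool.rec (fun _ => ℕ) l2497 l2498 (Nat.ble (nat_lit 2498) i))
noncomputable def t2488_2499 (i : ℕ) : ℕ := (@Bool.rec (fun _ => ℕ) (@Bool.rec (fun _ => ℕ) (@Bool.rec (fun _ => ℕ) l2488 l2489 (Nat.ble (nat_lit 2489) i)) (@Bool.rec (fun _ => ℕ) l2490 (t2491_2493 i) (Nat.ble (nat_lit 2491) i)) (Nat.ble (nat_lit 2490) i)) (@Bool.rec (fun _ => ℕ) (@Bool.rec (fun _ => ℕ) l2493 (t2494_2496 i) (Nat.ble (nat_lit 2494) i)) (@Bool.rec (fun _ => ℕ) l2496 (t2497_2499 i) (Nat.ble (nat_lit 2497) i)) (Nat.ble (nat_lit 2496) i)) (Nat.ble (nat_lit 2493) i))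
noncomputable def t2500_2502 (i : ℕ) : ℕ := (@Bool.rec (fun _ => ℕ) l2500 l2501 (Nat.ble (nat_lit 2501) i))
noncomputable def t2503_2505 (i : ℕ) : ℕ := (@Bool.rec (fun _ => ℕ) l2503 l2504 (Nat.ble (nat_lit 2504) i))
noncomputable def t2506_2508 (i : ℕ) : ℕ := (@Bool.rec (fun _ => ℕ) l2506 l2507 (Nat.ble (nat_lit 2507) i))
noncomputable def t2509_2511 (i : ℕ) : ℕ := (@Bool.rec (fun _ => ℕ) l2509 l2510 (Nat.ble (nat_lit 2510) i))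
noncomputable def t2499_2511 (i : ℕ) : ℕ := (@Bool.rec (fun _ => ℕ) (@Bool.rec (fun _ => ℕ) (@Bool.rec (fun _ => ℕ) l2499 (t2500_2502 i) (Nat.ble (nat_lit 2500) i)) (@Bool.rec (fun _ => ℕ) l2502 (t2503_2505 i) (Nat.ble (nat_lit 2503) i)) (Nat.ble (nat_lit 2502) i)) (@Bool.rec (fun _ => ℕ) (@Bool.rec (fun _ => ℕ) l2505 (t2506_2508 i) (Nat.ble (nat_lit 2506) i)) (@Bool.rec (fun _ => ℕ) l2508 (t2509_2511 i) (Nat.ble (nat_lit 2509) i)) (Nat.ble (nat_lit 2508) i)) (Nat.ble (nat_lit 2505) i))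
noncomputable def t2514_2516 (i : ℕ) : ℕ := (@Bool.rec (fun _ => ℕ) l2514 l2515 (Nat.ble (nat_lit 2515) i))
noncomputable def t2517_2519 (i : ℕ) : ℕ := (@Bool.rec (fun _ => ℕ) l2517 l2518 (Nat.ble (nat_lit 2518) i))
noncomputable def t2520_2522 (i : ℕ) : ℕ := (@Bool.rec (fun _ => ℕ) l2520 l2521 (Nat.ble (nat_lit 2521) i))
noncomputable def t2511_2522 (i : ℕ) : ℕ := (@Bool.rec (fun _ => ℕ) (@Bool.rec (fun _ => ℕ) (@Bool.rec (fun _ => ℕ) l2511 l2512 (Nat.ble (nat_lit 2512) i)) (@Bool.rec (fun _ => ℕ) l2513 (t2514_2516 i) (Nat.ble (nat_lit 2514) i)) (Nat.ble (nat_lit 2513) i)) (@Bool.rec (fun _ => ℕ) (@Bool.rec (fun _ => ℕ) l2516 (t2517_2519 i) (Nat.ble (nat_lit 2517) i)) (@Bool.rec (fun _ => ℕ) l2519 (t2520_2522 i) (Nat.ble (nat_lit 2520) i)) (Nat.ble (nat_lit 2519) i)) (Nat.ble (nat_lit 2516) i))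
noncomputable def t2523_2525 (i : ℕ) : ℕ := (@Bool.rec (fun _ => ℕ) l2523 l2524 (Nat.ble (nat_lit 2524) i))
noncomputable def t2526_2528 (i : ℕ) : ℕ := (@Bool.rec (fun _ => ℕ) l2526 l2527 (Nat.ble (nat_lit 2527) i))
noncomputable def t2529_2531 (i : ℕ) : ℕ := (@Bool.rec (fun _ => ℕ) l2529 l2530 (Nat.ble (nat_lit 2530) i))
noncomputable def t2532_2534 (i : ℕ) : ℕ := (@Bool.rec (fun _ => ℕ) l2532 l2533 (Nat.ble (nat_lit 2533) i))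
noncomputable def t2522_2534 (i : ℕ) : ℕ := (@Bool.rec (fun _ => ℕ) (@Bool.rec (fun _ => ℕ) (@Bool.rec (fun _ => ℕ) l2522 (t2523_2525 i) (Nat.ble (nat_lit 2523) i)) (@Bool.rec (fun _ => ℕ) l2525 (t2526_2528 i) (Nat.ble (nat_lit 2526) i)) (Nat.ble (nat_lit 2525) i)) (@Bool.rec (fun _ => ℕ) (@Bool.rec (fun _ => ℕ) l2528 (t2529_2531 i) (Nat.ble (nat_lit 2529) i)) (@Bool.rec (fun _ => ℕ) l2531 (t2532_2534 i) (Nat.ble (nat_lit 2532) i)) (Nat.ble (nat_lit 2531) i)) (Nat.ble (nat_lit 2528) i))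
noncomputable def t2537_2539 (i : ℕ) : ℕ := (@Bool.rec (fun _ => ℕ) l2537 l2538 (Nat.ble (nat_lit 2538) i))
noncomputable def t2540_2542 (i : ℕ) : ℕ := (@Bool.rec (fun _ => ℕ) l2540 l2541 (Nat.ble (nat_lit 2541) i))
noncomputable def t2543_2545 (i : ℕ) : ℕ := (@Bool.rec (fun _ => ℕ) l2543 l2544 (Nat.ble (nat_lit 2544) i))
noncomputable def t2534_2545 (i : ℕ) : ℕ := (@Bool.rec (fun _ => ℕ) (@Bool.rec (fun _ => ℕ) (@Bool.rec (fun _ => ℕ) l2534 l2535 (Nat.ble (nat_lit 2535) i)) (@Bool.rec (fun _ => ℕ) l2536 (t2537_2539 i) (Nat.ble (nat_lit 2537) i)) (Nat.ble (nat_lit 2536) i)) (@Bool.rec (fun _ => ℕ) (@Bool.rec (fun _ => ℕ) l2539 (t2540_2542 i) (Nat.ble (nat_lit 2540) i)) (@Bool.rec (fun _ => ℕ) l2542 (t2543_2545 i) (Nat.ble (nat_lit 2543) i)) (Nat.ble (nat_lit 2542) i)) (Nat.ble (nat_lit 2539) i))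
noncomputable def t2546_2548 (i : ℕ) : ℕ := (@Bool.rec (fun _ => ℕ) l2546 l2547 (Nat.ble (nat_lit 2547) i))
noncomputable def t2549_2551 (i : ℕ) : ℕ := (@Bool.rec (fun _ => ℕ) l2549 l2550 (Nat.ble (nat_lit 2550) i))
noncomputable def t2552_2554 (i : ℕ) : ℕ := (@Bool.rec (fun _ => ℕ) l2552 l2553 (Nat.ble (nat_lit 2553) i))
noncomputable def t2555_2557 (i : ℕ) : ℕ := (@Bool.rec (fun _ => ℕ) l2555 l2556 (Nat.ble (nat_lit 2556) i))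
noncomputable def t2545_2557 (i : ℕ) : ℕ := (@Bool.rec (fun _ => ℕ) (@Bool.rec (fun _ => ℕ) (@Bool.rec (fun _ => ℕ) l2545 (t2546_2548 i) (Nat.ble (nat_lit 2546) i)) (@Bool.rec (fun _ => ℕ) l2548 (t2549_2551 i) (Nat.ble (nat_lit 2549) i)) (Nat.ble (nat_lit 2548) i)) (@Bool.rec (fun _ => ℕ) (@Bool.rec (fun _ => ℕ) l2551 (t2552_2554 i) (Nat.ble (nat_lit 2552) i)) (@Bool.rec (fun _ => ℕ) l2554 (t2555_2557 i) (Nat.ble (nat_lit 2555) i)) (Nat.ble (nat_lit 2554) i)) (Nat.ble (nat_lit 2551) i))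
noncomputable def t2558_2560 (i : ℕ) : ℕ := (@Bool.rec (fun _ => ℕ) l2558 l2559 (Nat.ble (nat_lit 2559) i))
noncomputable def t2561_2563 (i : ℕ) : ℕ := (@Bool.rec (fun _ => ℕ) l2561 l2562 (Nat.ble (nat_lit 2562) i))
noncomputable def t2564_2566 (i : ℕ) : ℕ := (@Bool.rec (fun _ => ℕ) l2564 l2565 (Nat.ble (nat_lit 2565) i))
noncomputable def t2567_2569 (i : ℕ) : ℕ := (@Bool.rec (fun _ => ℕ) l2567 l2568 (Nat.ble (nat_lit 2568) i))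
noncomputable def t2557_2569 (i : ℕ) : ℕ := (@Bool.rec (fun _ => ℕ) (@Bool.rec (fun _ => ℕ) (@Bool.rec (fun _ => ℕ) l2557 (t2558_2560 i) (Nat.ble (nat_lit 2558) i)) (@Bool.rec (fun _ => ℕ) l2560 (t2561_2563 i) (Nat.ble (nat_lit 2561) i)) (Nat.ble (nat_lit 2560) i)) (@Bool.rec (fun _ => ℕ) (@Bool.rec (fun _ => ℕ) l2563 (t2564_2566 i) (Nat.ble (nat_lit 2564) i)) (@Bool.rec (fun _ => ℕ) l2566 (t2567_2569 i) (Nat.ble (nat_lit 2567) i)) (Nat.ble (nat_lit 2566) i)) (Nat.ble (nat_lit 2563) i))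
noncomputable def t2570_2572 (i : ℕ) : ℕ := (@Bool.rec (fun _ => ℕ) l2570 l2571 (Nat.ble (nat_lit 2571) i))
noncomputable def t2573_2575 (i : ℕ) : ℕ := (@Bool.rec (fun _ => ℕ) l2573 l2574 (Nat.ble (nat_lit 2574) i))
noncomputable def t2576_2578 (i : ℕ) : ℕ := (@Bool.rec (fun _ => ℕ) l2576 l2577 (Nat.ble (nat_lit 2577) i))
noncomputable def t2579_2581 (i : ℕ) : ℕ := (@Bool.rec (fun _ => ℕ) l2579 l2580 (Nat.ble (nat_lit 2580) i))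
noncomputable def t2569_2581 (i : ℕ) : ℕ := (@Bool.rec (fun _ => ℕ) (@Bool.rec (fun _ => ℕ) (@Bool.rec (fun _ => ℕ) l2569 (t2570_2572 i) (Nat.ble (nat_lit 2570) i)) (@Bool.rec (fun _ => ℕ) l2572 (t2573_2575 i) (Nat.ble (nat_lit 2573) i)) (Nat.ble (nat_lit 2572) i)) (@Bool.rec (fun _ => ℕ) (@Bool.rec (fun _ => ℕ) l2575 (t2576_2578 i) (Nat.ble (nat_lit 2576) i)) (@Bool.rec (fun _ => ℕ) l2578 (t2579_2581 i) (Nat.ble (nat_lit 2579) i)) (Nat.ble (nat_lit 2578) i)) (Nat.ble (nat_lit 2575) i))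
noncomputable def t2488_2581 (i : ℕ) : ℕ := (@Bool.rec (fun _ => ℕ) (@Bool.rec (fun _ => ℕ) (@Bool.rec (fun _ => ℕ) (t2488_2499 i) (t2499_2511 i) (Nat.ble (nat_lit 2499) i)) (@Bool.rec (fun _ => ℕ) (t2511_2522 i) (t2522_2534 i) (Nat.ble (nat_lit 2522) i)) (Nat.ble (nat_lit 2511) i)) (@Bool.rec (fun _ => ℕ) (@Bool.rec (fun _ => ℕ) (t2534_2545 i) (t2545_2557 i) (Nat.ble (nat_lit 2545) i)) (@Bool.rec (fun _ => ℕ) (t2557_2569 i) (t2569_2581 i) (Nat.ble (nat_lit 2569) i)) (Nat.ble (nat_lit 2557) i)) (Nat.ble (nat_lit 2534) i))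
noncomputable def t2584_2586 (i : ℕ) : ℕ := (@Bool.rec (fun _ => ℕ) l2584 l2585 (Nat.ble (nat_lit 2585) i))
noncomputable def t2587_2589 (i : ℕ) : ℕ := (@Bool.rec (fun _ => ℕ) l2587 l2588 (Nat.ble (nat_lit 2588) i))
noncomputable def t2590_2592 (i : ℕ) : ℕ := (@Bool.rec (fun _ => ℕ) l2590 l2591 (Nat.ble (nat_lit 2591) i))
noncomputable def t2581_2592 (i : ℕ) : ℕ := (@Bool.rec (fun _ => ℕ) (@Bool.rec (fun _ => ℕ) (@Bool.rec (fun _ => ℕ) l2581 l2582 (Nat.ble (nat_lit 2582) i)) (@Bool.rec (fun _ => ℕ) l2583 (t2584_2586 i) (Nat.ble (nat_lit 2584) i)) (Nat.ble (nat_lit 2583) i)) (@Bool.rec (fun _ => ℕ) (@Bool.rec (fun _ => ℕ) l2586 (t2587_2589 i) (Nat.ble (nat_lit 2587) i)) (@Bool.rec (fun _ => ℕ) l2589 (t2590_2592 i) (Nat.ble (nat_lit 2590) i)) (Nat.ble (nat_lit 2589) i)) (Nat.ble (nat_lit 2586) i))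
noncomputable def t2593_2595 (i : ℕ) : ℕ := (@Bool.rec (fun _ => ℕ) l2593 l2594 (Nat.ble (nat_lit 2594) i))
noncomputable def t2596_2598 (i : ℕ) : ℕ := (@Bool.rec (fun _ => ℕ) l2596 l2597 (Nat.ble (nat_lit 2597) i))
noncomputable def t2599_2601 (i : ℕ) : ℕ := (@Bool.rec (fun _ => ℕ) l2599 l2600 (Nat.ble (nat_lit 2600) i))
noncomputable def t2602_2604 (i : ℕ) : ℕ := (@Bool.rec (fun _ => ℕ) l2602 l2603 (Nat.ble (nat_lit 2603) i))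
noncomputable def t2592_2604 (i : ℕ) : ℕ := (@Bool.rec (fun _ => ℕ) (@Bool.rec (fun _ => ℕ) (@Bool.rec (fun _ => ℕ) l2592 (t2593_2595 i) (Nat.ble (nat_lit 2593) i)) (@Bool.rec (fun _ => ℕ) l2595 (t2596_2598 i) (Nat.ble (nat_lit 2596) i)) (Nat.ble (nat_lit 2595) i)) (@Bool.rec (fun _ => ℕ) (@Bool.rec (fun _ => ℕ) l2598 (t2599_2601 i) (Nat.ble (nat_lit 2599) i)) (@Bool.rec (fun _ => ℕ) l2601 (t2602_2604 i) (Nat.ble (nat_lit 2602) i)) (Nat.ble (nat_lit 2601) i)) (Nat.ble (nat_lit 2598) i))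
noncomputable def t2607_2609 (i : ℕ) : ℕ := (@Bool.rec (fun _ => ℕ) l2607 l2608 (Nat.ble (nat_lit 2608) i))
noncomputable def t2610_2612 (i : ℕ) : ℕ := (@Bool.rec (fun _ => ℕ) l2610 l2611 (Nat.ble (nat_lit 2611) i))
noncomputable def t2613_2615 (i : ℕ) : ℕ := (@Bool.rec (fun _ => ℕ) l2613 l2614 (Nat.ble (nat_lit 2614) i))
noncomputable def t2604_2615 (i : ℕ) : ℕ := (@Bool.rec (fun _ => ℕ) (@Bool.rec (fun _ => ℕ) (@Bool.rec (fun _ => ℕ) l2604 l2605 (Nat.ble (nat_lit 2605) i)) (@Bool.rec (fun _ => ℕ) l2606 (t2607_2609 i) (Nat.ble (nat_lit 2607) i)) (Nat.ble (nat_lit 2606) i)) (@Bool.rec (fun _ => ℕ) (@Bool.rec (fun _ => ℕ) l2609 (t2610_2612 i) (Nat.ble (nat_lit 2610) i)) (@Bool.rec (fun _ => ℕ) l2612 (t2613_2615 i) (Nat.ble (nat_lit 2613) i)) (Nat.ble (nat_lit 2612) i)) (Nat.ble (nat_lit 2609) i))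
noncomputable def t2616_2618 (i : ℕ) : ℕ := (@Bool.rec (fun _ => ℕ) l2616 l2617 (Nat.ble (nat_lit 2617) i))
noncomputable def t2619_2621 (i : ℕ) : ℕ := (@Bool.rec (fun _ => ℕ) l2619 l2620 (Nat.ble (nat_lit 2620) i))
noncomputable def t2622_2624 (i : ℕ) : ℕ := (@Bool.rec (fun _ => ℕ) l2622 l2623 (Nat.ble (nat_lit 2623) i))
noncomputable def t2625_2627 (i : ℕ) : ℕ := (@Bool.rec (fun _ => ℕ) l2625 l2626 (Nat.ble (nat_lit 2626) i))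
noncomputable def t2615_2627 (i : ℕ) : ℕ := (@Bool.rec (fun _ => ℕ) (@Bool.rec (fun _ => ℕ) (@Bool.rec (fun _ => ℕ) l2615 (t2616_2618 i) (Nat.ble (nat_lit 2616) i)) (@Bool.rec (fun _ => ℕ) l2618 (t2619_2621 i) (Nat.ble (nat_lit 2619) i)) (Nat.ble (nat_lit 2618) i)) (@Bool.rec (fun _ => ℕ) (@Bool.rec (fun _ => ℕ) l2621 (t2622_2624 i) (Nat.ble (nat_lit 2622) i)) (@Bool.rec (fun _ => ℕ) l2624 (t2625_2627 i) (Nat.ble (nat_lit 2625) i)) (Nat.ble (nat_lit 2624) i)) (Nat.ble (nat_lit 2621) i))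
noncomputable def t2630_2632 (i : ℕ) : ℕ := (@Bool.rec (fun _ => ℕ) l2630 l2631 (Nat.ble (nat_lit 2631) i))
noncomputable def t2633_2635 (i : ℕ) : ℕ := (@Bool.rec (fun _ => ℕ) l2633 l2634 (Nat.ble (nat_lit 2634) i))
noncomputable def t2636_2638 (i : ℕ) : ℕ := (@Bool.rec (fun _ => ℕ) l2636 l2637 (Nat.ble (nat_lit 2637) i))
noncomputable def t2627_2638 (i : ℕ) : ℕ := (@Bool.rec (fun _ => ℕ) (@Bool.rec (fun _ => ℕ) (@Bool.rec (fun _ => ℕ) l2627 l2628 (Nat.ble (nat_lit 2628) i)) (@Bool.rec (fun _ => ℕ) l2629 (t2630_2632 i) (Nat.ble (nat_lit 2630) i)) (Nat.ble (nat_lit 2629) i)) (@Bool.rec (fun _ => ℕ) (@Bool.rec (fun _ => ℕ) l2632 (t2633_2635 i) (Nat.ble (nat_lit 2633) i)) (@Bool.rec (fun _ => ℕ) l2635 (t2636_2638 i) (Nat.ble (nat_lit 2636) i)) (Nat.ble (nat_lit 2635) i)) (Nat.ble (nat_lit 2632) i))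
noncomputable def t2639_2641 (i : ℕ) : ℕ := (@Bool.rec (fun _ => ℕ) l2639 l2640 (Nat.ble (nat_lit 2640) i))
noncomputable def t2642_2644 (i : ℕ) : ℕ := (@Bool.rec (fun _ => ℕ) l2642 l2643 (Nat.ble (nat_lit 2643) i))
noncomputable def t2645_2647 (i : ℕ) : ℕ := (@Bool.rec (fun _ => ℕ) l2645 l2646 (Nat.ble (nat_lit 2646) i))
noncomputable def t2648_2650 (i : ℕ) : ℕ := (@Bool.rec (fun _ => ℕ) l2648 l2649 (Nat.ble (nat_lit 2649) i))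
noncomputable def t2638_2650 (i : ℕ) : ℕ := (@Bool.rec (fun _ => ℕ) (@Bool.rec (fun _ => ℕ) (@Bool.rec (fun _ => ℕ) l2638 (t2639_2641 i) (Nat.ble (nat_lit 2639) i)) (@Bool.rec (fun _ => ℕ) l2641 (t2642_2644 i) (Nat.ble (nat_lit 2642) i)) (Nat.ble (nat_lit 2641) i)) (@Bool.rec (fun _ => ℕ) (@Bool.rec (fun _ => ℕ) l2644 (t2645_2647 i) (Nat.ble (nat_lit 2645) i)) (@Bool.rec (fun _ => ℕ) l2647 (t2648_2650 i) (Nat.ble (nat_lit 2648) i)) (Nat.ble (nat_lit 2647) i)) (Nat.ble (nat_lit 2644) i))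
noncomputable def t2653_2655 (i : ℕ) : ℕ := (@Bool.rec (fun _ => ℕ) l2653 l2654 (Nat.ble (nat_lit 2654) i))
noncomputable def t2656_2658 (i : ℕ) : ℕ := (@Bool.rec (fun _ => ℕ) l2656 l2657 (Nat.ble (nat_lit 2657) i))
noncomputable def t2659_2661 (i : ℕ) : ℕ := (@Bool.rec (fun _ => ℕ) l2659 l2660 (Nat.ble (nat_lit 2660) i))
noncomputable def t2650_2661 (i : ℕ) : ℕ := (@Bool.rec (fun _ => ℕ) (@Bool.rec (fun _ => ℕ) (@Bool.rec (fun _ => ℕ) l2650 l2651 (Nat.ble (nat_lit 2651) i)) (@Bool.rec (fun _ => ℕ) l2652 (t2653_2655 i) (Nat.ble (nat_lit 2653) i)) (Nat.ble (nat_lit 2652) i)) (@Bool.rec (fun _ => ℕ) (@Bool.rec (fun _ => ℕ) l2655 (t2656_2658 i) (Nat.ble (nat_lit 2656) i)) (@Bool.rec (fun _ => ℕ) l2658 (t2659_2661 i) (Nat.ble (nat_lit 2659) i)) (Nat.ble (nat_lit 2658) i)) (Nat.ble (nat_lit 2655) i))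
noncomputable def t2662_2664 (i : ℕ) : ℕ := (@Bool.rec (fun _ => ℕ) l2662 l2663 (Nat.ble (nat_lit 2663) i))
noncomputable def t2665_2667 (i : ℕ) : ℕ := (@Bool.rec (fun _ => ℕ) l2665 l2666 (Nat.ble (nat_lit 2666) i))
noncomputable def t2668_2670 (i : ℕ) : ℕ := (@Bool.rec (fun _ => ℕ) l2668 l2669 (Nat.ble (nat_lit 2669) i))
noncomputable def t2671_2673 (i : ℕ) : ℕ := (@Bool.rec (fun _ => ℕ) l2671 l2672 (Nat.ble (nat_lit 2672) i))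
noncomputable def t2661_2673 (i : ℕ) : ℕ := (@Bool.rec (fun _ => ℕ) (@Bool.rec (fun _ => ℕ) (@Bool.rec (fun _ => ℕ) l2661 (t2662_2664 i) (Nat.ble (nat_lit 2662) i)) (@Bool.rec (fun _ => ℕ) l2664 (t2665_2667 i) (Nat.ble (nat_lit 2665) i)) (Nat.ble (nat_lit 2664) i)) (@Bool.rec (fun _ => ℕ) (@Bool.rec (fun _ => ℕ) l2667 (t2668_2670 i) (Nat.ble (nat_lit 2668) i)) (@Bool.rec (fun _ => ℕ) l2670 (t2671_2673 i) (Nat.ble (nat_lit 2671) i)) (Nat.ble (nat_lit 2670) i)) (Nat.ble (nat_lit 2667) i))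
noncomputable def t2581_2673 (i : ℕ) : ℕ := (@Bool.rec (fun _ => ℕ) (@Bool.rec (fun _ => ℕ) (@Bool.rec (fun _ => ℕ) (t2581_2592 i) (t2592_2604 i) (Nat.ble (nat_lit 2592) i)) (@Bool.rec (fun _ => ℕ) (t2604_2615 i) (t2615_2627 i) (Nat.ble (nat_lit 2615) i)) (Nat.ble (nat_lit 2604) i)) (@Bool.rec (fun _ => ℕ) (@Bool.rec (fun _ => ℕ) (t2627_2638 i) (t2638_2650 i) (Nat.ble (nat_lit 2638) i)) (@Bool.rec (fun _ => ℕ) (t2650_2661 i) (t2661_2673 i) (Nat.ble (nat_lit 2661) i)) (Nat.ble (nat_lit 2650) i)) (Nat.ble (nat_lit 2627) i))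
noncomputable def t2676_2678 (i : ℕ) : ℕ := (@Bool.rec (fun _ => ℕ) l2676 l2677 (Nat.ble (nat_lit 2677) i))
noncomputable def t2679_2681 (i : ℕ) : ℕ := (@Bool.rec (fun _ => ℕ) l2679 l2680 (Nat.ble (nat_lit 2680) i))
noncomputable def t2682_2684 (i : ℕ) : ℕ := (@Bool.rec (fun _ => ℕ) l2682 l2683 (Nat.ble (nat_lit 2683) i))
noncomputable def t2673_2684 (i : ℕ) : ℕ := (@Bool.rec (fun _ => ℕ) (@Bool.rec (fun _ => ℕ) (@Bool.rec (fun _ => ℕ) l2673 l2674 (Nat.ble (nat_lit 2674) i)) (@Bool.rec (fun _ => ℕ) l2675 (t2676_2678 i) (Nat.ble (nat_lit 2676) i)) (Nat.ble (nat_lit 2675) i)) (@Bool.rec (fun _ => ℕ) (@Bool.rec (fun _ => ℕ) l2678 (t2679_2681 i) (Nat.ble (nat_lit 2679) i)) (@Bool.rec (fun _ => ℕ) l2681 (t2682_2684 i) (Nat.ble (nat_lit 2682) i)) (Nat.ble (nat_lit 2681) i)) (Nat.ble (nat_lit 2678) i))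
noncomputable def t2685_2687 (i : ℕ) : ℕ := (@Bool.rec (fun _ => ℕ) l2685 l2686 (Nat.ble (nat_lit 2686) i))
noncomputable def t2688_2690 (i : ℕ) : ℕ := (@Bool.rec (fun _ => ℕ) l2688 l2689 (Nat.ble (nat_lit 2689) i))
noncomputable def t2691_2693 (i : ℕ) : ℕ := (@Bool.rec (fun _ => ℕ) l2691 l2692 (Nat.ble (nat_lit 2692) i))
noncomputable def t2694_2696 (i : ℕ) : ℕ := (@Bool.rec (fun _ => ℕ) l2694 l2695 (Nat.ble (nat_lit 2695) i))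
noncomputable def t2684_2696 (i : ℕ) : ℕ := (@Bool.rec (fun _ => ℕ) (@Bool.rec (fun _ => ℕ) (@Bool.rec (fun _ => ℕ) l2684 (t2685_2687 i) (Nat.ble (nat_lit 2685) i)) (@Bool.rec (fun _ => ℕ) l2687 (t2688_2690 i) (Nat.ble (nat_lit 2688) i)) (Nat.ble (nat_lit 2687) i)) (@Bool.rec (fun _ => ℕ) (@Bool.rec (fun _ => ℕ) l2690 (t2691_2693 i) (Nat.ble (nat_lit 2691) i)) (@Bool.rec (fun _ => ℕ) l2693 (t2694_2696 i) (Nat.ble (nat_lit 2694) i)) (Nat.ble (nat_lit 2693) i)) (Nat.ble (nat_lit 2690) i))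
noncomputable def t2699_2701 (i : ℕ) : ℕ := (@Bool.rec (fun _ => ℕ) l2699 l2700 (Nat.ble (nat_lit 2700) i))
noncomputable def t2702_2704 (i : ℕ) : ℕ := (@Bool.rec (fun _ => ℕ) l2702 l2703 (Nat.ble (nat_lit 2703) i))
noncomputable def t2705_2707 (i : ℕ) : ℕ := (@Bool.rec (fun _ => ℕ) l2705 l2706 (Nat.ble (nat_lit 2706) i))
noncomputable def t2696_2707 (i : ℕ) : ℕ := (@Bool.rec (fun _ => ℕ) (@Bool.rec (fun _ => ℕ) (@Bool.rec (fun _ => ℕ) l2696 l2697 (Nat.ble (nat_lit 2697) i)) (@Bool.rec (fun _ => ℕ) l2698 (t2699_2701 i) (Nat.ble (nat_lit 2699) i)) (Nat.ble (nat_lit 2698) i)) (@Bool.rec (fun _ => ℕ) (@Bool.rec (fun _ => ℕ) l2701 (t2702_2704 i) (Nat.ble (nat_lit 2702) i)) (@Bool.rec (fun _ => ℕ) l2704 (t2705_2707 i) (Nat.ble (nat_lit 2705) i)) (Nat.ble (nat_lit 2704) i)) (Nat.ble (nat_lit 2701) i))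
noncomputable def t2708_2710 (i : ℕ) : ℕ := (@Bool.rec (fun _ => ℕ) l2708 l2709 (Nat.ble (nat_lit 2709) i))
noncomputable def t2711_2713 (i : ℕ) : ℕ := (@Bool.rec (fun _ => ℕ) l2711 l2712 (Nat.ble (nat_lit 2712) i))
noncomputable def t2714_2716 (i : ℕ) : ℕ := (@Bool.rec (fun _ => ℕ) l2714 l2715 (Nat.ble (nat_lit 2715) i))
noncomputable def t2717_2719 (i : ℕ) : ℕ := (@Bool.rec (fun _ => ℕ) l2717 l2718 (Nat.ble (nat_lit 2718) i))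
noncomputable def t2707_2719 (i : ℕ) : ℕ := (@Bool.rec (fun _ => ℕ) (@Bool.rec (fun _ => ℕ) (@Bool.rec (fun _ => ℕ) l2707 (t2708_2710 i) (Nat.ble (nat_lit 2708) i)) (@Bool.rec (fun _ => ℕ) l2710 (t2711_2713 i) (Nat.ble (nat_lit 2711) i)) (Nat.ble (nat_lit 2710) i)) (@Bool.rec (fun _ => ℕ) (@Bool.rec (fun _ => ℕ) l2713 (t2714_2716 i) (Nat.ble (nat_lit 2714) i)) (@Bool.rec (fun _ => ℕ) l2716 (t2717_2719 i) (Nat.ble (nat_lit 2717) i)) (Nat.ble (nat_lit 2716) i)) (Nat.ble (nat_lit 2713) i))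
noncomputable def t2722_2724 (i : ℕ) : ℕ := (@Bool.rec (fun _ => ℕ) l2722 l2723 (Nat.ble (nat_lit 2723) i))
noncomputable def t2725_2727 (i : ℕ) : ℕ := (@Bool.rec (fun _ => ℕ) l2725 l2726 (Nat.ble (nat_lit 2726) i))
noncomputable def t2728_2730 (i : ℕ) : ℕ := (@Bool.rec (fun _ => ℕ) l2728 l2729 (Nat.ble (nat_lit 2729) i))
noncomputable def t2719_2730 (i : ℕ) : ℕ := (@Bool.rec (fun _ => ℕ) (@Bool.rec (fun _ => ℕ) (@Bool.rec (fun _ => ℕ) l2719 l2720 (Nat.ble (nat_lit 2720) i)) (@Bool.rec (fun _ => ℕ) l2721 (t2722_2724 i) (Nat.ble (nat_lit 2722) i)) (Nat.ble (nat_lit 2721) i)) (@Bool.rec (fun _ => ℕ) (@Bool.rec (fun _ => ℕ) l2724 (t2725_2727 i) (Nat.ble (nat_lit 2725) i)) (@Bool.rec (fun _ => ℕ) l2727 (t2728_2730 i) (Nat.ble (nat_lit 2728) i)) (Nat.ble (nat_lit 2727) i)) (Nat.ble (nat_lit 2724) i))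
noncomputable def t2731_2733 (i : ℕ) : ℕ := (@Bool.rec (fun _ => ℕ) l2731 l2732 (Nat.ble (nat_lit 2732) i))
noncomputable def t2734_2736 (i : ℕ) : ℕ := (@Bool.rec (fun _ => ℕ) l2734 l2735 (Nat.ble (nat_lit 2735) i))
noncomputable def t2737_2739 (i : ℕ) : ℕ := (@Bool.rec (fun _ => ℕ) l2737 l2738 (Nat.ble (nat_lit 2738) i))
noncomputable def t2740_2742 (i : ℕ) : ℕ := (@Bool.rec (fun _ => ℕ) l2740 l2741 (Nat.ble (nat_lit 2741) i))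
noncomputable def t2730_2742 (i : ℕ) : ℕ := (@Bool.rec (fun _ => ℕ) (@Bool.rec (fun _ => ℕ) (@Bool.rec (fun _ => ℕ) l2730 (t2731_2733 i) (Nat.ble (nat_lit 2731) i)) (@Bool.rec (fun _ => ℕ) l2733 (t2734_2736 i) (Nat.ble (nat_lit 2734) i)) (Nat.ble (nat_lit 2733) i)) (@Bool.rec (fun _ => ℕ) (@Bool.rec (fun _ => ℕ) l2736 (t2737_2739 i) (Nat.ble (nat_lit 2737) i)) (@Bool.rec (fun _ => ℕ) l2739 (t2740_2742 i) (Nat.ble (nat_lit 2740) i)) (Nat.ble (nat_lit 2739) i)) (Nat.ble (nat_lit 2736) i))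
noncomputable def t2745_2747 (i : ℕ) : ℕ := (@Bool.rec (fun _ => ℕ) l2745 l2746 (Nat.ble (nat_lit 2746) i))
noncomputable def t2748_2750 (i : ℕ) : ℕ := (@Bool.rec (fun _ => ℕ) l2748 l2749 (Nat.ble (nat_lit 2749) i))
noncomputable def t2751_2753 (i : ℕ) : ℕ := (@Bool.rec (fun _ => ℕ) l2751 l2752 (Nat.ble (nat_lit 2752) i))
noncomputable def t2742_2753 (i : ℕ) : ℕ := (@Bool.rec (fun _ => ℕ) (@Bool.rec (fun _ => ℕ) (@Bool.rec (fun _ => ℕ) l2742 l2743 (Nat.ble (nat_lit 2743) i)) (@Bool.rec (fun _ => ℕ) l2744 (t2745_2747 i) (Nat.ble (nat_lit 2745) i)) (Nat.ble (nat_lit 2744) i)) (@Bool.rec (fun _ => ℕ) (@Bool.rec (fun _ => ℕ) l2747 (t2748_2750 i) (Nat.ble (nat_lit 2748) i)) (@Bool.rec (fun _ => ℕ) l2750 (t2751_2753 i) (Nat.ble (nat_lit 2751) i)) (Nat.ble (nat_lit 2750) i)) (Nat.ble (nat_lit 2747) i))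
noncomputable def t2754_2756 (i : ℕ) : ℕ := (@Bool.rec (fun _ => ℕ) l2754 l2755 (Nat.ble (nat_lit 2755) i))
noncomputable def t2757_2759 (i : ℕ) : ℕ := (@Bool.rec (fun _ => ℕ) l2757 l2758 (Nat.ble (nat_lit 2758) i))
noncomputable def t2760_2762 (i : ℕ) : ℕ := (@Bool.rec (fun _ => ℕ) l2760 l2761 (Nat.ble (nat_lit 2761) i))
noncomputable def t2763_2765 (i : ℕ) : ℕ := (@Bool.rec (fun _ => ℕ) l2763 l2764 (Nat.ble (nat_lit 2764) i))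
noncomputable def t2753_2765 (i : ℕ) : ℕ := (@Bool.rec (fun _ => ℕ) (@Bool.rec (fun _ => ℕ) (@Bool.rec (fun _ => ℕ) l2753 (t2754_2756 i) (Nat.ble (nat_lit 2754) i)) (@Bool.rec (fun _ => ℕ) l2756 (t2757_2759 i) (Nat.ble (nat_lit 2757) i)) (Nat.ble (nat_lit 2756) i)) (@Bool.rec (fun _ => ℕ) (@Bool.rec (fun _ => ℕ) l2759 (t2760_2762 i) (Nat.ble (nat_lit 2760) i)) (@Bool.rec (fun _ => ℕ) l2762 (t2763_2765 i) (Nat.ble (nat_lit 2763) i)) (Nat.ble (nat_lit 2762) i)) (Nat.ble (nat_lit 2759) i))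
noncomputable def t2673_2765 (i : ℕ) : ℕ := (@Bool.rec (fun _ => ℕ) (@Bool.rec (fun _ => ℕ) (@Bool.rec (fun _ => ℕ) (t2673_2684 i) (t2684_2696 i) (Nat.ble (nat_lit 2684) i)) (@Bool.rec (fun _ => ℕ) (t2696_2707 i) (t2707_2719 i) (Nat.ble (nat_lit 2707) i)) (Nat.ble (nat_lit 2696) i)) (@Bool.rec (fun _ => ℕ) (@Bool.rec (fun _ => ℕ) (t2719_2730 i) (t2730_2742 i) (Nat.ble (nat_lit 2730) i)) (@Bool.rec (fun _ => ℕ) (t2742_2753 i) (t2753_2765 i) (Nat.ble (nat_lit 2753) i)) (Nat.ble (nat_lit 2742) i)) (Nat.ble (nat_lit 2719) i))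
noncomputable def t2768_2770 (i : ℕ) : ℕ := (@Bool.rec (fun _ => ℕ) l2768 l2769 (Nat.ble (nat_lit 2769) i))
noncomputable def t2771_2773 (i : ℕ) : ℕ := (@Bool.rec (fun _ => ℕ) l2771 l2772 (Nat.ble (nat_lit 2772) i))
noncomputable def t2774_2776 (i : ℕ) : ℕ := (@Bool.rec (fun _ => ℕ) l2774 l2775 (Nat.ble (nat_lit 2775) i))
noncomputable def t2765_2776 (i : ℕ) : ℕ := (@Bool.rec (fun _ => ℕ) (@Bool.rec (fun _ => ℕ) (@Bool.rec (fun _ => ℕ) l2765 l2766 (Nat.ble (nat_lit 2766) i)) (@Bool.rec (fun _ => ℕ) l2767 (t2768_2770 i) (Nat.ble (nat_lit 2768) i)) (Nat.ble (nat_lit 2767) i)) (@Bool.rec (fun _ => ℕ) (@Bool.rec (fun _ => ℕ) l2770 (t2771_2773 i) (Nat.ble (nat_lit 2771) i)) (@Bool.rec (fun _ => ℕ) l2773 (t2774_2776 i) (Nat.ble (nat_lit 2774) i)) (Nat.ble (nat_lit 2773) i)) (Nat.ble (nat_lit 2770) i))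
noncomputable def t2777_2779 (i : ℕ) : ℕ := (@Bool.rec (fun _ => ℕ) l2777 l2778 (Nat.ble (nat_lit 2778) i))
noncomputable def t2780_2782 (i : ℕ) : ℕ := (@Bool.rec (fun _ => ℕ) l2780 l2781 (Nat.ble (nat_lit 2781) i))
noncomputable def t2783_2785 (i : ℕ) : ℕ := (@Bool.rec (fun _ => ℕ) l2783 l2784 (Nat.ble (nat_lit 2784) i))
noncomputable def t2786_2788 (i : ℕ) : ℕ := (@Bool.rec (fun _ => ℕ) l2786 l2787 (Nat.ble (nat_lit 2787) i))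
noncomputable def t2776_2788 (i : ℕ) : ℕ := (@Bool.rec (fun _ => ℕ) (@Bool.rec (fun _ => ℕ) (@Bool.rec (fun _ => ℕ) l2776 (t2777_2779 i) (Nat.ble (nat_lit 2777) i)) (@Bool.rec (fun _ => ℕ) l2779 (t2780_2782 i) (Nat.ble (nat_lit 2780) i)) (Nat.ble (nat_lit 2779) i)) (@Bool.rec (fun _ => ℕ) (@Bool.rec (fun _ => ℕ) l2782 (t2783_2785 i) (Nat.ble (nat_lit 2783) i)) (@Bool.rec (fun _ => ℕ) l2785 (t2786_2788 i) (Nat.ble (nat_lit 2786) i)) (Nat.ble (nat_lit 2785) i)) (Nat.ble (nat_lit 2782) i))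
noncomputable def t2791_2793 (i : ℕ) : ℕ := (@Bool.rec (fun _ => ℕ) l2791 l2792 (Nat.ble (nat_lit 2792) i))
noncomputable def t2794_2796 (i : ℕ) : ℕ := (@Bool.rec (fun _ => ℕ) l2794 l2795 (Nat.ble (nat_lit 2795) i))
noncomputable def t2797_2799 (i : ℕ) : ℕ := (@Bool.rec (fun _ => ℕ) l2797 l2798 (Nat.ble (nat_lit 2798) i))
noncomputable def t2788_2799 (i : ℕ) : ℕ := (@Bool.rec (fun _ => ℕ) (@Bool.rec (fun _ => ℕ) (@Bool.rec (fun _ => ℕ) l2788 l2789 (Nat.ble (nat_lit 2789) i)) (@Bool.rec (fun _ => ℕ) l2790 (t2791_2793 i) (Nat.ble (nat_lit 2791) i)) (Nat.ble (nat_lit 2790) i)) (@Bool.rec (fun _ => ℕ) (@Bool.rec (fun _ => ℕ) l2793 (t2794_2796 i) (Nat.ble (nat_lit 2794) i)) (@Bool.rec (fun _ => ℕ) l2796 (t2797_2799 i) (Nat.ble (nat_lit 2797) i)) (Nat.ble (nat_lit 2796) i)) (Nat.ble (nat_lit 2793) i))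
noncomputable def t2800_2802 (i : ℕ) : ℕ := (@Bool.rec (fun _ => ℕ) l2800 l2801 (Nat.ble (nat_lit 2801) i))
noncomputable def t2803_2805 (i : ℕ) : ℕ := (@Bool.rec (fun _ => ℕ) l2803 l2804 (Nat.ble (nat_lit 2804) i))
noncomputable def t2806_2808 (i : ℕ) : ℕ := (@Bool.rec (fun _ => ℕ) l2806 l2807 (Nat.ble (nat_lit 2807) i))
noncomputable def t2809_2811 (i : ℕ) : ℕ := (@Bool.rec (fun _ => ℕ) l2809 l2810 (Nat.ble (nat_lit 2810) i))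
noncomputable def t2799_2811 (i : ℕ) : ℕ := (@Bool.rec (fun _ => ℕ) (@Bool.rec (fun _ => ℕ) (@Bool.rec (fun _ => ℕ) l2799 (t2800_2802 i) (Nat.ble (nat_lit 2800) i)) (@Bool.rec (fun _ => ℕ) l2802 (t2803_2805 i) (Nat.ble (nat_lit 2803) i)) (Nat.ble (nat_lit 2802) i)) (@Bool.rec (fun _ => ℕ) (@Bool.rec (fun _ => ℕ) l2805 (t2806_2808 i) (Nat.ble (nat_lit 2806) i)) (@Bool.rec (fun _ => ℕ) l2808 (t2809_2811 i) (Nat.ble (nat_lit 2809) i)) (Nat.ble (nat_lit 2808) i)) (Nat.ble (nat_lit 2805) i))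
noncomputable def t2814_2816 (i : ℕ) : ℕ := (@Bool.rec (fun _ => ℕ) l2814 l2815 (Nat.ble (nat_lit 2815) i))
noncomputable def t2817_2819 (i : ℕ) : ℕ := (@Bool.rec (fun _ => ℕ) l2817 l2818 (Nat.ble (nat_lit 2818) i))
noncomputable def t2820_2822 (i : ℕ) : ℕ := (@Bool.rec (fun _ => ℕ) l2820 l2821 (Nat.ble (nat_lit 2821) i))
noncomputable def t2811_2822 (i : ℕ) : ℕ := (@Bool.rec (fun _ => ℕ) (@Bool.rec (fun _ => ℕ) (@Bool.rec (fun _ => ℕ) l2811 l2812 (Nat.ble (nat_lit 2812) i)) (@Bool.rec (fun _ => ℕ) l2813 (t2814_2816 i) (Nat.ble (nat_lit 2814) i)) (Nat.ble (nat_lit 2813) i)) (@Bool.rec (fun _ => ℕ) (@Bool.rec (fun _ => ℕ) l2816 (t2817_2819 i) (Nat.ble (nat_lit 2817) i)) (@Bool.rec (fun _ => ℕ) l2819 (t2820_2822 i) (Nat.ble (nat_lit 2820) i)) (Nat.ble (nat_lit 2819) i)) (Nat.ble (nat_lit 2816) i))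
noncomputable def t2823_2825 (i : ℕ) : ℕ := (@Bool.rec (fun _ => ℕ) l2823 l2824 (Nat.ble (nat_lit 2824) i))
noncomputable def t2826_2828 (i : ℕ) : ℕ := (@Bool.rec (fun _ => ℕ) l2826 l2827 (Nat.ble (nat_lit 2827) i))
noncomputable def t2829_2831 (i : ℕ) : ℕ := (@Bool.rec (fun _ => ℕ) l2829 l2830 (Nat.ble (nat_lit 2830) i))
noncomputable def t2832_2834 (i : ℕ) : ℕ := (@Bool.rec (fun _ => ℕ) l2832 l2833 (Nat.ble (nat_lit 2833) i))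
noncomputable def t2822_2834 (i : ℕ) : ℕ := (@Bool.rec (fun _ => ℕ) (@Bool.rec (fun _ => ℕ) (@Bool.rec (fun _ => ℕ) l2822 (t2823_2825 i) (Nat.ble (nat_lit 2823) i)) (@Bool.rec (fun _ => ℕ) l2825 (t2826_2828 i) (Nat.ble (nat_lit 2826) i)) (Nat.ble (nat_lit 2825) i)) (@Bool.rec (fun _ => ℕ) (@Bool.rec (fun _ => ℕ) l2828 (t2829_2831 i) (Nat.ble (nat_lit 2829) i)) (@Bool.rec (fun _ => ℕ) l2831 (t2832_2834 i) (Nat.ble (nat_lit 2832) i)) (Nat.ble (nat_lit 2831) i)) (Nat.ble (nat_lit 2828) i))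
noncomputable def t2837_2839 (i : ℕ) : ℕ := (@Bool.rec (fun _ => ℕ) l2837 l2838 (Nat.ble (nat_lit 2838) i))
noncomputable def t2840_2842 (i : ℕ) : ℕ := (@Bool.rec (fun _ => ℕ) l2840 l2841 (Nat.ble (nat_lit 2841) i))
noncomputable def t2843_2845 (i : ℕ) : ℕ := (@Bool.rec (fun _ => ℕ) l2843 l2844 (Nat.ble (nat_lit 2844) i))
noncomputable def t2834_2845 (i : ℕ) : ℕ := (@Bool.rec (fun _ => ℕ) (@Bool.rec (fun _ => ℕ) (@Bool.rec (fun _ => ℕ) l2834 l2835 (Nat.ble (nat_lit 2835) i)) (@Bool.rec (fun _ => ℕ) l2836 (t2837_2839 i) (Nat.ble (nat_lit 2837) i)) (Nat.ble (nat_lit 2836) i)) (@Bool.rec (fun _ => ℕ) (@Bool.rec (fun _ => ℕ) l2839 (t2840_2842 i) (Nat.ble (nat_lit 2840) i)) (@Bool.rec (fun _ => ℕ) l2842 (t2843_2845 i) (Nat.ble (nat_lit 2843) i)) (Nat.ble (nat_lit 2842) i)) (Nat.ble (nat_lit 2839) i))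
noncomputable def t2846_2848 (i : ℕ) : ℕ := (@Bool.rec (fun _ => ℕ) l2846 l2847 (Nat.ble (nat_lit 2847) i))
noncomputable def t2849_2851 (i : ℕ) : ℕ := (@Bool.rec (fun _ => ℕ) l2849 l2850 (Nat.ble (nat_lit 2850) i))
noncomputable def t2852_2854 (i : ℕ) : ℕ := (@Bool.rec (fun _ => ℕ) l2852 l2853 (Nat.ble (nat_lit 2853) i))
noncomputable def t2855_2857 (i : ℕ) : ℕ := (@Bool.rec (fun _ => ℕ) l2855 l2856 (Nat.ble (nat_lit 2856) i))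
noncomputable def t2845_2857 (i : ℕ) : ℕ := (@Bool.rec (fun _ => ℕ) (@Bool.rec (fun _ => ℕ) (@Bool.rec (fun _ => ℕ) l2845 (t2846_2848 i) (Nat.ble (nat_lit 2846) i)) (@Bool.rec (fun _ => ℕ) l2848 (t2849_2851 i) (Nat.ble (nat_lit 2849) i)) (Nat.ble (nat_lit 2848) i)) (@Bool.rec (fun _ => ℕ) (@Bool.rec (fun _ => ℕ) l2851 (t2852_2854 i) (Nat.ble (nat_lit 2852) i)) (@Bool.rec (fun _ => ℕ) l2854 (t2855_2857 i) (Nat.ble (nat_lit 2855) i)) (Nat.ble (nat_lit 2854) i)) (Nat.ble (nat_lit 2851) i))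
noncomputable def t2765_2857 (i : ℕ) : ℕ := (@Bool.rec (fun _ => ℕ) (@Bool.rec (fun _ => ℕ) (@Bool.rec (fun _ => ℕ) (t2765_2776 i) (t2776_2788 i) (Nat.ble (nat_lit 2776) i)) (@Bool.rec (fun _ => ℕ) (t2788_2799 i) (t2799_2811 i) (Nat.ble (nat_lit 2799) i)) (Nat.ble (nat_lit 2788) i)) (@Bool.rec (fun _ => ℕ) (@Bool.rec (fun _ => ℕ) (t2811_2822 i) (t2822_2834 i) (Nat.ble (nat_lit 2822) i)) (@Bool.rec (fun _ => ℕ) (t2834_2845 i) (t2845_2857 i) (Nat.ble (nat_lit 2845) i)) (Nat.ble (nat_lit 2834) i)) (Nat.ble (nat_lit 2811) i))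
noncomputable def t2860_2862 (i : ℕ) : ℕ := (@Bool.rec (fun _ => ℕ) l2860 l2861 (Nat.ble (nat_lit 2861) i))
noncomputable def t2863_2865 (i : ℕ) : ℕ := (@Bool.rec (fun _ => ℕ) l2863 l2864 (Nat.ble (nat_lit 2864) i))
noncomputable def t2866_2868 (i : ℕ) : ℕ := (@Bool.rec (fun _ => ℕ) l2866 l2867 (Nat.ble (nat_lit 2867) i))
noncomputable def t2857_2868 (i : ℕ) : ℕ := (@Bool.rec (fun _ => ℕ) (@Bool.rec (fun _ => ℕ) (@Bool.rec (fun _ => ℕ) l2857 l2858 (Nat.ble (nat_lit 2858) i)) (@Bool.rec (fun _ => ℕ) l2859 (t2860_2862 i) (Nat.ble (nat_lit 2860) i)) (Nat.ble (nat_lit 2859) i)) (@Bool.rec (fun _ => ℕ) (@Bool.rec (fun _ => ℕ) l2862 (t2863_2865 i) (Nat.ble (nat_lit 2863) i)) (@Bool.rec (fun _ => ℕ) l2865 (t2866_2868 i) (Nat.ble (nat_lit 2866) i)) (Nat.ble (nat_lit 2865) i)) (Nat.ble (nat_lit 2862) i))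
noncomputable def t2869_2871 (i : ℕ) : ℕ := (@Bool.rec (fun _ => ℕ) l2869 l2870 (Nat.ble (nat_lit 2870) i))
noncomputable def t2872_2874 (i : ℕ) : ℕ := (@Bool.rec (fun _ => ℕ) l2872 l2873 (Nat.ble (nat_lit 2873) i))
noncomputable def t2875_2877 (i : ℕ) : ℕ := (@Bool.rec (fun _ => ℕ) l2875 l2876 (Nat.ble (nat_lit 2876) i))
noncomputable def t2878_2880 (i : ℕ) : ℕ := (@Bool.rec (fun _ => ℕ) l2878 l2879 (Nat.ble (nat_lit 2879) i))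
noncomputable def t2868_2880 (i : ℕ) : ℕ := (@Bool.rec (fun _ => ℕ) (@Bool.rec (fun _ => ℕ) (@Bool.rec (fun _ => ℕ) l2868 (t2869_2871 i) (Nat.ble (nat_lit 2869) i)) (@Bool.rec (fun _ => ℕ) l2871 (t2872_2874 i) (Nat.ble (nat_lit 2872) i)) (Nat.ble (nat_lit 2871) i)) (@Bool.rec (fun _ => ℕ) (@Bool.rec (fun _ => ℕ) l2874 (t2875_2877 i) (Nat.ble (nat_lit 2875) i)) (@Bool.rec (fun _ => ℕ) l2877 (t2878_2880 i) (Nat.ble (nat_lit 2878) i)) (Nat.ble (nat_lit 2877) i)) (Nat.ble (nat_lit 2874) i))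
noncomputable def t2883_2885 (i : ℕ) : ℕ := (@Bool.rec (fun _ => ℕ) l2883 l2884 (Nat.ble (nat_lit 2884) i))
noncomputable def t2886_2888 (i : ℕ) : ℕ := (@Bool.rec (fun _ => ℕ) l2886 l2887 (Nat.ble (nat_lit 2887) i))
noncomputable def t2889_2891 (i : ℕ) : ℕ := (@Bool.rec (fun _ => ℕ) l2889 l2890 (Nat.ble (nat_lit 2890) i))
noncomputable def t2880_2891 (i : ℕ) : ℕ := (@Bool.rec (fun _ => ℕ) (@Bool.rec (fun _ => ℕ) (@Bool.rec (fun _ => ℕ) l2880 l2881 (Nat.ble (nat_lit 2881) i)) (@Bool.rec (fun _ => ℕ) l2882 (t2883_2885 i) (Nat.ble (nat_lit 2883) i)) (Nat.ble (nat_lit 2882) i)) (@Bool.rec (fun _ => ℕ) (@Bool.rec (fun _ => ℕ) l2885 (t2886_2888 i) (Nat.ble (nat_lit 2886) i)) (@Bool.rec (fun _ => ℕ) l2888 (t2889_2891 i) (Nat.ble (nat_lit 2889) i)) (Nat.ble (nat_lit 2888) i)) (Nat.ble (nat_lit 2885) i))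
noncomputable def t2892_2894 (i : ℕ) : ℕ := (@Bool.rec (fun _ => ℕ) l2892 l2893 (Nat.ble (nat_lit 2893) i))
noncomputable def t2895_2897 (i : ℕ) : ℕ := (@Bool.rec (fun _ => ℕ) l2895 l2896 (Nat.ble (nat_lit 2896) i))
noncomputable def t2898_2900 (i : ℕ) : ℕ := (@Bool.rec (fun _ => ℕ) l2898 l2899 (Nat.ble (nat_lit 2899) i))
noncomputable def t2901_2903 (i : ℕ) : ℕ := (@Bool.rec (fun _ => ℕ) l2901 l2902 (Nat.ble (nat_lit 2902) i))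
noncomputable def t2891_2903 (i : ℕ) : ℕ := (@Bool.rec (fun _ => ℕ) (@Bool.rec (fun _ => ℕ) (@Bool.rec (fun _ => ℕ) l2891 (t2892_2894 i) (Nat.ble (nat_lit 2892) i)) (@Bool.rec (fun _ => ℕ) l2894 (t2895_2897 i) (Nat.ble (nat_lit 2895) i)) (Nat.ble (nat_lit 2894) i)) (@Bool.rec (fun _ => ℕ) (@Bool.rec (fun _ => ℕ) l2897 (t2898_2900 i) (Nat.ble (nat_lit 2898) i)) (@Bool.rec (fun _ => ℕ) l2900 (t2901_2903 i) (Nat.ble (nat_lit 2901) i)) (Nat.ble (nat_lit 2900) i)) (Nat.ble (nat_lit 2897) i))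
noncomputable def t2906_2908 (i : ℕ) : ℕ := (@Bool.rec (fun _ => ℕ) l2906 l2907 (Nat.ble (nat_lit 2907) i))
noncomputable def t2909_2911 (i : ℕ) : ℕ := (@Bool.rec (fun _ => ℕ) l2909 l2910 (Nat.ble (nat_lit 2910) i))
noncomputable def t2912_2914 (i : ℕ) : ℕ := (@Bool.rec (fun _ => ℕ) l2912 l2913 (Nat.ble (nat_lit 2913) i))
noncomputable def t2903_2914 (i : ℕ) : ℕ := (@Bool.rec (fun _ => ℕ) (@Bool.rec (fun _ => ℕ) (@Bool.rec (fun _ => ℕ) l2903 l2904 (Nat.ble (nat_lit 2904) i)) (@Bool.rec (fun _ => ℕ) l2905 (t2906_2908 i) (Nat.ble (nat_lit 2906) i)) (Nat.ble (nat_lit 2905) i)) (@Bool.rec (fun _ => ℕ) (@Bool.rec (fun _ => ℕ) l2908 (t2909_2911 i) (Nat.ble (nat_lit 2909) i)) (@Bool.rec (fun _ => ℕ) l2911 (t2912_2914 i) (Nat.ble (nat_lit 2912) i)) (Nat.ble (nat_lit 2911) i)) (Nat.ble (nat_lit 2908) i))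
noncomputable def t2915_2917 (i : ℕ) : ℕ := (@Bool.rec (fun _ => ℕ) l2915 l2916 (Nat.ble (nat_lit 2916) i))
noncomputable def t2918_2920 (i : ℕ) : ℕ := (@Bool.rec (fun _ => ℕ) l2918 l2919 (Nat.ble (nat_lit 2919) i))
noncomputable def t2921_2923 (i : ℕ) : ℕ := (@Bool.rec (fun _ => ℕ) l2921 l2922 (Nat.ble (nat_lit 2922) i))
noncomputable def t2924_2926 (i : ℕ) : ℕ := (@Bool.rec (fun _ => ℕ) l2924 l2925 (Nat.ble (nat_lit 2925) i))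
noncomputable def t2914_2926 (i : ℕ) : ℕ := (@Bool.rec (fun _ => ℕ) (@Bool.rec (fun _ => ℕ) (@Bool.rec (fun _ => ℕ) l2914 (t2915_2917 i) (Nat.ble (nat_lit 2915) i)) (@Bool.rec (fun _ => ℕ) l2917 (t2918_2920 i) (Nat.ble (nat_lit 2918) i)) (Nat.ble (nat_lit 2917) i)) (@Bool.rec (fun _ => ℕ) (@Bool.rec (fun _ => ℕ) l2920 (t2921_2923 i) (Nat.ble (nat_lit 2921) i)) (@Bool.rec (fun _ => ℕ) l2923 (t2924_2926 i) (Nat.ble (nat_lit 2924) i)) (Nat.ble (nat_lit 2923) i)) (Nat.ble (nat_lit 2920) i))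
noncomputable def t2927_2929 (i : ℕ) : ℕ := (@Bool.rec (fun _ => ℕ) l2927 l2928 (Nat.ble (nat_lit 2928) i))
noncomputable def t2930_2932 (i : ℕ) : ℕ := (@Bool.rec (fun _ => ℕ) l2930 l2931 (Nat.ble (nat_lit 2931) i))
noncomputable def t2933_2935 (i : ℕ) : ℕ := (@Bool.rec (fun _ => ℕ) l2933 l2934 (Nat.ble (nat_lit 2934) i))
noncomputable def t2936_2938 (i : ℕ) : ℕ := (@Bool.rec (fun _ => ℕ) l2936 l2937 (Nat.ble (nat_lit 2937) i))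
noncomputable def t2926_2938 (i : ℕ) : ℕ := (@Bool.rec (fun _ => ℕ) (@Bool.rec (fun _ => ℕ) (@Bool.rec (fun _ => ℕ) l2926 (t2927_2929 i) (Nat.ble (nat_lit 2927) i)) (@Bool.rec (fun _ => ℕ) l2929 (t2930_2932 i) (Nat.ble (nat_lit 2930) i)) (Nat.ble (nat_lit 2929) i)) (@Bool.rec (fun _ => ℕ) (@Bool.rec (fun _ => ℕ) l2932 (t2933_2935 i) (Nat.ble (nat_lit 2933) i)) (@Bool.rec (fun _ => ℕ) l2935 (t2936_2938 i) (Nat.ble (nat_lit 2936) i)) (Nat.ble (nat_lit 2935) i)) (Nat.ble (nat_lit 2932) i))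
noncomputable def t2939_2941 (i : ℕ) : ℕ := (@Bool.rec (fun _ => ℕ) l2939 l2940 (Nat.ble (nat_lit 2940) i))
noncomputable def t2942_2944 (i : ℕ) : ℕ := (@Bool.rec (fun _ => ℕ) l2942 l2943 (Nat.ble (nat_lit 2943) i))
noncomputable def t2945_2947 (i : ℕ) : ℕ := (@Bool.rec (fun _ => ℕ) l2945 l2946 (Nat.ble (nat_lit 2946) i))
noncomputable def t2948_2950 (i : ℕ) : ℕ := (@Bool.rec (fun _ => ℕ) l2948 l2949 (Nat.ble (nat_lit 2949) i))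
noncomputable def t2938_2950 (i : ℕ) : ℕ := (@Bool.rec (fun _ => ℕ) (@Bool.rec (fun _ => ℕ) (@Bool.rec (fun _ => ℕ) l2938 (t2939_2941 i) (Nat.ble (nat_lit 2939) i)) (@Bool.rec (fun _ => ℕ) l2941 (t2942_2944 i) (Nat.ble (nat_lit 2942) i)) (Nat.ble (nat_lit 2941) i)) (@Bool.rec (fun _ => ℕ) (@Bool.rec (fun _ => ℕ) l2944 (t2945_2947 i) (Nat.ble (nat_lit 2945) i)) (@Bool.rec (fun _ => ℕ) l2947 (t2948_2950 i) (Nat.ble (nat_lit 2948) i)) (Nat.ble (nat_lit 2947) i)) (Nat.ble (nat_lit 2944) i))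
noncomputable def t2857_2950 (i : ℕ) : ℕ := (@Bool.rec (fun _ => ℕ) (@Bool.rec (fun _ => ℕ) (@Bool.rec (fun _ => ℕ) (t2857_2868 i) (t2868_2880 i) (Nat.ble (nat_lit 2868) i)) (@Bool.rec (fun _ => ℕ) (t2880_2891 i) (t2891_2903 i) (Nat.ble (nat_lit 2891) i)) (Nat.ble (nat_lit 2880) i)) (@Bool.rec (fun _ => ℕ) (@Bool.rec (fun _ => ℕ) (t2903_2914 i) (t2914_2926 i) (Nat.ble (nat_lit 2914) i)) (@Bool.rec (fun _ => ℕ) (t2926_2938 i) (t2938_2950 i) (Nat.ble (nat_lit 2938) i)) (Nat.ble (nat_lit 2926) i)) (Nat.ble (nat_lit 2903) i))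
noncomputable def t2212_2950 (i : ℕ) : ℕ := (@Bool.rec (fun _ => ℕ) (@Bool.rec (fun _ => ℕ) (@Bool.rec (fun _ => ℕ) (t2212_2304 i) (t2304_2396 i) (Nat.ble (nat_lit 2304) i)) (@Bool.rec (fun _ => ℕ) (t2396_2488 i) (t2488_2581 i) (Nat.ble (nat_lit 2488) i)) (Nat.ble (nat_lit 2396) i)) (@Bool.rec (fun _ => ℕ) (@Bool.rec (fun _ => ℕ) (t2581_2673 i) (t2673_2765 i) (Nat.ble (nat_lit 2673) i)) (@Bool.rec (fun _ => ℕ) (t2765_2857 i) (t2857_2950 i) (Nat.ble (nat_lit 2857) i)) (Nat.ble (nat_lit 2765) i)) (Nat.ble (nat_lit 2581) i))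
noncomputable def t2953_2955 (i : ℕ) : ℕ := (@Bool.rec (fun _ => ℕ) l2953 l2954 (Nat.ble (nat_lit 2954) i))
noncomputable def t2956_2958 (i : ℕ) : ℕ := (@Bool.rec (fun _ => ℕ) l2956 l2957 (Nat.ble (nat_lit 2957) i))
noncomputable def t2959_2961 (i : ℕ) : ℕ := (@Bool.rec (fun _ => ℕ) l2959 l2960 (Nat.ble (nat_lit 2960) i))
noncomputable def t2950_2961 (i : ℕ) : ℕ := (@Bool.rec (fun _ => ℕ) (@Bool.rec (fun _ => ℕ) (@Bool.rec (fun _ => ℕ) l2950 l2951 (Nat.ble (nat_lit 2951) i)) (@Bool.rec (fun _ => ℕ) l2952 (t2953_2955 i) (Nat.ble (nat_lit 2953) i)) (Nat.ble (nat_lit 2952) i)) (@Bool.rec (fun _ => ℕ) (@Bool.rec (fun _ => ℕ) l2955 (t2956_2958 i) (Nat.ble (nat_lit 2956) i)) (@Bool.rec (fun _ => ℕ) l2958 (t2959_2961 i) (Nat.ble (nat_lit 2959) i)) (Nat.ble (nat_lit 2958) i)) (Nat.ble (nat_lit 2955) i))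
noncomputable def t2962_2964 (i : ℕ) : ℕ := (@Bool.rec (fun _ => ℕ) l2962 l2963 (Nat.ble (nat_lit 2963) i))
noncomputable def t2965_2967 (i : ℕ) : ℕ := (@Bool.rec (fun _ => ℕ) l2965 l2966 (Nat.ble (nat_lit 2966) i))
noncomputable def t2968_2970 (i : ℕ) : ℕ := (@Bool.rec (fun _ => ℕ) l2968 l2969 (Nat.ble (nat_lit 2969) i))
noncomputable def t2971_2973 (i : ℕ) : ℕ := (@Bool.rec (fun _ => ℕ) l2971 l2972 (Nat.ble (nat_lit 2972) i))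
noncomputable def t2961_2973 (i : ℕ) : ℕ := (@Bool.rec (fun _ => ℕ) (@Bool.rec (fun _ => ℕ) (@Bool.rec (fun _ => ℕ) l2961 (t2962_2964 i) (Nat.ble (nat_lit 2962) i)) (@Bool.rec (fun _ => ℕ) l2964 (t2965_2967 i) (Nat.ble (nat_lit 2965) i)) (Nat.ble (nat_lit 2964) i)) (@Bool.rec (fun _ => ℕ) (@Bool.rec (fun _ => ℕ) l2967 (t2968_2970 i) (Nat.ble (nat_lit 2968) i)) (@Bool.rec (fun _ => ℕ) l2970 (t2971_2973 i) (Nat.ble (nat_lit 2971) i)) (Nat.ble (nat_lit 2970) i)) (Nat.ble (nat_lit 2967) i))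
noncomputable def t2976_2978 (i : ℕ) : ℕ := (@Bool.rec (fun _ => ℕ) l2976 l2977 (Nat.ble (nat_lit 2977) i))
noncomputable def t2979_2981 (i : ℕ) : ℕ := (@Bool.rec (fun _ => ℕ) l2979 l2980 (Nat.ble (nat_lit 2980) i))
noncomputable def t2982_2984 (i : ℕ) : ℕ := (@Bool.rec (fun _ => ℕ) l2982 l2983 (Nat.ble (nat_lit 2983) i))
noncomputable def t2973_2984 (i : ℕ) : ℕ := (@Bool.rec (fun _ => ℕ) (@Bool.rec (fun _ => ℕ) (@Bool.rec (fun _ => ℕ) l2973 l2974 (Nat.ble (nat_lit 2974) i)) (@Bool.rec (fun _ => ℕ) l2975 (t2976_2978 i) (Nat.ble (nat_lit 2976) i)) (Nat.ble (nat_lit 2975) i)) (@Bool.rec (fun _ => ℕ) (@Bool.rec (fun _ => ℕ) l2978 (t2979_2981 i) (Nat.ble (nat_lit 2979) i)) (@Bool.rec (fun _ => ℕ) l2981 (t2982_2984 i) (Nat.ble (nat_lit 2982) i)) (Nat.ble (nat_lit 2981) i)) (Nat.ble (nat_lit 2978) i))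
noncomputable def t2985_2987 (i : ℕ) : ℕ := (@Bool.rec (fun _ => ℕ) l2985 l2986 (Nat.ble (nat_lit 2986) i))
noncomputable def t2988_2990 (i : ℕ) : ℕ := (@Bool.rec (fun _ => ℕ) l2988 l2989 (Nat.ble (nat_lit 2989) i))
noncomputable def t2991_2993 (i : ℕ) : ℕ := (@Bool.rec (fun _ => ℕ) l2991 l2992 (Nat.ble (nat_lit 2992) i))
noncomputable def t2994_2996 (i : ℕ) : ℕ := (@Bool.rec (fun _ => ℕ) l2994 l2995 (Nat.ble (nat_lit 2995) i))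
noncomputable def t2984_2996 (i : ℕ) : ℕ := (@Bool.rec (fun _ => ℕ) (@Bool.rec (fun _ => ℕ) (@Bool.rec (fun _ => ℕ) l2984 (t2985_2987 i) (Nat.ble (nat_lit 2985) i)) (@Bool.rec (fun _ => ℕ) l2987 (t2988_2990 i) (Nat.ble (nat_lit 2988) i)) (Nat.ble (nat_lit 2987) i)) (@Bool.rec (fun _ => ℕ) (@Bool.rec (fun _ => ℕ) l2990 (t2991_2993 i) (Nat.ble (nat_lit 2991) i)) (@Bool.rec (fun _ => ℕ) l2993 (t2994_2996 i) (Nat.ble (nat_lit 2994) i)) (Nat.ble (nat_lit 2993) i)) (Nat.ble (nat_lit 2990) i))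
noncomputable def t2999_3001 (i : ℕ) : ℕ := (@Bool.rec (fun _ => ℕ) l2999 l3000 (Nat.ble (nat_lit 3000) i))
noncomputable def t3002_3004 (i : ℕ) : ℕ := (@Bool.rec (fun _ => ℕ) l3002 l3003 (Nat.ble (nat_lit 3003) i))
noncomputable def t3005_3007 (i : ℕ) : ℕ := (@Bool.rec (fun _ => ℕ) l3005 l3006 (Nat.ble (nat_lit 3006) i))
noncomputable def t2996_3007 (i : ℕ) : ℕ := (@Bool.rec (fun _ => ℕ) (@Bool.rec (fun _ => ℕ) (@Bool.rec (fun _ => ℕ) l2996 l2997 (Nat.ble (nat_lit 2997) i)) (@Bool.rec (fun _ => ℕ) l2998 (t2999_3001 i) (Nat.ble (nat_lit 2999) i)) (Nat.ble (nat_lit 2998) i)) (@Bool.rec (fun _ => ℕ) (@Bool.rec (fun _ => ℕ) l3001 (t3002_3004 i) (Nat.ble (nat_lit 3002) i)) (@Bool.rec (fun _ => ℕ) l3004 (t3005_3007 i) (Nat.ble (nat_lit 3005) i)) (Nat.ble (nat_lit 3004) i)) (Nat.ble (nat_lit 3001) i))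
noncomputable def t3008_3010 (i : ℕ) : ℕ := (@Bool.rec (fun _ => ℕ) l3008 l3009 (Nat.ble (nat_lit 3009) i))
noncomputable def t3011_3013 (i : ℕ) : ℕ := (@Bool.rec (fun _ => ℕ) l3011 l3012 (Nat.ble (nat_lit 3012) i))
noncomputable def t3014_3016 (i : ℕ) : ℕ := (@Bool.rec (fun _ => ℕ) l3014 l3015 (Nat.ble (nat_lit 3015) i))
noncomputable def t3017_3019 (i : ℕ) : ℕ := (@Bool.rec (fun _ => ℕ) l3017 l3018 (Nat.ble (nat_lit 3018) i))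
noncomputable def t3007_3019 (i : ℕ) : ℕ := (@Bool.rec (fun _ => ℕ) (@Bool.rec (fun _ => ℕ) (@Bool.rec (fun _ => ℕ) l3007 (t3008_3010 i) (Nat.ble (nat_lit 3008) i)) (@Bool.rec (fun _ => ℕ) l3010 (t3011_3013 i) (Nat.ble (nat_lit 3011) i)) (Nat.ble (nat_lit 3010) i)) (@Bool.rec (fun _ => ℕ) (@Bool.rec (fun _ => ℕ) l3013 (t3014_3016 i) (Nat.ble (nat_lit 3014) i)) (@Bool.rec (fun _ => ℕ) l3016 (t3017_3019 i) (Nat.ble (nat_lit 3017) i)) (Nat.ble (nat_lit 3016) i)) (Nat.ble (nat_lit 3013) i))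
noncomputable def t3022_3024 (i : ℕ) : ℕ := (@Bool.rec (fun _ => ℕ) l3022 l3023 (Nat.ble (nat_lit 3023) i))
noncomputable def t3025_3027 (i : ℕ) : ℕ := (@Bool.rec (fun _ => ℕ) l3025 l3026 (Nat.ble (nat_lit 3026) i))
noncomputable def t3028_3030 (i : ℕ) : ℕ := (@Bool.rec (fun _ => ℕ) l3028 l3029 (Nat.ble (nat_lit 3029) i))
noncomputable def t3019_3030 (i : ℕ) : ℕ := (@Bool.rec (fun _ => ℕ) (@Bool.rec (fun _ => ℕ) (@Bool.rec (fun _ => ℕ) l3019 l3020 (Nat.ble (nat_lit 3020) i)) (@Bool.rec (fun _ => ℕ) l3021 (t3022_3024 i) (Nat.ble (nat_lit 3022) i)) (Nat.ble (nat_lit 3021) i)) (@Bool.rec (fun _ => ℕ) (@Bool.rec (fun _ => ℕ) l3024 (t3025_3027 i) (Nat.ble (nat_lit 3025) i)) (@Bool.rec (fun _ => ℕ) l3027 (t3028_3030 i) (Nat.ble (nat_lit 3028) i)) (Nat.ble (nat_lit 3027) i)) (Nat.ble (nat_lit 3024) i))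
noncomputable def t3031_3033 (i : ℕ) : ℕ := (@Bool.rec (fun _ => ℕ) l3031 l3032 (Nat.ble (nat_lit 3032) i))
noncomputable def t3034_3036 (i : ℕ) : ℕ := (@Bool.rec (fun _ => ℕ) l3034 l3035 (Nat.ble (nat_lit 3035) i))
noncomputable def t3037_3039 (i : ℕ) : ℕ := (@Bool.rec (fun _ => ℕ) l3037 l3038 (Nat.ble (nat_lit 3038) i))
noncomputable def t3040_3042 (i : ℕ) : ℕ := (@Bool.rec (fun _ => ℕ) l3040 l3041 (Nat.ble (nat_lit 3041) i))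
noncomputable def t3030_3042 (i : ℕ) : ℕ := (@Bool.rec (fun _ => ℕ) (@Bool.rec (fun _ => ℕ) (@Bool.rec (fun _ => ℕ) l3030 (t3031_3033 i) (Nat.ble (nat_lit 3031) i)) (@Bool.rec (fun _ => ℕ) l3033 (t3034_3036 i) (Nat.ble (nat_lit 3034) i)) (Nat.ble (nat_lit 3033) i)) (@Bool.rec (fun _ => ℕ) (@Bool.rec (fun _ => ℕ) l3036 (t3037_3039 i) (Nat.ble (nat_lit 3037) i)) (@Bool.rec (fun _ => ℕ) l3039 (t3040_3042 i) (Nat.ble (nat_lit 3040) i)) (Nat.ble (nat_lit 3039) i)) (Nat.ble (nat_lit 3036) i))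
noncomputable def t2950_3042 (i : ℕ) : ℕ := (@Bool.rec (fun _ => ℕ) (@Bool.rec (fun _ => ℕ) (@Bool.rec (fun _ => ℕ) (t2950_2961 i) (t2961_2973 i) (Nat.ble (nat_lit 2961) i)) (@Bool.rec (fun _ => ℕ) (t2973_2984 i) (t2984_2996 i) (Nat.ble (nat_lit 2984) i)) (Nat.ble (nat_lit 2973) i)) (@Bool.rec (fun _ => ℕ) (@Bool.rec (fun _ => ℕ) (t2996_3007 i) (t3007_3019 i) (Nat.ble (nat_lit 3007) i)) (@Bool.rec (fun _ => ℕ) (t3019_3030 i) (t3030_3042 i) (Nat.ble (nat_lit 3030) i)) (Nat.ble (nat_lit 3019) i)) (Nat.ble (nat_lit 2996) i))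
noncomputable def t3045_3047 (i : ℕ) : ℕ := (@Bool.rec (fun _ => ℕ) l3045 l3046 (Nat.ble (nat_lit 3046) i))
noncomputable def t3048_3050 (i : ℕ) : ℕ := (@Bool.rec (fun _ => ℕ) l3048 l3049 (Nat.ble (nat_lit 3049) i))
noncomputable def t3051_3053 (i : ℕ) : ℕ := (@Bool.rec (fun _ => ℕ) l3051 l3052 (Nat.ble (nat_lit 3052) i))
noncomputable def t3042_3053 (i : ℕ) : ℕ := (@Bool.rec (fun _ => ℕ) (@Bool.rec (fun _ => ℕ) (@Bool.rec (fun _ => ℕ) l3042 l3043 (Nat.ble (nat_lit 3043) i)) (@Bool.rec (fun _ => ℕ) l3044 (t3045_3047 i) (Nat.ble (nat_lit 3045) i)) (Nat.ble (nat_lit 3044) i)) (@Bool.rec (fun _ => ℕ) (@Bool.rec (fun _ => ℕ) l3047 (t3048_3050 i) (Nat.ble (nat_lit 3048) i)) (@Bool.rec (fun _ => ℕ) l3050 (t3051_3053 i) (Nat.ble (nat_lit 3051) i)) (Nat.ble (nat_lit 3050) i)) (Nat.ble (nat_lit 3047) i))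
noncomputable def t3054_3056 (i : ℕ) : ℕ := (@Bool.rec (fun _ => ℕ) l3054 l3055 (Nat.ble (nat_lit 3055) i))
noncomputable def t3057_3059 (i : ℕ) : ℕ := (@Bool.rec (fun _ => ℕ) l3057 l3058 (Nat.ble (nat_lit 3058) i))
noncomputable def t3060_3062 (i : ℕ) : ℕ := (@Bool.rec (fun _ => ℕ) l3060 l3061 (Nat.ble (nat_lit 3061) i))
noncomputable def t3063_3065 (i : ℕ) : ℕ := (@Bool.rec (fun _ => ℕ) l3063 l3064 (Nat.ble (nat_lit 3064) i))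
noncomputable def t3053_3065 (i : ℕ) : ℕ := (@Bool.rec (fun _ => ℕ) (@Bool.rec (fun _ => ℕ) (@Bool.rec (fun _ => ℕ) l3053 (t3054_3056 i) (Nat.ble (nat_lit 3054) i)) (@Bool.rec (fun _ => ℕ) l3056 (t3057_3059 i) (Nat.ble (nat_lit 3057) i)) (Nat.ble (nat_lit 3056) i)) (@Bool.rec (fun _ => ℕ) (@Bool.rec (fun _ => ℕ) l3059 (t3060_3062 i) (Nat.ble (nat_lit 3060) i)) (@Bool.rec (fun _ => ℕ) l3062 (t3063_3065 i) (Nat.ble (nat_lit 3063) i)) (Nat.ble (nat_lit 3062) i)) (Nat.ble (nat_lit 3059) i))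
noncomputable def t3068_3070 (i : ℕ) : ℕ := (@Bool.rec (fun _ => ℕ) l3068 l3069 (Nat.ble (nat_lit 3069) i))
noncomputable def t3071_3073 (i : ℕ) : ℕ := (@Bool.rec (fun _ => ℕ) l3071 l3072 (Nat.ble (nat_lit 3072) i))
noncomputable def t3074_3076 (i : ℕ) : ℕ := (@Bool.rec (fun _ => ℕ) l3074 l3075 (Nat.ble (nat_lit 3075) i))
noncomputable def t3065_3076 (i : ℕ) : ℕ := (@Bool.rec (fun _ => ℕ) (@Bool.rec (fun _ => ℕ) (@Bool.rec (fun _ => ℕ) l3065 l3066 (Nat.ble (nat_lit 3066) i)) (@Bool.rec (fun _ => ℕ) l3067 (t3068_3070 i) (Nat.ble (nat_lit 3068) i)) (Nat.ble (nat_lit 3067) i)) (@Bool.rec (fun _ => ℕ) (@Bool.rec (fun _ => ℕ) l3070 (t3071_3073 i) (Nat.ble (nat_lit 3071) i)) (@Bool.rec (fun _ => ℕ) l3073 (t3074_3076 i) (Nat.ble (nat_lit 3074) i)) (Nat.ble (nat_lit 3073) i)) (Nat.ble (nat_lit 3070) i))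
noncomputable def t3077_3079 (i : ℕ) : ℕ := (@Bool.rec (fun _ => ℕ) l3077 l3078 (Nat.ble (nat_lit 3078) i))
noncomputable def t3080_3082 (i : ℕ) : ℕ := (@Bool.rec (fun _ => ℕ) l3080 l3081 (Nat.ble (nat_lit 3081) i))
noncomputable def t3083_3085 (i : ℕ) : ℕ := (@Bool.rec (fun _ => ℕ) l3083 l3084 (Nat.ble (nat_lit 3084) i))
noncomputable def t3086_3088 (i : ℕ) : ℕ := (@Bool.rec (fun _ => ℕ) l3086 l3087 (Nat.ble (nat_lit 3087) i))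
noncomputable def t3076_3088 (i : ℕ) : ℕ := (@Bool.rec (fun _ => ℕ) (@Bool.rec (fun _ => ℕ) (@Bool.rec (fun _ => ℕ) l3076 (t3077_3079 i) (Nat.ble (nat_lit 3077) i)) (@Bool.rec (fun _ => ℕ) l3079 (t3080_3082 i) (Nat.ble (nat_lit 3080) i)) (Nat.ble (nat_lit 3079) i)) (@Bool.rec (fun _ => ℕ) (@Bool.rec (fun _ => ℕ) l3082 (t3083_3085 i) (Nat.ble (nat_lit 3083) i)) (@Bool.rec (fun _ => ℕ) l3085 (t3086_3088 i) (Nat.ble (nat_lit 3086) i)) (Nat.ble (nat_lit 3085) i)) (Nat.ble (nat_lit 3082) i))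
noncomputable def t3091_3093 (i : ℕ) : ℕ := (@Bool.rec (fun _ => ℕ) l3091 l3092 (Nat.ble (nat_lit 3092) i))
noncomputable def t3094_3096 (i : ℕ) : ℕ := (@Bool.rec (fun _ => ℕ) l3094 l3095 (Nat.ble (nat_lit 3095) i))
noncomputable def t3097_3099 (i : ℕ) : ℕ := (@Bool.rec (fun _ => ℕ) l3097 l3098 (Nat.ble (nat_lit 3098) i))
noncomputable def t3088_3099 (i : ℕ) : ℕ := (@Bool.rec (fun _ => ℕ) (@Bool.rec (fun _ => ℕ) (@Bool.rec (fun _ => ℕ) l3088 l3089 (Nat.ble (nat_lit 3089) i)) (@Bool.rec (fun _ => ℕ) l3090 (t3091_3093 i) (Nat.ble (nat_lit 3091) i)) (Nat.ble (nat_lit 3090) i)) (@Bool.rec (fun _ => ℕ) (@Bool.rec (fun _ => ℕ) l3093 (t3094_3096 i) (Nat.ble (nat_lit 3094) i)) (@Bool.rec (fun _ => ℕ) l3096 (t3097_3099 i) (Nat.ble (nat_lit 3097) i)) (Nat.ble (nat_lit 3096) i)) (Nat.ble (nat_lit 3093) i))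
noncomputable def t3100_3102 (i : ℕ) : ℕ := (@Bool.rec (fun _ => ℕ) l3100 l3101 (Nat.ble (nat_lit 3101) i))
noncomputable def t3103_3105 (i : ℕ) : ℕ := (@Bool.rec (fun _ => ℕ) l3103 l3104 (Nat.ble (nat_lit 3104) i))
noncomputable def t3106_3108 (i : ℕ) : ℕ := (@Bool.rec (fun _ => ℕ) l3106 l3107 (Nat.ble (nat_lit 3107) i))
noncomputable def t3109_3111 (i : ℕ) : ℕ := (@Bool.rec (fun _ => ℕ) l3109 l3110 (Nat.ble (nat_lit 3110) i))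
noncomputable def t3099_3111 (i : ℕ) : ℕ := (@Bool.rec (fun _ => ℕ) (@Bool.rec (fun _ => ℕ) (@Bool.rec (fun _ => ℕ) l3099 (t3100_3102 i) (Nat.ble (nat_lit 3100) i)) (@Bool.rec (fun _ => ℕ) l3102 (t3103_3105 i) (Nat.ble (nat_lit 3103) i)) (Nat.ble (nat_lit 3102) i)) (@Bool.rec (fun _ => ℕ) (@Bool.rec (fun _ => ℕ) l3105 (t3106_3108 i) (Nat.ble (nat_lit 3106) i)) (@Bool.rec (fun _ => ℕ) l3108 (t3109_3111 i) (Nat.ble (nat_lit 3109) i)) (Nat.ble (nat_lit 3108) i)) (Nat.ble (nat_lit 3105) i))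
noncomputable def t3114_3116 (i : ℕ) : ℕ := (@Bool.rec (fun _ => ℕ) l3114 l3115 (Nat.ble (nat_lit 3115) i))
noncomputable def t3117_3119 (i : ℕ) : ℕ := (@Bool.rec (fun _ => ℕ) l3117 l3118 (Nat.ble (nat_lit 3118) i))
noncomputable def t3120_3122 (i : ℕ) : ℕ := (@Bool.rec (fun _ => ℕ) l3120 l3121 (Nat.ble (nat_lit 3121) i))
noncomputable def t3111_3122 (i : ℕ) : ℕ := (@Bool.rec (fun _ => ℕ) (@Bool.rec (fun _ => ℕ) (@Bool.rec (fun _ => ℕ) l3111 l3112 (Nat.ble (nat_lit 3112) i)) (@Bool.rec (fun _ => ℕ) l3113 (t3114_3116 i) (Nat.ble (nat_lit 3114) i)) (Nat.ble (nat_lit 3113) i)) (@Bool.rec (fun _ => ℕ) (@Bool.rec (fun _ => ℕ) l3116 (t3117_3119 i) (Nat.ble (nat_lit 3117) i)) (@Bool.rec (fun _ => ℕ) l3119 (t3120_3122 i) (Nat.ble (nat_lit 3120) i)) (Nat.ble (nat_lit 3119) i)) (Nat.ble (nat_lit 3116) i))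
noncomputable def t3123_3125 (i : ℕ) : ℕ := (@Bool.rec (fun _ => ℕ) l3123 l3124 (Nat.ble (nat_lit 3124) i))
noncomputable def t3126_3128 (i : ℕ) : ℕ := (@Bool.rec (fun _ => ℕ) l3126 l3127 (Nat.ble (nat_lit 3127) i))
noncomputable def t3129_3131 (i : ℕ) : ℕ := (@Bool.rec (fun _ => ℕ) l3129 l3130 (Nat.ble (nat_lit 3130) i))
noncomputable def t3132_3134 (i : ℕ) : ℕ := (@Bool.rec (fun _ => ℕ) l3132 l3133 (Nat.ble (nat_lit 3133) i))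
noncomputable def t3122_3134 (i : ℕ) : ℕ := (@Bool.rec (fun _ => ℕ) (@Bool.rec (fun _ => ℕ) (@Bool.rec (fun _ => ℕ) l3122 (t3123_3125 i) (Nat.ble (nat_lit 3123) i)) (@Bool.rec (fun _ => ℕ) l3125 (t3126_3128 i) (Nat.ble (nat_lit 3126) i)) (Nat.ble (nat_lit 3125) i)) (@Bool.rec (fun _ => ℕ) (@Bool.rec (fun _ => ℕ) l3128 (t3129_3131 i) (Nat.ble (nat_lit 3129) i)) (@Bool.rec (fun _ => ℕ) l3131 (t3132_3134 i) (Nat.ble (nat_lit 3132) i)) (Nat.ble (nat_lit 3131) i)) (Nat.ble (nat_lit 3128) i))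
noncomputable def t3042_3134 (i : ℕ) : ℕ := (@Bool.rec (fun _ => ℕ) (@Bool.rec (fun _ => ℕ) (@Bool.rec (fun _ => ℕ) (t3042_3053 i) (t3053_3065 i) (Nat.ble (nat_lit 3053) i)) (@Bool.rec (fun _ => ℕ) (t3065_3076 i) (t3076_3088 i) (Nat.ble (nat_lit 3076) i)) (Nat.ble (nat_lit 3065) i)) (@Bool.rec (fun _ => ℕ) (@Bool.rec (fun _ => ℕ) (t3088_3099 i) (t3099_3111 i) (Nat.ble (nat_lit 3099) i)) (@Bool.rec (fun _ => ℕ) (t3111_3122 i) (t3122_3134 i) (Nat.ble (nat_lit 3122) i)) (Nat.ble (nat_lit 3111) i)) (Nat.ble (nat_lit 3088) i))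
noncomputable def t3137_3139 (i : ℕ) : ℕ := (@Bool.rec (fun _ => ℕ) l3137 l3138 (Nat.ble (nat_lit 3138) i))
noncomputable def t3140_3142 (i : ℕ) : ℕ := (@Bool.rec (fun _ => ℕ) l3140 l3141 (Nat.ble (nat_lit 3141) i))
noncomputable def t3143_3145 (i : ℕ) : ℕ := (@Bool.rec (fun _ => ℕ) l3143 l3144 (Nat.ble (nat_lit 3144) i))
noncomputable def t3134_3145 (i : ℕ) : ℕ := (@Bool.rec (fun _ => ℕ) (@Bool.rec (fun _ => ℕ) (@Bool.rec (fun _ => ℕ) l3134 l3135 (Nat.ble (nat_lit 3135) i)) (@Bool.rec (fun _ => ℕ) l3136 (t3137_3139 i) (Nat.ble (nat_lit 3137) i)) (Nat.ble (nat_lit 3136) i)) (@Bool.rec (fun _ => ℕ) (@Bool.rec (fun _ => ℕ) l3139 (t3140_3142 i) (Nat.ble (nat_lit 3140) i)) (@Bool.rec (fun _ => ℕ) l3142 (t3143_3145 i) (Nat.ble (nat_lit 3143) i)) (Nat.ble (nat_lit 3142) i)) (Nat.ble (nat_lit 3139) i))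
noncomputable def t3146_3148 (i : ℕ) : ℕ := (@Bool.rec (fun _ => ℕ) l3146 l3147 (Nat.ble (nat_lit 3147) i))
noncomputable def t3149_3151 (i : ℕ) : ℕ := (@Bool.rec (fun _ => ℕ) l3149 l3150 (Nat.ble (nat_lit 3150) i))
noncomputable def t3152_3154 (i : ℕ) : ℕ := (@Bool.rec (fun _ => ℕ) l3152 l3153 (Nat.ble (nat_lit 3153) i))
noncomputable def t3155_3157 (i : ℕ) : ℕ := (@Bool.rec (fun _ => ℕ) l3155 l3156 (Nat.ble (nat_lit 3156) i))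
noncomputable def t3145_3157 (i : ℕ) : ℕ := (@Bool.rec (fun _ => ℕ) (@Bool.rec (fun _ => ℕ) (@Bool.rec (fun _ => ℕ) l3145 (t3146_3148 i) (Nat.ble (nat_lit 3146) i)) (@Bool.rec (fun _ => ℕ) l3148 (t3149_3151 i) (Nat.ble (nat_lit 3149) i)) (Nat.ble (nat_lit 3148) i)) (@Bool.rec (fun _ => ℕ) (@Bool.rec (fun _ => ℕ) l3151 (t3152_3154 i) (Nat.ble (nat_lit 3152) i)) (@Bool.rec (fun _ => ℕ) l3154 (t3155_3157 i) (Nat.ble (nat_lit 3155) i)) (Nat.ble (nat_lit 3154) i)) (Nat.ble (nat_lit 3151) i))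
noncomputable def t3160_3162 (i : ℕ) : ℕ := (@Bool.rec (fun _ => ℕ) l3160 l3161 (Nat.ble (nat_lit 3161) i))
noncomputable def t3163_3165 (i : ℕ) : ℕ := (@Bool.rec (fun _ => ℕ) l3163 l3164 (Nat.ble (nat_lit 3164) i))
noncomputable def t3166_3168 (i : ℕ) : ℕ := (@Bool.rec (fun _ => ℕ) l3166 l3167 (Nat.ble (nat_lit 3167) i))
noncomputable def t3157_3168 (i : ℕ) : ℕ := (@Bool.rec (fun _ => ℕ) (@Bool.rec (fun _ => ℕ) (@Bool.rec (fun _ => ℕ) l3157 l3158 (Nat.ble (nat_lit 3158) i)) (@Bool.rec (fun _ => ℕ) l3159 (t3160_3162 i) (Nat.ble (nat_lit 3160) i)) (Nat.ble (nat_lit 3159) i)) (@Bool.rec (fun _ => ℕ) (@Bool.rec (fun _ => ℕ) l3162 (t3163_3165 i) (Nat.ble (nat_lit 3163) i)) (@Bool.rec (fun _ => ℕ) l3165 (t3166_3168 i) (Nat.ble (nat_lit 3166) i)) (Nat.ble (nat_lit 3165) i)) (Nat.ble (nat_lit 3162) i))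
noncomputable def t3169_3171 (i : ℕ) : ℕ := (@Bool.rec (fun _ => ℕ) l3169 l3170 (Nat.ble (nat_lit 3170) i))
noncomputable def t3172_3174 (i : ℕ) : ℕ := (@Bool.rec (fun _ => ℕ) l3172 l3173 (Nat.ble (nat_lit 3173) i))
noncomputable def t3175_3177 (i : ℕ) : ℕ := (@Bool.rec (fun _ => ℕ) l3175 l3176 (Nat.ble (nat_lit 3176) i))
noncomputable def t3178_3180 (i : ℕ) : ℕ := (@Bool.rec (fun _ => ℕ) l3178 l3179 (Nat.ble (nat_lit 3179) i))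
noncomputable def t3168_3180 (i : ℕ) : ℕ := (@Bool.rec (fun _ => ℕ) (@Bool.rec (fun _ => ℕ) (@Bool.rec (fun _ => ℕ) l3168 (t3169_3171 i) (Nat.ble (nat_lit 3169) i)) (@Bool.rec (fun _ => ℕ) l3171 (t3172_3174 i) (Nat.ble (nat_lit 3172) i)) (Nat.ble (nat_lit 3171) i)) (@Bool.rec (fun _ => ℕ) (@Bool.rec (fun _ => ℕ) l3174 (t3175_3177 i) (Nat.ble (nat_lit 3175) i)) (@Bool.rec (fun _ => ℕ) l3177 (t3178_3180 i) (Nat.ble (nat_lit 3178) i)) (Nat.ble (nat_lit 3177) i)) (Nat.ble (nat_lit 3174) i))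
noncomputable def t3183_3185 (i : ℕ) : ℕ := (@Bool.rec (fun _ => ℕ) l3183 l3184 (Nat.ble (nat_lit 3184) i))
noncomputable def t3186_3188 (i : ℕ) : ℕ := (@Bool.rec (fun _ => ℕ) l3186 l3187 (Nat.ble (nat_lit 3187) i))
noncomputable def t3189_3191 (i : ℕ) : ℕ := (@Bool.rec (fun _ => ℕ) l3189 l3190 (Nat.ble (nat_lit 3190) i))
noncomputable def t3180_3191 (i : ℕ) : ℕ := (@Bool.rec (fun _ => ℕ) (@Bool.rec (fun _ => ℕ) (@Bool.rec (fun _ => ℕ) l3180 l3181 (Nat.ble (nat_lit 3181) i)) (@Bool.rec (fun _ => ℕ) l3182 (t3183_3185 i) (Nat.ble (nat_lit 3183) i)) (Nat.ble (nat_lit 3182) i)) (@Bool.rec (fun _ => ℕ) (@Bool.rec (fun _ => ℕ) l3185 (t3186_3188 i) (Nat.ble (nat_lit 3186) i)) (@Bool.rec (fun _ => ℕ) l3188 (t3189_3191 i) (Nat.ble (nat_lit 3189) i)) (Nat.ble (nat_lit 3188) i)) (Nat.ble (nat_lit 3185) i))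
noncomputable def t3192_3194 (i : ℕ) : ℕ := (@Bool.rec (fun _ => ℕ) l3192 l3193 (Nat.ble (nat_lit 3193) i))
noncomputable def t3195_3197 (i : ℕ) : ℕ := (@Bool.rec (fun _ => ℕ) l3195 l3196 (Nat.ble (nat_lit 3196) i))
noncomputable def t3198_3200 (i : ℕ) : ℕ := (@Bool.rec (fun _ => ℕ) l3198 l3199 (Nat.ble (nat_lit 3199) i))
noncomputable def t3201_3203 (i : ℕ) : ℕ := (@Bool.rec (fun _ => ℕ) l3201 l3202 (Nat.ble (nat_lit 3202) i))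
noncomputable def t3191_3203 (i : ℕ) : ℕ := (@Bool.rec (fun _ => ℕ) (@Bool.rec (fun _ => ℕ) (@Bool.rec (fun _ => ℕ) l3191 (t3192_3194 i) (Nat.ble (nat_lit 3192) i)) (@Bool.rec (fun _ => ℕ) l3194 (t3195_3197 i) (Nat.ble (nat_lit 3195) i)) (Nat.ble (nat_lit 3194) i)) (@Bool.rec (fun _ => ℕ) (@Bool.rec (fun _ => ℕ) l3197 (t3198_3200 i) (Nat.ble (nat_lit 3198) i)) (@Bool.rec (fun _ => ℕ) l3200 (t3201_3203 i) (Nat.ble (nat_lit 3201) i)) (Nat.ble (nat_lit 3200) i)) (Nat.ble (nat_lit 3197) i))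
noncomputable def t3206_3208 (i : ℕ) : ℕ := (@Bool.rec (fun _ => ℕ) l3206 l3207 (Nat.ble (nat_lit 3207) i))
noncomputable def t3209_3211 (i : ℕ) : ℕ := (@Bool.rec (fun _ => ℕ) l3209 l3210 (Nat.ble (nat_lit 3210) i))
noncomputable def t3212_3214 (i : ℕ) : ℕ := (@Bool.rec (fun _ => ℕ) l3212 l3213 (Nat.ble (nat_lit 3213) i))
noncomputable def t3203_3214 (i : ℕ) : ℕ := (@Bool.rec (fun _ => ℕ) (@Bool.rec (fun _ => ℕ) (@Bool.rec (fun _ => ℕ) l3203 l3204 (Nat.ble (nat_lit 3204) i)) (@Bool.rec (fun _ => ℕ) l3205 (t3206_3208 i) (Nat.ble (nat_lit 3206) i)) (Nat.ble (nat_lit 3205) i)) (@Bool.rec (fun _ => ℕ) (@Bool.rec (fun _ => ℕ) l3208 (t3209_3211 i) (Nat.ble (nat_lit 3209) i)) (@Bool.rec (fun _ => ℕ) l3211 (t3212_3214 i) (Nat.ble (nat_lit 3212) i)) (Nat.ble (nat_lit 3211) i)) (Nat.ble (nat_lit 3208) i))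
noncomputable def t3215_3217 (i : ℕ) : ℕ := (@Bool.rec (fun _ => ℕ) l3215 l3216 (Nat.ble (nat_lit 3216) i))
noncomputable def t3218_3220 (i : ℕ) : ℕ := (@Bool.rec (fun _ => ℕ) l3218 l3219 (Nat.ble (nat_lit 3219) i))
noncomputable def t3221_3223 (i : ℕ) : ℕ := (@Bool.rec (fun _ => ℕ) l3221 l3222 (Nat.ble (nat_lit 3222) i))
noncomputable def t3224_3226 (i : ℕ) : ℕ := (@Bool.rec (fun _ => ℕ) l3224 l3225 (Nat.ble (nat_lit 3225) i))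
noncomputable def t3214_3226 (i : ℕ) : ℕ := (@Bool.rec (fun _ => ℕ) (@Bool.rec (fun _ => ℕ) (@Bool.rec (fun _ => ℕ) l3214 (t3215_3217 i) (Nat.ble (nat_lit 3215) i)) (@Bool.rec (fun _ => ℕ) l3217 (t3218_3220 i) (Nat.ble (nat_lit 3218) i)) (Nat.ble (nat_lit 3217) i)) (@Bool.rec (fun _ => ℕ) (@Bool.rec (fun _ => ℕ) l3220 (t3221_3223 i) (Nat.ble (nat_lit 3221) i)) (@Bool.rec (fun _ => ℕ) l3223 (t3224_3226 i) (Nat.ble (nat_lit 3224) i)) (Nat.ble (nat_lit 3223) i)) (Nat.ble (nat_lit 3220) i))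
noncomputable def t3134_3226 (i : ℕ) : ℕ := (@Bool.rec (fun _ => ℕ) (@Bool.rec (fun _ => ℕ) (@Bool.rec (fun _ => ℕ) (t3134_3145 i) (t3145_3157 i) (Nat.ble (nat_lit 3145) i)) (@Bool.rec (fun _ => ℕ) (t3157_3168 i) (t3168_3180 i) (Nat.ble (nat_lit 3168) i)) (Nat.ble (nat_lit 3157) i)) (@Bool.rec (fun _ => ℕ) (@Bool.rec (fun _ => ℕ) (t3180_3191 i) (t3191_3203 i) (Nat.ble (nat_lit 3191) i)) (@Bool.rec (fun _ => ℕ) (t3203_3214 i) (t3214_3226 i) (Nat.ble (nat_lit 3214) i)) (Nat.ble (nat_lit 3203) i)) (Nat.ble (nat_lit 3180) i))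
noncomputable def t3229_3231 (i : ℕ) : ℕ := (@Bool.rec (fun _ => ℕ) l3229 l3230 (Nat.ble (nat_lit 3230) i))
noncomputable def t3232_3234 (i : ℕ) : ℕ := (@Bool.rec (fun _ => ℕ) l3232 l3233 (Nat.ble (nat_lit 3233) i))
noncomputable def t3235_3237 (i : ℕ) : ℕ := (@Bool.rec (fun _ => ℕ) l3235 l3236 (Nat.ble (nat_lit 3236) i))
noncomputable def t3226_3237 (i : ℕ) : ℕ := (@Bool.rec (fun _ => ℕ) (@Bool.rec (fun _ => ℕ) (@Bool.rec (fun _ => ℕ) l3226 l3227 (Nat.ble (nat_lit 3227) i)) (@Bool.rec (fun _ => ℕ) l3228 (t3229_3231 i) (Nat.ble (nat_lit 3229) i)) (Nat.ble (nat_lit 3228) i)) (@Bool.rec (fun _ => ℕ) (@Bool.rec (fun _ => ℕ) l3231 (t3232_3234 i) (Nat.ble (nat_lit 3232) i)) (@Bool.rec (fun _ => ℕ) l3234 (t3235_3237 i) (Nat.ble (nat_lit 3235) i)) (Nat.ble (nat_lit 3234) i)) (Nat.ble (nat_lit 3231) i))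
noncomputable def t3238_3240 (i : ℕ) : ℕ := (@Bool.rec (fun _ => ℕ) l3238 l3239 (Nat.ble (nat_lit 3239) i))
noncomputable def t3241_3243 (i : ℕ) : ℕ := (@Bool.rec (fun _ => ℕ) l3241 l3242 (Nat.ble (nat_lit 3242) i))
noncomputable def t3244_3246 (i : ℕ) : ℕ := (@Bool.rec (fun _ => ℕ) l3244 l3245 (Nat.ble (nat_lit 3245) i))
noncomputable def t3247_3249 (i : ℕ) : ℕ := (@Bool.rec (fun _ => ℕ) l3247 l3248 (Nat.ble (nat_lit 3248) i))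
noncomputable def t3237_3249 (i : ℕ) : ℕ := (@Bool.rec (fun _ => ℕ) (@Bool.rec (fun _ => ℕ) (@Bool.rec (fun _ => ℕ) l3237 (t3238_3240 i) (Nat.ble (nat_lit 3238) i)) (@Bool.rec (fun _ => ℕ) l3240 (t3241_3243 i) (Nat.ble (nat_lit 3241) i)) (Nat.ble (nat_lit 3240) i)) (@Bool.rec (fun _ => ℕ) (@Bool.rec (fun _ => ℕ) l3243 (t3244_3246 i) (Nat.ble (nat_lit 3244) i)) (@Bool.rec (fun _ => ℕ) l3246 (t3247_3249 i) (Nat.ble (nat_lit 3247) i)) (Nat.ble (nat_lit 3246) i)) (Nat.ble (nat_lit 3243) i))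
noncomputable def t3252_3254 (i : ℕ) : ℕ := (@Bool.rec (fun _ => ℕ) l3252 l3253 (Nat.ble (nat_lit 3253) i))
noncomputable def t3255_3257 (i : ℕ) : ℕ := (@Bool.rec (fun _ => ℕ) l3255 l3256 (Nat.ble (nat_lit 3256) i))
noncomputable def t3258_3260 (i : ℕ) : ℕ := (@Bool.rec (fun _ => ℕ) l3258 l3259 (Nat.ble (nat_lit 3259) i))
noncomputable def t3249_3260 (i : ℕ) : ℕ := (@Bool.rec (fun _ => ℕ) (@Bool.rec (fun _ => ℕ) (@Bool.rec (fun _ => ℕ) l3249 l3250 (Nat.ble (nat_lit 3250) i)) (@Bool.rec (fun _ => ℕ) l3251 (t3252_3254 i) (Nat.ble (nat_lit 3252) i)) (Nat.ble (nat_lit 3251) i)) (@Bool.rec (fun _ => ℕ) (@Bool.rec (fun _ => ℕ) l3254 (t3255_3257 i) (Nat.ble (nat_lit 3255) i)) (@Bool.rec (fun _ => ℕ) l3257 (t3258_3260 i) (Nat.ble (nat_lit 3258) i)) (Nat.ble (nat_lit 3257) i)) (Nat.ble (nat_lit 3254) i))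
noncomputable def t3261_3263 (i : ℕ) : ℕ := (@Bool.rec (fun _ => ℕ) l3261 l3262 (Nat.ble (nat_lit 3262) i))
noncomputable def t3264_3266 (i : ℕ) : ℕ := (@Bool.rec (fun _ => ℕ) l3264 l3265 (Nat.ble (nat_lit 3265) i))
noncomputable def t3267_3269 (i : ℕ) : ℕ := (@Bool.rec (fun _ => ℕ) l3267 l3268 (Nat.ble (nat_lit 3268) i))
noncomputable def t3270_3272 (i : ℕ) : ℕ := (@Bool.rec (fun _ => ℕ) l3270 l3271 (Nat.ble (nat_lit 3271) i))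
noncomputable def t3260_3272 (i : ℕ) : ℕ := (@Bool.rec (fun _ => ℕ) (@Bool.rec (fun _ => ℕ) (@Bool.rec (fun _ => ℕ) l3260 (t3261_3263 i) (Nat.ble (nat_lit 3261) i)) (@Bool.rec (fun _ => ℕ) l3263 (t3264_3266 i) (Nat.ble (nat_lit 3264) i)) (Nat.ble (nat_lit 3263) i)) (@Bool.rec (fun _ => ℕ) (@Bool.rec (fun _ => ℕ) l3266 (t3267_3269 i) (Nat.ble (nat_lit 3267) i)) (@Bool.rec (fun _ => ℕ) l3269 (t3270_3272 i) (Nat.ble (nat_lit 3270) i)) (Nat.ble (nat_lit 3269) i)) (Nat.ble (nat_lit 3266) i))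
noncomputable def t3275_3277 (i : ℕ) : ℕ := (@Bool.rec (fun _ => ℕ) l3275 l3276 (Nat.ble (nat_lit 3276) i))
noncomputable def t3278_3280 (i : ℕ) : ℕ := (@Bool.rec (fun _ => ℕ) l3278 l3279 (Nat.ble (nat_lit 3279) i))
noncomputable def t3281_3283 (i : ℕ) : ℕ := (@Bool.rec (fun _ => ℕ) l3281 l3282 (Nat.ble (nat_lit 3282) i))
noncomputable def t3272_3283 (i : ℕ) : ℕ := (@Bool.rec (fun _ => ℕ) (@Bool.rec (fun _ => ℕ) (@Bool.rec (fun _ => ℕ) l3272 l3273 (Nat.ble (nat_lit 3273) i)) (@Bool.rec (fun _ => ℕ) l3274 (t3275_3277 i) (Nat.ble (nat_lit 3275) i)) (Nat.ble (nat_lit 3274) i)) (@Bool.rec (fun _ => ℕ) (@Bool.rec (fun _ => ℕ) l3277 (t3278_3280 i) (Nat.ble (nat_lit 3278) i)) (@Bool.rec (fun _ => ℕ) l3280 (t3281_3283 i) (Nat.ble (nat_lit 3281) i)) (Nat.ble (nat_lit 3280) i)) (Nat.ble (nat_lit 3277) i))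
noncomputable def t3284_3286 (i : ℕ) : ℕ := (@Bool.rec (fun _ => ℕ) l3284 l3285 (Nat.ble (nat_lit 3285) i))
noncomputable def t3287_3289 (i : ℕ) : ℕ := (@Bool.rec (fun _ => ℕ) l3287 l3288 (Nat.ble (nat_lit 3288) i))
noncomputable def t3290_3292 (i : ℕ) : ℕ := (@Bool.rec (fun _ => ℕ) l3290 l3291 (Nat.ble (nat_lit 3291) i))
noncomputable def t3293_3295 (i : ℕ) : ℕ := (@Bool.rec (fun _ => ℕ) l3293 l3294 (Nat.ble (nat_lit 3294) i))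
noncomputable def t3283_3295 (i : ℕ) : ℕ := (@Bool.rec (fun _ => ℕ) (@Bool.rec (fun _ => ℕ) (@Bool.rec (fun _ => ℕ) l3283 (t3284_3286 i) (Nat.ble (nat_lit 3284) i)) (@Bool.rec (fun _ => ℕ) l3286 (t3287_3289 i) (Nat.ble (nat_lit 3287) i)) (Nat.ble (nat_lit 3286) i)) (@Bool.rec (fun _ => ℕ) (@Bool.rec (fun _ => ℕ) l3289 (t3290_3292 i) (Nat.ble (nat_lit 3290) i)) (@Bool.rec (fun _ => ℕ) l3292 (t3293_3295 i) (Nat.ble (nat_lit 3293) i)) (Nat.ble (nat_lit 3292) i)) (Nat.ble (nat_lit 3289) i))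
noncomputable def t3298_3300 (i : ℕ) : ℕ := (@Bool.rec (fun _ => ℕ) l3298 l3299 (Nat.ble (nat_lit 3299) i))
noncomputable def t3301_3303 (i : ℕ) : ℕ := (@Bool.rec (fun _ => ℕ) l3301 l3302 (Nat.ble (nat_lit 3302) i))
noncomputable def t3304_3306 (i : ℕ) : ℕ := (@Bool.rec (fun _ => ℕ) l3304 l3305 (Nat.ble (nat_lit 3305) i))
noncomputable def t3295_3306 (i : ℕ) : ℕ := (@Bool.rec (fun _ => ℕ) (@Bool.rec (fun _ => ℕ) (@Bool.rec (fun _ => ℕ) l3295 l3296 (Nat.ble (nat_lit 3296) i)) (@Bool.rec (fun _ => ℕ) l3297 (t3298_3300 i) (Nat.ble (nat_lit 3298) i)) (Nat.ble (nat_lit 3297) i)) (@Bool.rec (fun _ => ℕ) (@Bool.rec (fun _ => ℕ) l3300 (t3301_3303 i) (Nat.ble (nat_lit 3301) i)) (@Bool.rec (fun _ => ℕ) l3303 (t3304_3306 i) (Nat.ble (nat_lit 3304) i)) (Nat.ble (nat_lit 3303) i)) (Nat.ble (nat_lit 3300) i))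
noncomputable def t3307_3309 (i : ℕ) : ℕ := (@Bool.rec (fun _ => ℕ) l3307 l3308 (Nat.ble (nat_lit 3308) i))
noncomputable def t3310_3312 (i : ℕ) : ℕ := (@Bool.rec (fun _ => ℕ) l3310 l3311 (Nat.ble (nat_lit 3311) i))
noncomputable def t3313_3315 (i : ℕ) : ℕ := (@Bool.rec (fun _ => ℕ) l3313 l3314 (Nat.ble (nat_lit 3314) i))
noncomputable def t3316_3318 (i : ℕ) : ℕ := (@Bool.rec (fun _ => ℕ) l3316 l3317 (Nat.ble (nat_lit 3317) i))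
noncomputable def t3306_3318 (i : ℕ) : ℕ := (@Bool.rec (fun _ => ℕ) (@Bool.rec (fun _ => ℕ) (@Bool.rec (fun _ => ℕ) l3306 (t3307_3309 i) (Nat.ble (nat_lit 3307) i)) (@Bool.rec (fun _ => ℕ) l3309 (t3310_3312 i) (Nat.ble (nat_lit 3310) i)) (Nat.ble (nat_lit 3309) i)) (@Bool.rec (fun _ => ℕ) (@Bool.rec (fun _ => ℕ) l3312 (t3313_3315 i) (Nat.ble (nat_lit 3313) i)) (@Bool.rec (fun _ => ℕ) l3315 (t3316_3318 i) (Nat.ble (nat_lit 3316) i)) (Nat.ble (nat_lit 3315) i)) (Nat.ble (nat_lit 3312) i))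
noncomputable def t3226_3318 (i : ℕ) : ℕ := (@Bool.rec (fun _ => ℕ) (@Bool.rec (fun _ => ℕ) (@Bool.rec (fun _ => ℕ) (t3226_3237 i) (t3237_3249 i) (Nat.ble (nat_lit 3237) i)) (@Bool.rec (fun _ => ℕ) (t3249_3260 i) (t3260_3272 i) (Nat.ble (nat_lit 3260) i)) (Nat.ble (nat_lit 3249) i)) (@Bool.rec (fun _ => ℕ) (@Bool.rec (fun _ => ℕ) (t3272_3283 i) (t3283_3295 i) (Nat.ble (nat_lit 3283) i)) (@Bool.rec (fun _ => ℕ) (t3295_3306 i) (t3306_3318 i) (Nat.ble (nat_lit 3306) i)) (Nat.ble (nat_lit 3295) i)) (Nat.ble (nat_lit 3272) i))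
noncomputable def t3321_3323 (i : ℕ) : ℕ := (@Bool.rec (fun _ => ℕ) l3321 l3322 (Nat.ble (nat_lit 3322) i))
noncomputable def t3324_3326 (i : ℕ) : ℕ := (@Bool.rec (fun _ => ℕ) l3324 l3325 (Nat.ble (nat_lit 3325) i))
noncomputable def t3327_3329 (i : ℕ) : ℕ := (@Bool.rec (fun _ => ℕ) l3327 l3328 (Nat.ble (nat_lit 3328) i))
noncomputable def t3318_3329 (i : ℕ) : ℕ := (@Bool.rec (fun _ => ℕ) (@Bool.rec (fun _ => ℕ) (@Bool.rec (fun _ => ℕ) l3318 l3319 (Nat.ble (nat_lit 3319) i)) (@Bool.rec (fun _ => ℕ) l3320 (t3321_3323 i) (Nat.ble (nat_lit 3321) i)) (Nat.ble (nat_lit 3320) i)) (@Bool.rec (fun _ => ℕ) (@Bool.rec (fun _ => ℕ) l3323 (t3324_3326 i) (Nat.ble (nat_lit 3324) i)) (@Bool.rec (fun _ => ℕ) l3326 (t3327_3329 i) (Nat.ble (nat_lit 3327) i)) (Nat.ble (nat_lit 3326) i)) (Nat.ble (nat_lit 3323) i))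
noncomputable def t3330_3332 (i : ℕ) : ℕ := (@Bool.rec (fun _ => ℕ) l3330 l3331 (Nat.ble (nat_lit 3331) i))
noncomputable def t3333_3335 (i : ℕ) : ℕ := (@Bool.rec (fun _ => ℕ) l3333 l3334 (Nat.ble (nat_lit 3334) i))
noncomputable def t3336_3338 (i : ℕ) : ℕ := (@Bool.rec (fun _ => ℕ) l3336 l3337 (Nat.ble (nat_lit 3337) i))
noncomputable def t3339_3341 (i : ℕ) : ℕ := (@Bool.rec (fun _ => ℕ) l3339 l3340 (Nat.ble (nat_lit 3340) i))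
noncomputable def t3329_3341 (i : ℕ) : ℕ := (@Bool.rec (fun _ => ℕ) (@Bool.rec (fun _ => ℕ) (@Bool.rec (fun _ => ℕ) l3329 (t3330_3332 i) (Nat.ble (nat_lit 3330) i)) (@Bool.rec (fun _ => ℕ) l3332 (t3333_3335 i) (Nat.ble (nat_lit 3333) i)) (Nat.ble (nat_lit 3332) i)) (@Bool.rec (fun _ => ℕ) (@Bool.rec (fun _ => ℕ) l3335 (t3336_3338 i) (Nat.ble (nat_lit 3336) i)) (@Bool.rec (fun _ => ℕ) l3338 (t3339_3341 i) (Nat.ble (nat_lit 3339) i)) (Nat.ble (nat_lit 3338) i)) (Nat.ble (nat_lit 3335) i))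
noncomputable def t3344_3346 (i : ℕ) : ℕ := (@Bool.rec (fun _ => ℕ) l3344 l3345 (Nat.ble (nat_lit 3345) i))
noncomputable def t3347_3349 (i : ℕ) : ℕ := (@Bool.rec (fun _ => ℕ) l3347 l3348 (Nat.ble (nat_lit 3348) i))
noncomputable def t3350_3352 (i : ℕ) : ℕ := (@Bool.rec (fun _ => ℕ) l3350 l3351 (Nat.ble (nat_lit 3351) i))
noncomputable def t3341_3352 (i : ℕ) : ℕ := (@Bool.rec (fun _ => ℕ) (@Bool.rec (fun _ => ℕ) (@Bool.rec (fun _ => ℕ) l3341 l3342 (Nat.ble (nat_lit 3342) i)) (@Bool.rec (fun _ => ℕ) l3343 (t3344_3346 i) (Nat.ble (nat_lit 3344) i)) (Nat.ble (nat_lit 3343) i)) (@Bool.rec (fun _ => ℕ) (@Bool.rec (fun _ => ℕ) l3346 (t3347_3349 i) (Nat.ble (nat_lit 3347) i)) (@Bool.rec (fun _ => ℕ) l3349 (t3350_3352 i) (Nat.ble (nat_lit 3350) i)) (Nat.ble (nat_lit 3349) i)) (Nat.ble (nat_lit 3346) i))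
noncomputable def t3353_3355 (i : ℕ) : ℕ := (@Bool.rec (fun _ => ℕ) l3353 l3354 (Nat.ble (nat_lit 3354) i))
noncomputable def t3356_3358 (i : ℕ) : ℕ := (@Bool.rec (fun _ => ℕ) l3356 l3357 (Nat.ble (nat_lit 3357) i))
noncomputable def t3359_3361 (i : ℕ) : ℕ := (@Bool.rec (fun _ => ℕ) l3359 l3360 (Nat.ble (nat_lit 3360) i))
noncomputable def t3362_3364 (i : ℕ) : ℕ := (@Bool.rec (fun _ => ℕ) l3362 l3363 (Nat.ble (nat_lit 3363) i))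
noncomputable def t3352_3364 (i : ℕ) : ℕ := (@Bool.rec (fun _ => ℕ) (@Bool.rec (fun _ => ℕ) (@Bool.rec (fun _ => ℕ) l3352 (t3353_3355 i) (Nat.ble (nat_lit 3353) i)) (@Bool.rec (fun _ => ℕ) l3355 (t3356_3358 i) (Nat.ble (nat_lit 3356) i)) (Nat.ble (nat_lit 3355) i)) (@Bool.rec (fun _ => ℕ) (@Bool.rec (fun _ => ℕ) l3358 (t3359_3361 i) (Nat.ble (nat_lit 3359) i)) (@Bool.rec (fun _ => ℕ) l3361 (t3362_3364 i) (Nat.ble (nat_lit 3362) i)) (Nat.ble (nat_lit 3361) i)) (Nat.ble (nat_lit 3358) i))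
noncomputable def t3367_3369 (i : ℕ) : ℕ := (@Bool.rec (fun _ => ℕ) l3367 l3368 (Nat.ble (nat_lit 3368) i))
noncomputable def t3370_3372 (i : ℕ) : ℕ := (@Bool.rec (fun _ => ℕ) l3370 l3371 (Nat.ble (nat_lit 3371) i))
noncomputable def t3373_3375 (i : ℕ) : ℕ := (@Bool.rec (fun _ => ℕ) l3373 l3374 (Nat.ble (nat_lit 3374) i))
noncomputable def t3364_3375 (i : ℕ) : ℕ := (@Bool.rec (fun _ => ℕ) (@Bool.rec (fun _ => ℕ) (@Bool.rec (fun _ => ℕ) l3364 l3365 (Nat.ble (nat_lit 3365) i)) (@Bool.rec (fun _ => ℕ) l3366 (t3367_3369 i) (Nat.ble (nat_lit 3367) i)) (Nat.ble (nat_lit 3366) i)) (@Bool.rec (fun _ => ℕ) (@Bool.rec (fun _ => ℕ) l3369 (t3370_3372 i) (Nat.ble (nat_lit 3370) i)) (@Bool.rec (fun _ => ℕ) l3372 (t3373_3375 i) (Nat.ble (nat_lit 3373) i)) (Nat.ble (nat_lit 3372) i)) (Nat.ble (nat_lit 3369) i))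
noncomputable def t3376_3378 (i : ℕ) : ℕ := (@Bool.rec (fun _ => ℕ) l3376 l3377 (Nat.ble (nat_lit 3377) i))
noncomputable def t3379_3381 (i : ℕ) : ℕ := (@Bool.rec (fun _ => ℕ) l3379 l3380 (Nat.ble (nat_lit 3380) i))
noncomputable def t3382_3384 (i : ℕ) : ℕ := (@Bool.rec (fun _ => ℕ) l3382 l3383 (Nat.ble (nat_lit 3383) i))
noncomputable def t3385_3387 (i : ℕ) : ℕ := (@Bool.rec (fun _ => ℕ) l3385 l3386 (Nat.ble (nat_lit 3386) i))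
noncomputable def t3375_3387 (i : ℕ) : ℕ := (@Bool.rec (fun _ => ℕ) (@Bool.rec (fun _ => ℕ) (@Bool.rec (fun _ => ℕ) l3375 (t3376_3378 i) (Nat.ble (nat_lit 3376) i)) (@Bool.rec (fun _ => ℕ) l3378 (t3379_3381 i) (Nat.ble (nat_lit 3379) i)) (Nat.ble (nat_lit 3378) i)) (@Bool.rec (fun _ => ℕ) (@Bool.rec (fun _ => ℕ) l3381 (t3382_3384 i) (Nat.ble (nat_lit 3382) i)) (@Bool.rec (fun _ => ℕ) l3384 (t3385_3387 i) (Nat.ble (nat_lit 3385) i)) (Nat.ble (nat_lit 3384) i)) (Nat.ble (nat_lit 3381) i))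
noncomputable def t3390_3392 (i : ℕ) : ℕ := (@Bool.rec (fun _ => ℕ) l3390 l3391 (Nat.ble (nat_lit 3391) i))
noncomputable def t3393_3395 (i : ℕ) : ℕ := (@Bool.rec (fun _ => ℕ) l3393 l3394 (Nat.ble (nat_lit 3394) i))
noncomputable def t3396_3398 (i : ℕ) : ℕ := (@Bool.rec (fun _ => ℕ) l3396 l3397 (Nat.ble (nat_lit 3397) i))
noncomputable def t3387_3398 (i : ℕ) : ℕ := (@Bool.rec (fun _ => ℕ) (@Bool.rec (fun _ => ℕ) (@Bool.rec (fun _ => ℕ) l3387 l3388 (Nat.ble (nat_lit 3388) i)) (@Bool.rec (fun _ => ℕ) l3389 (t3390_3392 i) (Nat.ble (nat_lit 3390) i)) (Nat.ble (nat_lit 3389) i)) (@Bool.rec (fun _ => ℕ) (@Bool.rec (fun _ => ℕ) l3392 (t3393_3395 i) (Nat.ble (nat_lit 3393) i)) (@Bool.rec (fun _ => ℕ) l3395 (t3396_3398 i) (Nat.ble (nat_lit 3396) i)) (Nat.ble (nat_lit 3395) i)) (Nat.ble (nat_lit 3392) i))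
noncomputable def t3399_3401 (i : ℕ) : ℕ := (@Bool.rec (fun _ => ℕ) l3399 l3400 (Nat.ble (nat_lit 3400) i))
noncomputable def t3402_3404 (i : ℕ) : ℕ := (@Bool.rec (fun _ => ℕ) l3402 l3403 (Nat.ble (nat_lit 3403) i))
noncomputable def t3405_3407 (i : ℕ) : ℕ := (@Bool.rec (fun _ => ℕ) l3405 l3406 (Nat.ble (nat_lit 3406) i))
noncomputable def t3408_3410 (i : ℕ) : ℕ := (@Bool.rec (fun _ => ℕ) l3408 l3409 (Nat.ble (nat_lit 3409) i))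
noncomputable def t3398_3410 (i : ℕ) : ℕ := (@Bool.rec (fun _ => ℕ) (@Bool.rec (fun _ => ℕ) (@Bool.rec (fun _ => ℕ) l3398 (t3399_3401 i) (Nat.ble (nat_lit 3399) i)) (@Bool.rec (fun _ => ℕ) l3401 (t3402_3404 i) (Nat.ble (nat_lit 3402) i)) (Nat.ble (nat_lit 3401) i)) (@Bool.rec (fun _ => ℕ) (@Bool.rec (fun _ => ℕ) l3404 (t3405_3407 i) (Nat.ble (nat_lit 3405) i)) (@Bool.rec (fun _ => ℕ) l3407 (t3408_3410 i) (Nat.ble (nat_lit 3408) i)) (Nat.ble (nat_lit 3407) i)) (Nat.ble (nat_lit 3404) i))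
noncomputable def t3318_3410 (i : ℕ) : ℕ := (@Bool.rec (fun _ => ℕ) (@Bool.rec (fun _ => ℕ) (@Bool.rec (fun _ => ℕ) (t3318_3329 i) (t3329_3341 i) (Nat.ble (nat_lit 3329) i)) (@Bool.rec (fun _ => ℕ) (t3341_3352 i) (t3352_3364 i) (Nat.ble (nat_lit 3352) i)) (Nat.ble (nat_lit 3341) i)) (@Bool.rec (fun _ => ℕ) (@Bool.rec (fun _ => ℕ) (t3364_3375 i) (t3375_3387 i) (Nat.ble (nat_lit 3375) i)) (@Bool.rec (fun _ => ℕ) (t3387_3398 i) (t3398_3410 i) (Nat.ble (nat_lit 3398) i)) (Nat.ble (nat_lit 3387) i)) (Nat.ble (nat_lit 3364) i))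
noncomputable def t3413_3415 (i : ℕ) : ℕ := (@Bool.rec (fun _ => ℕ) l3413 l3414 (Nat.ble (nat_lit 3414) i))
noncomputable def t3416_3418 (i : ℕ) : ℕ := (@Bool.rec (fun _ => ℕ) l3416 l3417 (Nat.ble (nat_lit 3417) i))
noncomputable def t3419_3421 (i : ℕ) : ℕ := (@Bool.rec (fun _ => ℕ) l3419 l3420 (Nat.ble (nat_lit 3420) i))
noncomputable def t3410_3421 (i : ℕ) : ℕ := (@Bool.rec (fun _ => ℕ) (@Bool.rec (fun _ => ℕ) (@Bool.rec (fun _ => ℕ) l3410 l3411 (Nat.ble (nat_lit 3411) i)) (@Bool.rec (fun _ => ℕ) l3412 (t3413_3415 i) (Nat.ble (nat_lit 3413) i)) (Nat.ble (nat_lit 3412) i)) (@Bool.rec (fun _ => ℕ) (@Bool.rec (fun _ => ℕ) l3415 (t3416_3418 i) (Nat.ble (nat_lit 3416) i)) (@Bool.rec (fun _ => ℕ) l3418 (t3419_3421 i) (Nat.ble (nat_lit 3419) i)) (Nat.ble (nat_lit 3418) i)) (Nat.ble (nat_lit 3415) i))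
noncomputable def t3422_3424 (i : ℕ) : ℕ := (@Bool.rec (fun _ => ℕ) l3422 l3423 (Nat.ble (nat_lit 3423) i))
noncomputable def t3425_3427 (i : ℕ) : ℕ := (@Bool.rec (fun _ => ℕ) l3425 l3426 (Nat.ble (nat_lit 3426) i))
noncomputable def t3428_3430 (i : ℕ) : ℕ := (@Bool.rec (fun _ => ℕ) l3428 l3429 (Nat.ble (nat_lit 3429) i))
noncomputable def t3431_3433 (i : ℕ) : ℕ := (@Bool.rec (fun _ => ℕ) l3431 l3432 (Nat.ble (nat_lit 3432) i))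
noncomputable def t3421_3433 (i : ℕ) : ℕ := (@Bool.rec (fun _ => ℕ) (@Bool.rec (fun _ => ℕ) (@Bool.rec (fun _ => ℕ) l3421 (t3422_3424 i) (Nat.ble (nat_lit 3422) i)) (@Bool.rec (fun _ => ℕ) l3424 (t3425_3427 i) (Nat.ble (nat_lit 3425) i)) (Nat.ble (nat_lit 3424) i)) (@Bool.rec (fun _ => ℕ) (@Bool.rec (fun _ => ℕ) l3427 (t3428_3430 i) (Nat.ble (nat_lit 3428) i)) (@Bool.rec (fun _ => ℕ) l3430 (t3431_3433 i) (Nat.ble (nat_lit 3431) i)) (Nat.ble (nat_lit 3430) i)) (Nat.ble (nat_lit 3427) i))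
noncomputable def t3436_3438 (i : ℕ) : ℕ := (@Bool.rec (fun _ => ℕ) l3436 l3437 (Nat.ble (nat_lit 3437) i))
noncomputable def t3439_3441 (i : ℕ) : ℕ := (@Bool.rec (fun _ => ℕ) l3439 l3440 (Nat.ble (nat_lit 3440) i))
noncomputable def t3442_3444 (i : ℕ) : ℕ := (@Bool.rec (fun _ => ℕ) l3442 l3443 (Nat.ble (nat_lit 3443) i))
noncomputable def t3433_3444 (i : ℕ) : ℕ := (@Bool.rec (fun _ => ℕ) (@Bool.rec (fun _ => ℕ) (@Bool.rec (fun _ => ℕ) l3433 l3434 (Nat.ble (nat_lit 3434) i)) (@Bool.rec (fun _ => ℕ) l3435 (t3436_3438 i) (Nat.ble (nat_lit 3436) i)) (Nat.ble (nat_lit 3435) i)) (@Bool.rec (fun _ => ℕ) (@Bool.rec (fun _ => ℕ) l3438 (t3439_3441 i) (Nat.ble (nat_lit 3439) i)) (@Bool.rec (fun _ => ℕ) l3441 (t3442_3444 i) (Nat.ble (nat_lit 3442) i)) (Nat.ble (nat_lit 3441) i)) (Nat.ble (nat_lit 3438) i))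
noncomputable def t3445_3447 (i : ℕ) : ℕ := (@Bool.rec (fun _ => ℕ) l3445 l3446 (Nat.ble (nat_lit 3446) i))
noncomputable def t3448_3450 (i : ℕ) : ℕ := (@Bool.rec (fun _ => ℕ) l3448 l3449 (Nat.ble (nat_lit 3449) i))
noncomputable def t3451_3453 (i : ℕ) : ℕ := (@Bool.rec (fun _ => ℕ) l3451 l3452 (Nat.ble (nat_lit 3452) i))
noncomputable def t3454_3456 (i : ℕ) : ℕ := (@Bool.rec (fun _ => ℕ) l3454 l3455 (Nat.ble (nat_lit 3455) i))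
noncomputable def t3444_3456 (i : ℕ) : ℕ := (@Bool.rec (fun _ => ℕ) (@Bool.rec (fun _ => ℕ) (@Bool.rec (fun _ => ℕ) l3444 (t3445_3447 i) (Nat.ble (nat_lit 3445) i)) (@Bool.rec (fun _ => ℕ) l3447 (t3448_3450 i) (Nat.ble (nat_lit 3448) i)) (Nat.ble (nat_lit 3447) i)) (@Bool.rec (fun _ => ℕ) (@Bool.rec (fun _ => ℕ) l3450 (t3451_3453 i) (Nat.ble (nat_lit 3451) i)) (@Bool.rec (fun _ => ℕ) l3453 (t3454_3456 i) (Nat.ble (nat_lit 3454) i)) (Nat.ble (nat_lit 3453) i)) (Nat.ble (nat_lit 3450) i))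
noncomputable def t3459_3461 (i : ℕ) : ℕ := (@Bool.rec (fun _ => ℕ) l3459 l3460 (Nat.ble (nat_lit 3460) i))
noncomputable def t3462_3464 (i : ℕ) : ℕ := (@Bool.rec (fun _ => ℕ) l3462 l3463 (Nat.ble (nat_lit 3463) i))
noncomputable def t3465_3467 (i : ℕ) : ℕ := (@Bool.rec (fun _ => ℕ) l3465 l3466 (Nat.ble (nat_lit 3466) i))
noncomputable def t3456_3467 (i : ℕ) : ℕ := (@Bool.rec (fun _ => ℕ) (@Bool.rec (fun _ => ℕ) (@Bool.rec (fun _ => ℕ) l3456 l3457 (Nat.ble (nat_lit 3457) i)) (@Bool.rec (fun _ => ℕ) l3458 (t3459_3461 i) (Nat.ble (nat_lit 3459) i)) (Nat.ble (nat_lit 3458) i)) (@Bool.rec (fun _ => ℕ) (@Bool.rec (fun _ => ℕ) l3461 (t3462_3464 i) (Nat.ble (nat_lit 3462) i)) (@Bool.rec (fun _ => ℕ) l3464 (t3465_3467 i) (Nat.ble (nat_lit 3465) i)) (Nat.ble (nat_lit 3464) i)) (Nat.ble (nat_lit 3461) i))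
noncomputable def t3468_3470 (i : ℕ) : ℕ := (@Bool.rec (fun _ => ℕ) l3468 l3469 (Nat.ble (nat_lit 3469) i))
noncomputable def t3471_3473 (i : ℕ) : ℕ := (@Bool.rec (fun _ => ℕ) l3471 l3472 (Nat.ble (nat_lit 3472) i))
noncomputable def t3474_3476 (i : ℕ) : ℕ := (@Bool.rec (fun _ => ℕ) l3474 l3475 (Nat.ble (nat_lit 3475) i))
noncomputable def t3477_3479 (i : ℕ) : ℕ := (@Bool.rec (fun _ => ℕ) l3477 l3478 (Nat.ble (nat_lit 3478) i))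
noncomputable def t3467_3479 (i : ℕ) : ℕ := (@Bool.rec (fun _ => ℕ) (@Bool.rec (fun _ => ℕ) (@Bool.rec (fun _ => ℕ) l3467 (t3468_3470 i) (Nat.ble (nat_lit 3468) i)) (@Bool.rec (fun _ => ℕ) l3470 (t3471_3473 i) (Nat.ble (nat_lit 3471) i)) (Nat.ble (nat_lit 3470) i)) (@Bool.rec (fun _ => ℕ) (@Bool.rec (fun _ => ℕ) l3473 (t3474_3476 i) (Nat.ble (nat_lit 3474) i)) (@Bool.rec (fun _ => ℕ) l3476 (t3477_3479 i) (Nat.ble (nat_lit 3477) i)) (Nat.ble (nat_lit 3476) i)) (Nat.ble (nat_lit 3473) i))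
noncomputable def t3482_3484 (i : ℕ) : ℕ := (@Bool.rec (fun _ => ℕ) l3482 l3483 (Nat.ble (nat_lit 3483) i))
noncomputable def t3485_3487 (i : ℕ) : ℕ := (@Bool.rec (fun _ => ℕ) l3485 l3486 (Nat.ble (nat_lit 3486) i))
noncomputable def t3488_3490 (i : ℕ) : ℕ := (@Bool.rec (fun _ => ℕ) l3488 l3489 (Nat.ble (nat_lit 3489) i))
noncomputable def t3479_3490 (i : ℕ) : ℕ := (@Bool.rec (fun _ => ℕ) (@Bool.rec (fun _ => ℕ) (@Bool.rec (fun _ => ℕ) l3479 l3480 (Nat.ble (nat_lit 3480) i)) (@Bool.rec (fun _ => ℕ) l3481 (t3482_3484 i) (Nat.ble (nat_lit 3482) i)) (Nat.ble (nat_lit 3481) i)) (@Bool.rec (fun _ => ℕ) (@Bool.rec (fun _ => ℕ) l3484 (t3485_3487 i) (Nat.ble (nat_lit 3485) i)) (@Bool.rec (fun _ => ℕ) l3487 (t3488_3490 i) (Nat.ble (nat_lit 3488) i)) (Nat.ble (nat_lit 3487) i)) (Nat.ble (nat_lit 3484) i))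
noncomputable def t3491_3493 (i : ℕ) : ℕ := (@Bool.rec (fun _ => ℕ) l3491 l3492 (Nat.ble (nat_lit 3492) i))
noncomputable def t3494_3496 (i : ℕ) : ℕ := (@Bool.rec (fun _ => ℕ) l3494 l3495 (Nat.ble (nat_lit 3495) i))
noncomputable def t3497_3499 (i : ℕ) : ℕ := (@Bool.rec (fun _ => ℕ) l3497 l3498 (Nat.ble (nat_lit 3498) i))
noncomputable def t3500_3502 (i : ℕ) : ℕ := (@Bool.rec (fun _ => ℕ) l3500 l3501 (Nat.ble (nat_lit 3501) i))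
noncomputable def t3490_3502 (i : ℕ) : ℕ := (@Bool.rec (fun _ => ℕ) (@Bool.rec (fun _ => ℕ) (@Bool.rec (fun _ => ℕ) l3490 (t3491_3493 i) (Nat.ble (nat_lit 3491) i)) (@Bool.rec (fun _ => ℕ) l3493 (t3494_3496 i) (Nat.ble (nat_lit 3494) i)) (Nat.ble (nat_lit 3493) i)) (@Bool.rec (fun _ => ℕ) (@Bool.rec (fun _ => ℕ) l3496 (t3497_3499 i) (Nat.ble (nat_lit 3497) i)) (@Bool.rec (fun _ => ℕ) l3499 (t3500_3502 i) (Nat.ble (nat_lit 3500) i)) (Nat.ble (nat_lit 3499) i)) (Nat.ble (nat_lit 3496) i))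
noncomputable def t3410_3502 (i : ℕ) : ℕ := (@Bool.rec (fun _ => ℕ) (@Bool.rec (fun _ => ℕ) (@Bool.rec (fun _ => ℕ) (t3410_3421 i) (t3421_3433 i) (Nat.ble (nat_lit 3421) i)) (@Bool.rec (fun _ => ℕ) (t3433_3444 i) (t3444_3456 i) (Nat.ble (nat_lit 3444) i)) (Nat.ble (nat_lit 3433) i)) (@Bool.rec (fun _ => ℕ) (@Bool.rec (fun _ => ℕ) (t3456_3467 i) (t3467_3479 i) (Nat.ble (nat_lit 3467) i)) (@Bool.rec (fun _ => ℕ) (t3479_3490 i) (t3490_3502 i) (Nat.ble (nat_lit 3490) i)) (Nat.ble (nat_lit 3479) i)) (Nat.ble (nat_lit 3456) i))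
noncomputable def t3505_3507 (i : ℕ) : ℕ := (@Bool.rec (fun _ => ℕ) l3505 l3506 (Nat.ble (nat_lit 3506) i))
noncomputable def t3508_3510 (i : ℕ) : ℕ := (@Bool.rec (fun _ => ℕ) l3508 l3509 (Nat.ble (nat_lit 3509) i))
noncomputable def t3511_3513 (i : ℕ) : ℕ := (@Bool.rec (fun _ => ℕ) l3511 l3512 (Nat.ble (nat_lit 3512) i))
noncomputable def t3502_3513 (i : ℕ) : ℕ := (@Bool.rec (fun _ => ℕ) (@Bool.rec (fun _ => ℕ) (@Bool.rec (fun _ => ℕ) l3502 l3503 (Nat.ble (nat_lit 3503) i)) (@Bool.rec (fun _ => ℕ) l3504 (t3505_3507 i) (Nat.ble (nat_lit 3505) i)) (Nat.ble (nat_lit 3504) i)) (@Bool.rec (fun _ => ℕ) (@Bool.rec (fun _ => ℕ) l3507 (t3508_3510 i) (Nat.ble (nat_lit 3508) i)) (@Bool.rec (fun _ => ℕ) l3510 (t3511_3513 i) (Nat.ble (nat_lit 3511) i)) (Nat.ble (nat_lit 3510) i)) (Nat.ble (nat_lit 3507) i))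
noncomputable def t3514_3516 (i : ℕ) : ℕ := (@Bool.rec (fun _ => ℕ) l3514 l3515 (Nat.ble (nat_lit 3515) i))
noncomputable def t3517_3519 (i : ℕ) : ℕ := (@Bool.rec (fun _ => ℕ) l3517 l3518 (Nat.ble (nat_lit 3518) i))
noncomputable def t3520_3522 (i : ℕ) : ℕ := (@Bool.rec (fun _ => ℕ) l3520 l3521 (Nat.ble (nat_lit 3521) i))
noncomputable def t3523_3525 (i : ℕ) : ℕ := (@Bool.rec (fun _ => ℕ) l3523 l3524 (Nat.ble (nat_lit 3524) i))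
noncomputable def t3513_3525 (i : ℕ) : ℕ := (@Bool.rec (fun _ => ℕ) (@Bool.rec (fun _ => ℕ) (@Bool.rec (fun _ => ℕ) l3513 (t3514_3516 i) (Nat.ble (nat_lit 3514) i)) (@Bool.rec (fun _ => ℕ) l3516 (t3517_3519 i) (Nat.ble (nat_lit 3517) i)) (Nat.ble (nat_lit 3516) i)) (@Bool.rec (fun _ => ℕ) (@Bool.rec (fun _ => ℕ) l3519 (t3520_3522 i) (Nat.ble (nat_lit 3520) i)) (@Bool.rec (fun _ => ℕ) l3522 (t3523_3525 i) (Nat.ble (nat_lit 3523) i)) (Nat.ble (nat_lit 3522) i)) (Nat.ble (nat_lit 3519) i))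
noncomputable def t3528_3530 (i : ℕ) : ℕ := (@Bool.rec (fun _ => ℕ) l3528 l3529 (Nat.ble (nat_lit 3529) i))
noncomputable def t3531_3533 (i : ℕ) : ℕ := (@Bool.rec (fun _ => ℕ) l3531 l3532 (Nat.ble (nat_lit 3532) i))
noncomputable def t3534_3536 (i : ℕ) : ℕ := (@Bool.rec (fun _ => ℕ) l3534 l3535 (Nat.ble (nat_lit 3535) i))
noncomputable def t3525_3536 (i : ℕ) : ℕ := (@Bool.rec (fun _ => ℕ) (@Bool.rec (fun _ => ℕ) (@Bool.rec (fun _ => ℕ) l3525 l3526 (Nat.ble (nat_lit 3526) i)) (@Bool.rec (fun _ => ℕ) l3527 (t3528_3530 i) (Nat.ble (nat_lit 3528) i)) (Nat.ble (nat_lit 3527) i)) (@Bool.rec (fun _ => ℕ) (@Bool.rec (fun _ => ℕ) l3530 (t3531_3533 i) (Nat.ble (nat_lit 3531) i)) (@Bool.rec (fun _ => ℕ) l3533 (t3534_3536 i) (Nat.ble (nat_lit 3534) i)) (Nat.ble (nat_lit 3533) i)) (Nat.ble (nat_lit 3530) i))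
noncomputable def t3537_3539 (i : ℕ) : ℕ := (@Bool.rec (fun _ => ℕ) l3537 l3538 (Nat.ble (nat_lit 3538) i))
noncomputable def t3540_3542 (i : ℕ) : ℕ := (@Bool.rec (fun _ => ℕ) l3540 l3541 (Nat.ble (nat_lit 3541) i))
noncomputable def t3543_3545 (i : ℕ) : ℕ := (@Bool.rec (fun _ => ℕ) l3543 l3544 (Nat.ble (nat_lit 3544) i))
noncomputable def t3546_3548 (i : ℕ) : ℕ := (@Bool.rec (fun _ => ℕ) l3546 l3547 (Nat.ble (nat_lit 3547) i))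
noncomputable def t3536_3548 (i : ℕ) : ℕ := (@Bool.rec (fun _ => ℕ) (@Bool.rec (fun _ => ℕ) (@Bool.rec (fun _ => ℕ) l3536 (t3537_3539 i) (Nat.ble (nat_lit 3537) i)) (@Bool.rec (fun _ => ℕ) l3539 (t3540_3542 i) (Nat.ble (nat_lit 3540) i)) (Nat.ble (nat_lit 3539) i)) (@Bool.rec (fun _ => ℕ) (@Bool.rec (fun _ => ℕ) l3542 (t3543_3545 i) (Nat.ble (nat_lit 3543) i)) (@Bool.rec (fun _ => ℕ) l3545 (t3546_3548 i) (Nat.ble (nat_lit 3546) i)) (Nat.ble (nat_lit 3545) i)) (Nat.ble (nat_lit 3542) i))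
noncomputable def t3551_3553 (i : ℕ) : ℕ := (@Bool.rec (fun _ => ℕ) l3551 l3552 (Nat.ble (nat_lit 3552) i))
noncomputable def t3554_3556 (i : ℕ) : ℕ := (@Bool.rec (fun _ => ℕ) l3554 l3555 (Nat.ble (nat_lit 3555) i))
noncomputable def t3557_3559 (i : ℕ) : ℕ := (@Bool.rec (fun _ => ℕ) l3557 l3558 (Nat.ble (nat_lit 3558) i))
noncomputable def t3548_3559 (i : ℕ) : ℕ := (@Bool.rec (fun _ => ℕ) (@Bool.rec (fun _ => ℕ) (@Bool.rec (fun _ => ℕ) l3548 l3549 (Nat.ble (nat_lit 3549) i)) (@Bool.rec (fun _ => ℕ) l3550 (t3551_3553 i) (Nat.ble (nat_lit 3551) i)) (Nat.ble (nat_lit 3550) i)) (@Bool.rec (fun _ => ℕ) (@Bool.rec (fun _ => ℕ) l3553 (t3554_3556 i) (Nat.ble (nat_lit 3554) i)) (@Bool.rec (fun _ => ℕ) l3556 (t3557_3559 i) (Nat.ble (nat_lit 3557) i)) (Nat.ble (nat_lit 3556) i)) (Nat.ble (nat_lit 3553) i))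
noncomputable def t3560_3562 (i : ℕ) : ℕ := (@Bool.rec (fun _ => ℕ) l3560 l3561 (Nat.ble (nat_lit 3561) i))
noncomputable def t3563_3565 (i : ℕ) : ℕ := (@Bool.rec (fun _ => ℕ) l3563 l3564 (Nat.ble (nat_lit 3564) i))
noncomputable def t3566_3568 (i : ℕ) : ℕ := (@Bool.rec (fun _ => ℕ) l3566 l3567 (Nat.ble (nat_lit 3567) i))
noncomputable def t3569_3571 (i : ℕ) : ℕ := (@Bool.rec (fun _ => ℕ) l3569 l3570 (Nat.ble (nat_lit 3570) i))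
noncomputable def t3559_3571 (i : ℕ) : ℕ := (@Bool.rec (fun _ => ℕ) (@Bool.rec (fun _ => ℕ) (@Bool.rec (fun _ => ℕ) l3559 (t3560_3562 i) (Nat.ble (nat_lit 3560) i)) (@Bool.rec (fun _ => ℕ) l3562 (t3563_3565 i) (Nat.ble (nat_lit 3563) i)) (Nat.ble (nat_lit 3562) i)) (@Bool.rec (fun _ => ℕ) (@Bool.rec (fun _ => ℕ) l3565 (t3566_3568 i) (Nat.ble (nat_lit 3566) i)) (@Bool.rec (fun _ => ℕ) l3568 (t3569_3571 i) (Nat.ble (nat_lit 3569) i)) (Nat.ble (nat_lit 3568) i)) (Nat.ble (nat_lit 3565) i))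
noncomputable def t3574_3576 (i : ℕ) : ℕ := (@Bool.rec (fun _ => ℕ) l3574 l3575 (Nat.ble (nat_lit 3575) i))
noncomputable def t3577_3579 (i : ℕ) : ℕ := (@Bool.rec (fun _ => ℕ) l3577 l3578 (Nat.ble (nat_lit 3578) i))
noncomputable def t3580_3582 (i : ℕ) : ℕ := (@Bool.rec (fun _ => ℕ) l3580 l3581 (Nat.ble (nat_lit 3581) i))
noncomputable def t3571_3582 (i : ℕ) : ℕ := (@Bool.rec (fun _ => ℕ) (@Bool.rec (fun _ => ℕ) (@Bool.rec (fun _ => ℕ) l3571 l3572 (Nat.ble (nat_lit 3572) i)) (@Bool.rec (fun _ => ℕ) l3573 (t3574_3576 i) (Nat.ble (nat_lit 3574) i)) (Nat.ble (nat_lit 3573) i)) (@Bool.rec (fun _ => ℕ) (@Bool.rec (fun _ => ℕ) l3576 (t3577_3579 i) (Nat.ble (nat_lit 3577) i)) (@Bool.rec (fun _ => ℕ) l3579 (t3580_3582 i) (Nat.ble (nat_lit 3580) i)) (Nat.ble (nat_lit 3579) i)) (Nat.ble (nat_lit 3576) i))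
noncomputable def t3583_3585 (i : ℕ) : ℕ := (@Bool.rec (fun _ => ℕ) l3583 l3584 (Nat.ble (nat_lit 3584) i))
noncomputable def t3586_3588 (i : ℕ) : ℕ := (@Bool.rec (fun _ => ℕ) l3586 l3587 (Nat.ble (nat_lit 3587) i))
noncomputable def t3589_3591 (i : ℕ) : ℕ := (@Bool.rec (fun _ => ℕ) l3589 l3590 (Nat.ble (nat_lit 3590) i))
noncomputable def t3592_3594 (i : ℕ) : ℕ := (@Bool.rec (fun _ => ℕ) l3592 l3593 (Nat.ble (nat_lit 3593) i))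
noncomputable def t3582_3594 (i : ℕ) : ℕ := (@Bool.rec (fun _ => ℕ) (@Bool.rec (fun _ => ℕ) (@Bool.rec (fun _ => ℕ) l3582 (t3583_3585 i) (Nat.ble (nat_lit 3583) i)) (@Bool.rec (fun _ => ℕ) l3585 (t3586_3588 i) (Nat.ble (nat_lit 3586) i)) (Nat.ble (nat_lit 3585) i)) (@Bool.rec (fun _ => ℕ) (@Bool.rec (fun _ => ℕ) l3588 (t3589_3591 i) (Nat.ble (nat_lit 3589) i)) (@Bool.rec (fun _ => ℕ) l3591 (t3592_3594 i) (Nat.ble (nat_lit 3592) i)) (Nat.ble (nat_lit 3591) i)) (Nat.ble (nat_lit 3588) i))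
noncomputable def t3502_3594 (i : ℕ) : ℕ := (@Bool.rec (fun _ => ℕ) (@Bool.rec (fun _ => ℕ) (@Bool.rec (fun _ => ℕ) (t3502_3513 i) (t3513_3525 i) (Nat.ble (nat_lit 3513) i)) (@Bool.rec (fun _ => ℕ) (t3525_3536 i) (t3536_3548 i) (Nat.ble (nat_lit 3536) i)) (Nat.ble (nat_lit 3525) i)) (@Bool.rec (fun _ => ℕ) (@Bool.rec (fun _ => ℕ) (t3548_3559 i) (t3559_3571 i) (Nat.ble (nat_lit 3559) i)) (@Bool.rec (fun _ => ℕ) (t3571_3582 i) (t3582_3594 i) (Nat.ble (nat_lit 3582) i)) (Nat.ble (nat_lit 3571) i)) (Nat.ble (nat_lit 3548) i))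
noncomputable def t3597_3599 (i : ℕ) : ℕ := (@Bool.rec (fun _ => ℕ) l3597 l3598 (Nat.ble (nat_lit 3598) i))
noncomputable def t3600_3602 (i : ℕ) : ℕ := (@Bool.rec (fun _ => ℕ) l3600 l3601 (Nat.ble (nat_lit 3601) i))
noncomputable def t3603_3605 (i : ℕ) : ℕ := (@Bool.rec (fun _ => ℕ) l3603 l3604 (Nat.ble (nat_lit 3604) i))
noncomputable def t3594_3605 (i : ℕ) : ℕ := (@Bool.rec (fun _ => ℕ) (@Bool.rec (fun _ => ℕ) (@Bool.rec (fun _ => ℕ) l3594 l3595 (Nat.ble (nat_lit 3595) i)) (@Bool.rec (fun _ => ℕ) l3596 (t3597_3599 i) (Nat.ble (nat_lit 3597) i)) (Nat.ble (nat_lit 3596) i)) (@Bool.rec (fun _ => ℕ) (@Bool.rec (fun _ => ℕ) l3599 (t3600_3602 i) (Nat.ble (nat_lit 3600) i)) (@Bool.rec (fun _ => ℕ) l3602 (t3603_3605 i) (Nat.ble (nat_lit 3603) i)) (Nat.ble (nat_lit 3602) i)) (Nat.ble (nat_lit 3599) i))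
noncomputable def t3606_3608 (i : ℕ) : ℕ := (@Bool.rec (fun _ => ℕ) l3606 l3607 (Nat.ble (nat_lit 3607) i))
noncomputable def t3609_3611 (i : ℕ) : ℕ := (@Bool.rec (fun _ => ℕ) l3609 l3610 (Nat.ble (nat_lit 3610) i))
noncomputable def t3612_3614 (i : ℕ) : ℕ := (@Bool.rec (fun _ => ℕ) l3612 l3613 (Nat.ble (nat_lit 3613) i))
noncomputable def t3615_3617 (i : ℕ) : ℕ := (@Bool.rec (fun _ => ℕ) l3615 l3616 (Nat.ble (nat_lit 3616) i))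
noncomputable def t3605_3617 (i : ℕ) : ℕ := (@Bool.rec (fun _ => ℕ) (@Bool.rec (fun _ => ℕ) (@Bool.rec (fun _ => ℕ) l3605 (t3606_3608 i) (Nat.ble (nat_lit 3606) i)) (@Bool.rec (fun _ => ℕ) l3608 (t3609_3611 i) (Nat.ble (nat_lit 3609) i)) (Nat.ble (nat_lit 3608) i)) (@Bool.rec (fun _ => ℕ) (@Bool.rec (fun _ => ℕ) l3611 (t3612_3614 i) (Nat.ble (nat_lit 3612) i)) (@Bool.rec (fun _ => ℕ) l3614 (t3615_3617 i) (Nat.ble (nat_lit 3615) i)) (Nat.ble (nat_lit 3614) i)) (Nat.ble (nat_lit 3611) i))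
noncomputable def t3620_3622 (i : ℕ) : ℕ := (@Bool.rec (fun _ => ℕ) l3620 l3621 (Nat.ble (nat_lit 3621) i))
noncomputable def t3623_3625 (i : ℕ) : ℕ := (@Bool.rec (fun _ => ℕ) l3623 l3624 (Nat.ble (nat_lit 3624) i))
noncomputable def t3626_3628 (i : ℕ) : ℕ := (@Bool.rec (fun _ => ℕ) l3626 l3627 (Nat.ble (nat_lit 3627) i))
noncomputable def t3617_3628 (i : ℕ) : ℕ := (@Bool.rec (fun _ => ℕ) (@Bool.rec (fun _ => ℕ) (@Bool.rec (fun _ => ℕ) l3617 l3618 (Nat.ble (nat_lit 3618) i)) (@Bool.rec (fun _ => ℕ) l3619 (t3620_3622 i) (Nat.ble (nat_lit 3620) i)) (Nat.ble (nat_lit 3619) i)) (@Bool.rec (fun _ => ℕ) (@Bool.rec (fun _ => ℕ) l3622 (t3623_3625 i) (Nat.ble (nat_lit 3623) i)) (@Bool.rec (fun _ => ℕ) l3625 (t3626_3628 i) (Nat.ble (nat_lit 3626) i)) (Nat.ble (nat_lit 3625) i)) (Nat.ble (nat_lit 3622) i))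
noncomputable def t3629_3631 (i : ℕ) : ℕ := (@Bool.rec (fun _ => ℕ) l3629 l3630 (Nat.ble (nat_lit 3630) i))
noncomputable def t3632_3634 (i : ℕ) : ℕ := (@Bool.rec (fun _ => ℕ) l3632 l3633 (Nat.ble (nat_lit 3633) i))
noncomputable def t3635_3637 (i : ℕ) : ℕ := (@Bool.rec (fun _ => ℕ) l3635 l3636 (Nat.ble (nat_lit 3636) i))
noncomputable def t3638_3640 (i : ℕ) : ℕ := (@Bool.rec (fun _ => ℕ) l3638 l3639 (Nat.ble (nat_lit 3639) i))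
noncomputable def t3628_3640 (i : ℕ) : ℕ := (@Bool.rec (fun _ => ℕ) (@Bool.rec (fun _ => ℕ) (@Bool.rec (fun _ => ℕ) l3628 (t3629_3631 i) (Nat.ble (nat_lit 3629) i)) (@Bool.rec (fun _ => ℕ) l3631 (t3632_3634 i) (Nat.ble (nat_lit 3632) i)) (Nat.ble (nat_lit 3631) i)) (@Bool.rec (fun _ => ℕ) (@Bool.rec (fun _ => ℕ) l3634 (t3635_3637 i) (Nat.ble (nat_lit 3635) i)) (@Bool.rec (fun _ => ℕ) l3637 (t3638_3640 i) (Nat.ble (nat_lit 3638) i)) (Nat.ble (nat_lit 3637) i)) (Nat.ble (nat_lit 3634) i))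
noncomputable def t3643_3645 (i : ℕ) : ℕ := (@Bool.rec (fun _ => ℕ) l3643 l3644 (Nat.ble (nat_lit 3644) i))
noncomputable def t3646_3648 (i : ℕ) : ℕ := (@Bool.rec (fun _ => ℕ) l3646 l3647 (Nat.ble (nat_lit 3647) i))
noncomputable def t3649_3651 (i : ℕ) : ℕ := (@Bool.rec (fun _ => ℕ) l3649 l3650 (Nat.ble (nat_lit 3650) i))
noncomputable def t3640_3651 (i : ℕ) : ℕ := (@Bool.rec (fun _ => ℕ) (@Bool.rec (fun _ => ℕ) (@Bool.rec (fun _ => ℕ) l3640 l3641 (Nat.ble (nat_lit 3641) i)) (@Bool.rec (fun _ => ℕ) l3642 (t3643_3645 i) (Nat.ble (nat_lit 3643) i)) (Nat.ble (nat_lit 3642) i)) (@Bool.rec (fun _ => ℕ) (@Bool.rec (fun _ => ℕ) l3645 (t3646_3648 i) (Nat.ble (nat_lit 3646) i)) (@Bool.rec (fun _ => ℕ) l3648 (t3649_3651 i) (Nat.ble (nat_lit 3649) i)) (Nat.ble (nat_lit 3648) i)) (Nat.ble (nat_lit 3645) i))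
noncomputable def t3652_3654 (i : ℕ) : ℕ := (@Bool.rec (fun _ => ℕ) l3652 l3653 (Nat.ble (nat_lit 3653) i))
noncomputable def t3655_3657 (i : ℕ) : ℕ := (@Bool.rec (fun _ => ℕ) l3655 l3656 (Nat.ble (nat_lit 3656) i))
noncomputable def t3658_3660 (i : ℕ) : ℕ := (@Bool.rec (fun _ => ℕ) l3658 l3659 (Nat.ble (nat_lit 3659) i))
noncomputable def t3661_3663 (i : ℕ) : ℕ := (@Bool.rec (fun _ => ℕ) l3661 l3662 (Nat.ble (nat_lit 3662) i))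
noncomputable def t3651_3663 (i : ℕ) : ℕ := (@Bool.rec (fun _ => ℕ) (@Bool.rec (fun _ => ℕ) (@Bool.rec (fun _ => ℕ) l3651 (t3652_3654 i) (Nat.ble (nat_lit 3652) i)) (@Bool.rec (fun _ => ℕ) l3654 (t3655_3657 i) (Nat.ble (nat_lit 3655) i)) (Nat.ble (nat_lit 3654) i)) (@Bool.rec (fun _ => ℕ) (@Bool.rec (fun _ => ℕ) l3657 (t3658_3660 i) (Nat.ble (nat_lit 3658) i)) (@Bool.rec (fun _ => ℕ) l3660 (t3661_3663 i) (Nat.ble (nat_lit 3661) i)) (Nat.ble (nat_lit 3660) i)) (Nat.ble (nat_lit 3657) i))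
noncomputable def t3664_3666 (i : ℕ) : ℕ := (@Bool.rec (fun _ => ℕ) l3664 l3665 (Nat.ble (nat_lit 3665) i))
noncomputable def t3667_3669 (i : ℕ) : ℕ := (@Bool.rec (fun _ => ℕ) l3667 l3668 (Nat.ble (nat_lit 3668) i))
noncomputable def t3670_3672 (i : ℕ) : ℕ := (@Bool.rec (fun _ => ℕ) l3670 l3671 (Nat.ble (nat_lit 3671) i))
noncomputable def t3673_3675 (i : ℕ) : ℕ := (@Bool.rec (fun _ => ℕ) l3673 l3674 (Nat.ble (nat_lit 3674) i))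
noncomputable def t3663_3675 (i : ℕ) : ℕ := (@Bool.rec (fun _ => ℕ) (@Bool.rec (fun _ => ℕ) (@Bool.rec (fun _ => ℕ) l3663 (t3664_3666 i) (Nat.ble (nat_lit 3664) i)) (@Bool.rec (fun _ => ℕ) l3666 (t3667_3669 i) (Nat.ble (nat_lit 3667) i)) (Nat.ble (nat_lit 3666) i)) (@Bool.rec (fun _ => ℕ) (@Bool.rec (fun _ => ℕ) l3669 (t3670_3672 i) (Nat.ble (nat_lit 3670) i)) (@Bool.rec (fun _ => ℕ) l3672 (t3673_3675 i) (Nat.ble (nat_lit 3673) i)) (Nat.ble (nat_lit 3672) i)) (Nat.ble (nat_lit 3669) i))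
noncomputable def t3676_3678 (i : ℕ) : ℕ := (@Bool.rec (fun _ => ℕ) l3676 l3677 (Nat.ble (nat_lit 3677) i))
noncomputable def t3679_3681 (i : ℕ) : ℕ := (@Bool.rec (fun _ => ℕ) l3679 l3680 (Nat.ble (nat_lit 3680) i))
noncomputable def t3682_3684 (i : ℕ) : ℕ := (@Bool.rec (fun _ => ℕ) l3682 l3683 (Nat.ble (nat_lit 3683) i))
noncomputable def t3685_3687 (i : ℕ) : ℕ := (@Bool.rec (fun _ => ℕ) l3685 l3686 (Nat.ble (nat_lit 3686) i))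
noncomputable def t3675_3687 (i : ℕ) : ℕ := (@Bool.rec (fun _ => ℕ) (@Bool.rec (fun _ => ℕ) (@Bool.rec (fun _ => ℕ) l3675 (t3676_3678 i) (Nat.ble (nat_lit 3676) i)) (@Bool.rec (fun _ => ℕ) l3678 (t3679_3681 i) (Nat.ble (nat_lit 3679) i)) (Nat.ble (nat_lit 3678) i)) (@Bool.rec (fun _ => ℕ) (@Bool.rec (fun _ => ℕ) l3681 (t3682_3684 i) (Nat.ble (nat_lit 3682) i)) (@Bool.rec (fun _ => ℕ) l3684 (t3685_3687 i) (Nat.ble (nat_lit 3685) i)) (Nat.ble (nat_lit 3684) i)) (Nat.ble (nat_lit 3681) i))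
noncomputable def t3594_3687 (i : ℕ) : ℕ := (@Bool.rec (fun _ => ℕ) (@Bool.rec (fun _ => ℕ) (@Bool.rec (fun _ => ℕ) (t3594_3605 i) (t3605_3617 i) (Nat.ble (nat_lit 3605) i)) (@Bool.rec (fun _ => ℕ) (t3617_3628 i) (t3628_3640 i) (Nat.ble (nat_lit 3628) i)) (Nat.ble (nat_lit 3617) i)) (@Bool.rec (fun _ => ℕ) (@Bool.rec (fun _ => ℕ) (t3640_3651 i) (t3651_3663 i) (Nat.ble (nat_lit 3651) i)) (@Bool.rec (fun _ => ℕ) (t3663_3675 i) (t3675_3687 i) (Nat.ble (nat_lit 3675) i)) (Nat.ble (nat_lit 3663) i)) (Nat.ble (nat_lit 3640) i))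
noncomputable def t2950_3687 (i : ℕ) : ℕ := (@Bool.rec (fun _ => ℕ) (@Bool.rec (fun _ => ℕ) (@Bool.rec (fun _ => ℕ) (t2950_3042 i) (t3042_3134 i) (Nat.ble (nat_lit 3042) i)) (@Bool.rec (fun _ => ℕ) (t3134_3226 i) (t3226_3318 i) (Nat.ble (nat_lit 3226) i)) (Nat.ble (nat_lit 3134) i)) (@Bool.rec (fun _ => ℕ) (@Bool.rec (fun _ => ℕ) (t3318_3410 i) (t3410_3502 i) (Nat.ble (nat_lit 3410) i)) (@Bool.rec (fun _ => ℕ) (t3502_3594 i) (t3594_3687 i) (Nat.ble (nat_lit 3594) i)) (Nat.ble (nat_lit 3502) i)) (Nat.ble (nat_lit 3318) i))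
noncomputable def t3690_3692 (i : ℕ) : ℕ := (@Bool.rec (fun _ => ℕ) l3690 l3691 (Nat.ble (nat_lit 3691) i))
noncomputable def t3693_3695 (i : ℕ) : ℕ := (@Bool.rec (fun _ => ℕ) l3693 l3694 (Nat.ble (nat_lit 3694) i))
noncomputable def t3696_3698 (i : ℕ) : ℕ := (@Bool.rec (fun _ => ℕ) l3696 l3697 (Nat.ble (nat_lit 3697) i))
noncomputable def t3687_3698 (i : ℕ) : ℕ := (@Bool.rec (fun _ => ℕ) (@Bool.rec (fun _ => ℕ) (@Bool.rec (fun _ => ℕ) l3687 l3688 (Nat.ble (nat_lit 3688) i)) (@Bool.rec (fun _ => ℕ) l3689 (t3690_3692 i) (Nat.ble (nat_lit 3690) i)) (Nat.ble (nat_lit 3689) i)) (@Bool.rec (fun _ => ℕ) (@Bool.rec (fun _ => ℕ) l3692 (t3693_3695 i) (Nat.ble (nat_lit 3693) i)) (@Bool.rec (fun _ => ℕ) l3695 (t3696_3698 i) (Nat.ble (nat_lit 3696) i)) (Nat.ble (nat_lit 3695) i)) (Nat.ble (nat_lit 3692) i))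
noncomputable def t3699_3701 (i : ℕ) : ℕ := (@Bool.rec (fun _ => ℕ) l3699 l3700 (Nat.ble (nat_lit 3700) i))
noncomputable def t3702_3704 (i : ℕ) : ℕ := (@Bool.rec (fun _ => ℕ) l3702 l3703 (Nat.ble (nat_lit 3703) i))
noncomputable def t3705_3707 (i : ℕ) : ℕ := (@Bool.rec (fun _ => ℕ) l3705 l3706 (Nat.ble (nat_lit 3706) i))
noncomputable def t3708_3710 (i : ℕ) : ℕ := (@Bool.rec (fun _ => ℕ) l3708 l3709 (Nat.ble (nat_lit 3709) i))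
noncomputable def t3698_3710 (i : ℕ) : ℕ := (@Bool.rec (fun _ => ℕ) (@Bool.rec (fun _ => ℕ) (@Bool.rec (fun _ => ℕ) l3698 (t3699_3701 i) (Nat.ble (nat_lit 3699) i)) (@Bool.rec (fun _ => ℕ) l3701 (t3702_3704 i) (Nat.ble (nat_lit 3702) i)) (Nat.ble (nat_lit 3701) i)) (@Bool.rec (fun _ => ℕ) (@Bool.rec (fun _ => ℕ) l3704 (t3705_3707 i) (Nat.ble (nat_lit 3705) i)) (@Bool.rec (fun _ => ℕ) l3707 (t3708_3710 i) (Nat.ble (nat_lit 3708) i)) (Nat.ble (nat_lit 3707) i)) (Nat.ble (nat_lit 3704) i))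
noncomputable def t3713_3715 (i : ℕ) : ℕ := (@Bool.rec (fun _ => ℕ) l3713 l3714 (Nat.ble (nat_lit 3714) i))
noncomputable def t3716_3718 (i : ℕ) : ℕ := (@Bool.rec (fun _ => ℕ) l3716 l3717 (Nat.ble (nat_lit 3717) i))
noncomputable def t3719_3721 (i : ℕ) : ℕ := (@Bool.rec (fun _ => ℕ) l3719 l3720 (Nat.ble (nat_lit 3720) i))
noncomputable def t3710_3721 (i : ℕ) : ℕ := (@Bool.rec (fun _ => ℕ) (@Bool.rec (fun _ => ℕ) (@Bool.rec (fun _ => ℕ) l3710 l3711 (Nat.ble (nat_lit 3711) i)) (@Bool.rec (fun _ => ℕ) l3712 (t3713_3715 i) (Nat.ble (nat_lit 3713) i)) (Nat.ble (nat_lit 3712) i)) (@Bool.rec (fun _ => ℕ) (@Bool.rec (fun _ => ℕ) l3715 (t3716_3718 i) (Nat.ble (nat_lit 3716) i)) (@Bool.rec (fun _ => ℕ) l3718 (t3719_3721 i) (Nat.ble (nat_lit 3719) i)) (Nat.ble (nat_lit 3718) i)) (Nat.ble (nat_lit 3715) i))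
noncomputable def t3722_3724 (i : ℕ) : ℕ := (@Bool.rec (fun _ => ℕ) l3722 l3723 (Nat.ble (nat_lit 3723) i))
noncomputable def t3725_3727 (i : ℕ) : ℕ := (@Bool.rec (fun _ => ℕ) l3725 l3726 (Nat.ble (nat_lit 3726) i))
noncomputable def t3728_3730 (i : ℕ) : ℕ := (@Bool.rec (fun _ => ℕ) l3728 l3729 (Nat.ble (nat_lit 3729) i))
noncomputable def t3731_3733 (i : ℕ) : ℕ := (@Bool.rec (fun _ => ℕ) l3731 l3732 (Nat.ble (nat_lit 3732) i))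
noncomputable def t3721_3733 (i : ℕ) : ℕ := (@Bool.rec (fun _ => ℕ) (@Bool.rec (fun _ => ℕ) (@Bool.rec (fun _ => ℕ) l3721 (t3722_3724 i) (Nat.ble (nat_lit 3722) i)) (@Bool.rec (fun _ => ℕ) l3724 (t3725_3727 i) (Nat.ble (nat_lit 3725) i)) (Nat.ble (nat_lit 3724) i)) (@Bool.rec (fun _ => ℕ) (@Bool.rec (fun _ => ℕ) l3727 (t3728_3730 i) (Nat.ble (nat_lit 3728) i)) (@Bool.rec (fun _ => ℕ) l3730 (t3731_3733 i) (Nat.ble (nat_lit 3731) i)) (Nat.ble (nat_lit 3730) i)) (Nat.ble (nat_lit 3727) i))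
noncomputable def t3736_3738 (i : ℕ) : ℕ := (@Bool.rec (fun _ => ℕ) l3736 l3737 (Nat.ble (nat_lit 3737) i))
noncomputable def t3739_3741 (i : ℕ) : ℕ := (@Bool.rec (fun _ => ℕ) l3739 l3740 (Nat.ble (nat_lit 3740) i))
noncomputable def t3742_3744 (i : ℕ) : ℕ := (@Bool.rec (fun _ => ℕ) l3742 l3743 (Nat.ble (nat_lit 3743) i))
noncomputable def t3733_3744 (i : ℕ) : ℕ := (@Bool.rec (fun _ => ℕ) (@Bool.rec (fun _ => ℕ) (@Bool.rec (fun _ => ℕ) l3733 l3734 (Nat.ble (nat_lit 3734) i)) (@Bool.rec (fun _ => ℕ) l3735 (t3736_3738 i) (Nat.ble (nat_lit 3736) i)) (Nat.ble (nat_lit 3735) i)) (@Bool.rec (fun _ => ℕ) (@Bool.rec (fun _ => ℕ) l3738 (t3739_3741 i) (Nat.ble (nat_lit 3739) i)) (@Bool.rec (fun _ => ℕ) l3741 (t3742_3744 i) (Nat.ble (nat_lit 3742) i)) (Nat.ble (nat_lit 3741) i)) (Nat.ble (nat_lit 3738) i))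
noncomputable def t3745_3747 (i : ℕ) : ℕ := (@Bool.rec (fun _ => ℕ) l3745 l3746 (Nat.ble (nat_lit 3746) i))
noncomputable def t3748_3750 (i : ℕ) : ℕ := (@Bool.rec (fun _ => ℕ) l3748 l3749 (Nat.ble (nat_lit 3749) i))
noncomputable def t3751_3753 (i : ℕ) : ℕ := (@Bool.rec (fun _ => ℕ) l3751 l3752 (Nat.ble (nat_lit 3752) i))
noncomputable def t3754_3756 (i : ℕ) : ℕ := (@Bool.rec (fun _ => ℕ) l3754 l3755 (Nat.ble (nat_lit 3755) i))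
noncomputable def t3744_3756 (i : ℕ) : ℕ := (@Bool.rec (fun _ => ℕ) (@Bool.rec (fun _ => ℕ) (@Bool.rec (fun _ => ℕ) l3744 (t3745_3747 i) (Nat.ble (nat_lit 3745) i)) (@Bool.rec (fun _ => ℕ) l3747 (t3748_3750 i) (Nat.ble (nat_lit 3748) i)) (Nat.ble (nat_lit 3747) i)) (@Bool.rec (fun _ => ℕ) (@Bool.rec (fun _ => ℕ) l3750 (t3751_3753 i) (Nat.ble (nat_lit 3751) i)) (@Bool.rec (fun _ => ℕ) l3753 (t3754_3756 i) (Nat.ble (nat_lit 3754) i)) (Nat.ble (nat_lit 3753) i)) (Nat.ble (nat_lit 3750) i))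
noncomputable def t3759_3761 (i : ℕ) : ℕ := (@Bool.rec (fun _ => ℕ) l3759 l3760 (Nat.ble (nat_lit 3760) i))
noncomputable def t3762_3764 (i : ℕ) : ℕ := (@Bool.rec (fun _ => ℕ) l3762 l3763 (Nat.ble (nat_lit 3763) i))
noncomputable def t3765_3767 (i : ℕ) : ℕ := (@Bool.rec (fun _ => ℕ) l3765 l3766 (Nat.ble (nat_lit 3766) i))
noncomputable def t3756_3767 (i : ℕ) : ℕ := (@Bool.rec (fun _ => ℕ) (@Bool.rec (fun _ => ℕ) (@Bool.rec (fun _ => ℕ) l3756 l3757 (Nat.ble (nat_lit 3757) i)) (@Bool.rec (fun _ => ℕ) l3758 (t3759_3761 i) (Nat.ble (nat_lit 3759) i)) (Nat.ble (nat_lit 3758) i)) (@Bool.rec (fun _ => ℕ) (@Bool.rec (fun _ => ℕ) l3761 (t3762_3764 i) (Nat.ble (nat_lit 3762) i)) (@Bool.rec (fun _ => ℕ) l3764 (t3765_3767 i) (Nat.ble (nat_lit 3765) i)) (Nat.ble (nat_lit 3764) i)) (Nat.ble (nat_lit 3761) i))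
noncomputable def t3768_3770 (i : ℕ) : ℕ := (@Bool.rec (fun _ => ℕ) l3768 l3769 (Nat.ble (nat_lit 3769) i))
noncomputable def t3771_3773 (i : ℕ) : ℕ := (@Bool.rec (fun _ => ℕ) l3771 l3772 (Nat.ble (nat_lit 3772) i))
noncomputable def t3774_3776 (i : ℕ) : ℕ := (@Bool.rec (fun _ => ℕ) l3774 l3775 (Nat.ble (nat_lit 3775) i))
noncomputable def t3777_3779 (i : ℕ) : ℕ := (@Bool.rec (fun _ => ℕ) l3777 l3778 (Nat.ble (nat_lit 3778) i))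
noncomputable def t3767_3779 (i : ℕ) : ℕ := (@Bool.rec (fun _ => ℕ) (@Bool.rec (fun _ => ℕ) (@Bool.rec (fun _ => ℕ) l3767 (t3768_3770 i) (Nat.ble (nat_lit 3768) i)) (@Bool.rec (fun _ => ℕ) l3770 (t3771_3773 i) (Nat.ble (nat_lit 3771) i)) (Nat.ble (nat_lit 3770) i)) (@Bool.rec (fun _ => ℕ) (@Bool.rec (fun _ => ℕ) l3773 (t3774_3776 i) (Nat.ble (nat_lit 3774) i)) (@Bool.rec (fun _ => ℕ) l3776 (t3777_3779 i) (Nat.ble (nat_lit 3777) i)) (Nat.ble (nat_lit 3776) i)) (Nat.ble (nat_lit 3773) i))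
noncomputable def t3687_3779 (i : ℕ) : ℕ := (@Bool.rec (fun _ => ℕ) (@Bool.rec (fun _ => ℕ) (@Bool.rec (fun _ => ℕ) (t3687_3698 i) (t3698_3710 i) (Nat.ble (nat_lit 3698) i)) (@Bool.rec (fun _ => ℕ) (t3710_3721 i) (t3721_3733 i) (Nat.ble (nat_lit 3721) i)) (Nat.ble (nat_lit 3710) i)) (@Bool.rec (fun _ => ℕ) (@Bool.rec (fun _ => ℕ) (t3733_3744 i) (t3744_3756 i) (Nat.ble (nat_lit 3744) i)) (@Bool.rec (fun _ => ℕ) (t3756_3767 i) (t3767_3779 i) (Nat.ble (nat_lit 3767) i)) (Nat.ble (nat_lit 3756) i)) (Nat.ble (nat_lit 3733) i))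
noncomputable def t3782_3784 (i : ℕ) : ℕ := (@Bool.rec (fun _ => ℕ) l3782 l3783 (Nat.ble (nat_lit 3783) i))
noncomputable def t3785_3787 (i : ℕ) : ℕ := (@Bool.rec (fun _ => ℕ) l3785 l3786 (Nat.ble (nat_lit 3786) i))
noncomputable def t3788_3790 (i : ℕ) : ℕ := (@Bool.rec (fun _ => ℕ) l3788 l3789 (Nat.ble (nat_lit 3789) i))
noncomputable def t3779_3790 (i : ℕ) : ℕ := (@Bool.rec (fun _ => ℕ) (@Bool.rec (fun _ => ℕ) (@Bool.rec (fun _ => ℕ) l3779 l3780 (Nat.ble (nat_lit 3780) i)) (@Bool.rec (fun _ => ℕ) l3781 (t3782_3784 i) (Nat.ble (nat_lit 3782) i)) (Nat.ble (nat_lit 3781) i)) (@Bool.rec (fun _ => ℕ) (@Bool.rec (fun _ => ℕ) l3784 (t3785_3787 i) (Nat.ble (nat_lit 3785) i)) (@Bool.rec (fun _ => ℕ) l3787 (t3788_3790 i) (Nat.ble (nat_lit 3788) i)) (Nat.ble (nat_lit 3787) i)) (Nat.ble (nat_lit 3784) i))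
noncomputable def t3791_3793 (i : ℕ) : ℕ := (@Bool.rec (fun _ => ℕ) l3791 l3792 (Nat.ble (nat_lit 3792) i))
noncomputable def t3794_3796 (i : ℕ) : ℕ := (@Bool.rec (fun _ => ℕ) l3794 l3795 (Nat.ble (nat_lit 3795) i))
noncomputable def t3797_3799 (i : ℕ) : ℕ := (@Bool.rec (fun _ => ℕ) l3797 l3798 (Nat.ble (nat_lit 3798) i))
noncomputable def t3800_3802 (i : ℕ) : ℕ := (@Bool.rec (fun _ => ℕ) l3800 l3801 (Nat.ble (nat_lit 3801) i))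
noncomputable def t3790_3802 (i : ℕ) : ℕ := (@Bool.rec (fun _ => ℕ) (@Bool.rec (fun _ => ℕ) (@Bool.rec (fun _ => ℕ) l3790 (t3791_3793 i) (Nat.ble (nat_lit 3791) i)) (@Bool.rec (fun _ => ℕ) l3793 (t3794_3796 i) (Nat.ble (nat_lit 3794) i)) (Nat.ble (nat_lit 3793) i)) (@Bool.rec (fun _ => ℕ) (@Bool.rec (fun _ => ℕ) l3796 (t3797_3799 i) (Nat.ble (nat_lit 3797) i)) (@Bool.rec (fun _ => ℕ) l3799 (t3800_3802 i) (Nat.ble (nat_lit 3800) i)) (Nat.ble (nat_lit 3799) i)) (Nat.ble (nat_lit 3796) i))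
noncomputable def t3805_3807 (i : ℕ) : ℕ := (@Bool.rec (fun _ => ℕ) l3805 l3806 (Nat.ble (nat_lit 3806) i))
noncomputable def t3808_3810 (i : ℕ) : ℕ := (@Bool.rec (fun _ => ℕ) l3808 l3809 (Nat.ble (nat_lit 3809) i))
noncomputable def t3811_3813 (i : ℕ) : ℕ := (@Bool.rec (fun _ => ℕ) l3811 l3812 (Nat.ble (nat_lit 3812) i))
noncomputable def t3802_3813 (i : ℕ) : ℕ := (@Bool.rec (fun _ => ℕ) (@Bool.rec (fun _ => ℕ) (@Bool.rec (fun _ => ℕ) l3802 l3803 (Nat.ble (nat_lit 3803) i)) (@Bool.rec (fun _ => ℕ) l3804 (t3805_3807 i) (Nat.ble (nat_lit 3805) i)) (Nat.ble (nat_lit 3804) i)) (@Bool.rec (fun _ => ℕ) (@Bool.rec (fun _ => ℕ) l3807 (t3808_3810 i) (Nat.ble (nat_lit 3808) i)) (@Bool.rec (fun _ => ℕ) l3810 (t3811_3813 i) (Nat.ble (nat_lit 3811) i)) (Nat.ble (nat_lit 3810) i)) (Nat.ble (nat_lit 3807) i))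
noncomputable def t3814_3816 (i : ℕ) : ℕ := (@Bool.rec (fun _ => ℕ) l3814 l3815 (Nat.ble (nat_lit 3815) i))
noncomputable def t3817_3819 (i : ℕ) : ℕ := (@Bool.rec (fun _ => ℕ) l3817 l3818 (Nat.ble (nat_lit 3818) i))
noncomputable def t3820_3822 (i : ℕ) : ℕ := (@Bool.rec (fun _ => ℕ) l3820 l3821 (Nat.ble (nat_lit 3821) i))
noncomputable def t3823_3825 (i : ℕ) : ℕ := (@Bool.rec (fun _ => ℕ) l3823 l3824 (Nat.ble (nat_lit 3824) i))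
noncomputable def t3813_3825 (i : ℕ) : ℕ := (@Bool.rec (fun _ => ℕ) (@Bool.rec (fun _ => ℕ) (@Bool.rec (fun _ => ℕ) l3813 (t3814_3816 i) (Nat.ble (nat_lit 3814) i)) (@Bool.rec (fun _ => ℕ) l3816 (t3817_3819 i) (Nat.ble (nat_lit 3817) i)) (Nat.ble (nat_lit 3816) i)) (@Bool.rec (fun _ => ℕ) (@Bool.rec (fun _ => ℕ) l3819 (t3820_3822 i) (Nat.ble (nat_lit 3820) i)) (@Bool.rec (fun _ => ℕ) l3822 (t3823_3825 i) (Nat.ble (nat_lit 3823) i)) (Nat.ble (nat_lit 3822) i)) (Nat.ble (nat_lit 3819) i))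
noncomputable def t3828_3830 (i : ℕ) : ℕ := (@Bool.rec (fun _ => ℕ) l3828 l3829 (Nat.ble (nat_lit 3829) i))
noncomputable def t3831_3833 (i : ℕ) : ℕ := (@Bool.rec (fun _ => ℕ) l3831 l3832 (Nat.ble (nat_lit 3832) i))
noncomputable def t3834_3836 (i : ℕ) : ℕ := (@Bool.rec (fun _ => ℕ) l3834 l3835 (Nat.ble (nat_lit 3835) i))
noncomputable def t3825_3836 (i : ℕ) : ℕ := (@Bool.rec (fun _ => ℕ) (@Bool.rec (fun _ => ℕ) (@Bool.rec (fun _ => ℕ) l3825 l3826 (Nat.ble (nat_lit 3826) i)) (@Bool.rec (fun _ => ℕ) l3827 (t3828_3830 i) (Nat.ble (nat_lit 3828) i)) (Nat.ble (nat_lit 3827) i)) (@Bool.rec (fun _ => ℕ) (@Bool.rec (fun _ => ℕ) l3830 (t3831_3833 i) (Nat.ble (nat_lit 3831) i)) (@Bool.rec (fun _ => ℕ) l3833 (t3834_3836 i) (Nat.ble (nat_lit 3834) i)) (Nat.ble (nat_lit 3833) i)) (Nat.ble (nat_lit 3830) i))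
noncomputable def t3837_3839 (i : ℕ) : ℕ := (@Bool.rec (fun _ => ℕ) l3837 l3838 (Nat.ble (nat_lit 3838) i))
noncomputable def t3840_3842 (i : ℕ) : ℕ := (@Bool.rec (fun _ => ℕ) l3840 l3841 (Nat.ble (nat_lit 3841) i))
noncomputable def t3843_3845 (i : ℕ) : ℕ := (@Bool.rec (fun _ => ℕ) l3843 l3844 (Nat.ble (nat_lit 3844) i))
noncomputable def t3846_3848 (i : ℕ) : ℕ := (@Bool.rec (fun _ => ℕ) l3846 l3847 (Nat.ble (nat_lit 3847) i))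
noncomputable def t3836_3848 (i : ℕ) : ℕ := (@Bool.rec (fun _ => ℕ) (@Bool.rec (fun _ => ℕ) (@Bool.rec (fun _ => ℕ) l3836 (t3837_3839 i) (Nat.ble (nat_lit 3837) i)) (@Bool.rec (fun _ => ℕ) l3839 (t3840_3842 i) (Nat.ble (nat_lit 3840) i)) (Nat.ble (nat_lit 3839) i)) (@Bool.rec (fun _ => ℕ) (@Bool.rec (fun _ => ℕ) l3842 (t3843_3845 i) (Nat.ble (nat_lit 3843) i)) (@Bool.rec (fun _ => ℕ) l3845 (t3846_3848 i) (Nat.ble (nat_lit 3846) i)) (Nat.ble (nat_lit 3845) i)) (Nat.ble (nat_lit 3842) i))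
noncomputable def t3851_3853 (i : ℕ) : ℕ := (@Bool.rec (fun _ => ℕ) l3851 l3852 (Nat.ble (nat_lit 3852) i))
noncomputable def t3854_3856 (i : ℕ) : ℕ := (@Bool.rec (fun _ => ℕ) l3854 l3855 (Nat.ble (nat_lit 3855) i))
noncomputable def t3857_3859 (i : ℕ) : ℕ := (@Bool.rec (fun _ => ℕ) l3857 l3858 (Nat.ble (nat_lit 3858) i))
noncomputable def t3848_3859 (i : ℕ) : ℕ := (@Bool.rec (fun _ => ℕ) (@Bool.rec (fun _ => ℕ) (@Bool.rec (fun _ => ℕ) l3848 l3849 (Nat.ble (nat_lit 3849) i)) (@Bool.rec (fun _ => ℕ) l3850 (t3851_3853 i) (Nat.ble (nat_lit 3851) i)) (Nat.ble (nat_lit 3850) i)) (@Bool.rec (fun _ => ℕ) (@Bool.rec (fun _ => ℕ) l3853 (t3854_3856 i) (Nat.ble (nat_lit 3854) i)) (@Bool.rec (fun _ => ℕ) l3856 (t3857_3859 i) (Nat.ble (nat_lit 3857) i)) (Nat.ble (nat_lit 3856) i)) (Nat.ble (nat_lit 3853) i))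
noncomputable def t3860_3862 (i : ℕ) : ℕ := (@Bool.rec (fun _ => ℕ) l3860 l3861 (Nat.ble (nat_lit 3861) i))
noncomputable def t3863_3865 (i : ℕ) : ℕ := (@Bool.rec (fun _ => ℕ) l3863 l3864 (Nat.ble (nat_lit 3864) i))
noncomputable def t3866_3868 (i : ℕ) : ℕ := (@Bool.rec (fun _ => ℕ) l3866 l3867 (Nat.ble (nat_lit 3867) i))
noncomputable def t3869_3871 (i : ℕ) : ℕ := (@Bool.rec (fun _ => ℕ) l3869 l3870 (Nat.ble (nat_lit 3870) i))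
noncomputable def t3859_3871 (i : ℕ) : ℕ := (@Bool.rec (fun _ => ℕ) (@Bool.rec (fun _ => ℕ) (@Bool.rec (fun _ => ℕ) l3859 (t3860_3862 i) (Nat.ble (nat_lit 3860) i)) (@Bool.rec (fun _ => ℕ) l3862 (t3863_3865 i) (Nat.ble (nat_lit 3863) i)) (Nat.ble (nat_lit 3862) i)) (@Bool.rec (fun _ => ℕ) (@Bool.rec (fun _ => ℕ) l3865 (t3866_3868 i) (Nat.ble (nat_lit 3866) i)) (@Bool.rec (fun _ => ℕ) l3868 (t3869_3871 i) (Nat.ble (nat_lit 3869) i)) (Nat.ble (nat_lit 3868) i)) (Nat.ble (nat_lit 3865) i))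
noncomputable def t3779_3871 (i : ℕ) : ℕ := (@Bool.rec (fun _ => ℕ) (@Bool.rec (fun _ => ℕ) (@Bool.rec (fun _ => ℕ) (t3779_3790 i) (t3790_3802 i) (Nat.ble (nat_lit 3790) i)) (@Bool.rec (fun _ => ℕ) (t3802_3813 i) (t3813_3825 i) (Nat.ble (nat_lit 3813) i)) (Nat.ble (nat_lit 3802) i)) (@Bool.rec (fun _ => ℕ) (@Bool.rec (fun _ => ℕ) (t3825_3836 i) (t3836_3848 i) (Nat.ble (nat_lit 3836) i)) (@Bool.rec (fun _ => ℕ) (t3848_3859 i) (t3859_3871 i) (Nat.ble (nat_lit 3859) i)) (Nat.ble (nat_lit 3848) i)) (Nat.ble (nat_lit 3825) i))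
noncomputable def t3874_3876 (i : ℕ) : ℕ := (@Bool.rec (fun _ => ℕ) l3874 l3875 (Nat.ble (nat_lit 3875) i))
noncomputable def t3877_3879 (i : ℕ) : ℕ := (@Bool.rec (fun _ => ℕ) l3877 l3878 (Nat.ble (nat_lit 3878) i))
noncomputable def t3880_3882 (i : ℕ) : ℕ := (@Bool.rec (fun _ => ℕ) l3880 l3881 (Nat.ble (nat_lit 3881) i))
noncomputable def t3871_3882 (i : ℕ) : ℕ := (@Bool.rec (fun _ => ℕ) (@Bool.rec (fun _ => ℕ) (@Bool.rec (fun _ => ℕ) l3871 l3872 (Nat.ble (nat_lit 3872) i)) (@Bool.rec (fun _ => ℕ) l3873 (t3874_3876 i) (Nat.ble (nat_lit 3874) i)) (Nat.ble (nat_lit 3873) i)) (@Bool.rec (fun _ => ℕ) (@Bool.rec (fun _ => ℕ) l3876 (t3877_3879 i) (Nat.ble (nat_lit 3877) i)) (@Bool.rec (fun _ => ℕ) l3879 (t3880_3882 i) (Nat.ble (nat_lit 3880) i)) (Nat.ble (nat_lit 3879) i)) (Nat.ble (nat_lit 3876) i))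
noncomputable def t3883_3885 (i : ℕ) : ℕ := (@Bool.rec (fun _ => ℕ) l3883 l3884 (Nat.ble (nat_lit 3884) i))
noncomputable def t3886_3888 (i : ℕ) : ℕ := (@Bool.rec (fun _ => ℕ) l3886 l3887 (Nat.ble (nat_lit 3887) i))
noncomputable def t3889_3891 (i : ℕ) : ℕ := (@Bool.rec (fun _ => ℕ) l3889 l3890 (Nat.ble (nat_lit 3890) i))
noncomputable def t3892_3894 (i : ℕ) : ℕ := (@Bool.rec (fun _ => ℕ) l3892 l3893 (Nat.ble (nat_lit 3893) i))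
noncomputable def t3882_3894 (i : ℕ) : ℕ := (@Bool.rec (fun _ => ℕ) (@Bool.rec (fun _ => ℕ) (@Bool.rec (fun _ => ℕ) l3882 (t3883_3885 i) (Nat.ble (nat_lit 3883) i)) (@Bool.rec (fun _ => ℕ) l3885 (t3886_3888 i) (Nat.ble (nat_lit 3886) i)) (Nat.ble (nat_lit 3885) i)) (@Bool.rec (fun _ => ℕ) (@Bool.rec (fun _ => ℕ) l3888 (t3889_3891 i) (Nat.ble (nat_lit 3889) i)) (@Bool.rec (fun _ => ℕ) l3891 (t3892_3894 i) (Nat.ble (nat_lit 3892) i)) (Nat.ble (nat_lit 3891) i)) (Nat.ble (nat_lit 3888) i))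
noncomputable def t3897_3899 (i : ℕ) : ℕ := (@Bool.rec (fun _ => ℕ) l3897 l3898 (Nat.ble (nat_lit 3898) i))
noncomputable def t3900_3902 (i : ℕ) : ℕ := (@Bool.rec (fun _ => ℕ) l3900 l3901 (Nat.ble (nat_lit 3901) i))
noncomputable def t3903_3905 (i : ℕ) : ℕ := (@Bool.rec (fun _ => ℕ) l3903 l3904 (Nat.ble (nat_lit 3904) i))
noncomputable def t3894_3905 (i : ℕ) : ℕ := (@Bool.rec (fun _ => ℕ) (@Bool.rec (fun _ => ℕ) (@Bool.rec (fun _ => ℕ) l3894 l3895 (Nat.ble (nat_lit 3895) i)) (@Bool.rec (fun _ => ℕ) l3896 (t3897_3899 i) (Nat.ble (nat_lit 3897) i)) (Nat.ble (nat_lit 3896) i)) (@Bool.rec (fun _ => ℕ) (@Bool.rec (fun _ => ℕ) l3899 (t3900_3902 i) (Nat.ble (nat_lit 3900) i)) (@Bool.rec (fun _ => ℕ) l3902 (t3903_3905 i) (Nat.ble (nat_lit 3903) i)) (Nat.ble (nat_lit 3902) i)) (Nat.ble (nat_lit 3899) i))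
noncomputable def t3906_3908 (i : ℕ) : ℕ := (@Bool.rec (fun _ => ℕ) l3906 l3907 (Nat.ble (nat_lit 3907) i))
noncomputable def t3909_3911 (i : ℕ) : ℕ := (@Bool.rec (fun _ => ℕ) l3909 l3910 (Nat.ble (nat_lit 3910) i))
noncomputable def t3912_3914 (i : ℕ) : ℕ := (@Bool.rec (fun _ => ℕ) l3912 l3913 (Nat.ble (nat_lit 3913) i))
noncomputable def t3915_3917 (i : ℕ) : ℕ := (@Bool.rec (fun _ => ℕ) l3915 l3916 (Nat.ble (nat_lit 3916) i))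
noncomputable def t3905_3917 (i : ℕ) : ℕ := (@Bool.rec (fun _ => ℕ) (@Bool.rec (fun _ => ℕ) (@Bool.rec (fun _ => ℕ) l3905 (t3906_3908 i) (Nat.ble (nat_lit 3906) i)) (@Bool.rec (fun _ => ℕ) l3908 (t3909_3911 i) (Nat.ble (nat_lit 3909) i)) (Nat.ble (nat_lit 3908) i)) (@Bool.rec (fun _ => ℕ) (@Bool.rec (fun _ => ℕ) l3911 (t3912_3914 i) (Nat.ble (nat_lit 3912) i)) (@Bool.rec (fun _ => ℕ) l3914 (t3915_3917 i) (Nat.ble (nat_lit 3915) i)) (Nat.ble (nat_lit 3914) i)) (Nat.ble (nat_lit 3911) i))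
noncomputable def t3920_3922 (i : ℕ) : ℕ := (@Bool.rec (fun _ => ℕ) l3920 l3921 (Nat.ble (nat_lit 3921) i))
noncomputable def t3923_3925 (i : ℕ) : ℕ := (@Bool.rec (fun _ => ℕ) l3923 l3924 (Nat.ble (nat_lit 3924) i))
noncomputable def t3926_3928 (i : ℕ) : ℕ := (@Bool.rec (fun _ => ℕ) l3926 l3927 (Nat.ble (nat_lit 3927) i))
noncomputable def t3917_3928 (i : ℕ) : ℕ := (@Bool.rec (fun _ => ℕ) (@Bool.rec (fun _ => ℕ) (@Bool.rec (fun _ => ℕ) l3917 l3918 (Nat.ble (nat_lit 3918) i)) (@Bool.rec (fun _ => ℕ) l3919 (t3920_3922 i) (Nat.ble (nat_lit 3920) i)) (Nat.ble (nat_lit 3919) i)) (@Bool.rec (fun _ => ℕ) (@Bool.rec (fun _ => ℕ) l3922 (t3923_3925 i) (Nat.ble (nat_lit 3923) i)) (@Bool.rec (fun _ => ℕ) l3925 (t3926_3928 i) (Nat.ble (nat_lit 3926) i)) (Nat.ble (nat_lit 3925) i)) (Nat.ble (nat_lit 3922) i))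
noncomputable def t3929_3931 (i : ℕ) : ℕ := (@Bool.rec (fun _ => ℕ) l3929 l3930 (Nat.ble (nat_lit 3930) i))
noncomputable def t3932_3934 (i : ℕ) : ℕ := (@Bool.rec (fun _ => ℕ) l3932 l3933 (Nat.ble (nat_lit 3933) i))
noncomputable def t3935_3937 (i : ℕ) : ℕ := (@Bool.rec (fun _ => ℕ) l3935 l3936 (Nat.ble (nat_lit 3936) i))
noncomputable def t3938_3940 (i : ℕ) : ℕ := (@Bool.rec (fun _ => ℕ) l3938 l3939 (Nat.ble (nat_lit 3939) i))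
noncomputable def t3928_3940 (i : ℕ) : ℕ := (@Bool.rec (fun _ => ℕ) (@Bool.rec (fun _ => ℕ) (@Bool.rec (fun _ => ℕ) l3928 (t3929_3931 i) (Nat.ble (nat_lit 3929) i)) (@Bool.rec (fun _ => ℕ) l3931 (t3932_3934 i) (Nat.ble (nat_lit 3932) i)) (Nat.ble (nat_lit 3931) i)) (@Bool.rec (fun _ => ℕ) (@Bool.rec (fun _ => ℕ) l3934 (t3935_3937 i) (Nat.ble (nat_lit 3935) i)) (@Bool.rec (fun _ => ℕ) l3937 (t3938_3940 i) (Nat.ble (nat_lit 3938) i)) (Nat.ble (nat_lit 3937) i)) (Nat.ble (nat_lit 3934) i))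
noncomputable def t3943_3945 (i : ℕ) : ℕ := (@Bool.rec (fun _ => ℕ) l3943 l3944 (Nat.ble (nat_lit 3944) i))
noncomputable def t3946_3948 (i : ℕ) : ℕ := (@Bool.rec (fun _ => ℕ) l3946 l3947 (Nat.ble (nat_lit 3947) i))
noncomputable def t3949_3951 (i : ℕ) : ℕ := (@Bool.rec (fun _ => ℕ) l3949 l3950 (Nat.ble (nat_lit 3950) i))
noncomputable def t3940_3951 (i : ℕ) : ℕ := (@Bool.rec (fun _ => ℕ) (@Bool.rec (fun _ => ℕ) (@Bool.rec (fun _ => ℕ) l3940 l3941 (Nat.ble (nat_lit 3941) i)) (@Bool.rec (fun _ => ℕ) l3942 (t3943_3945 i) (Nat.ble (nat_lit 3943) i)) (Nat.ble (nat_lit 3942) i)) (@Bool.rec (fun _ => ℕ) (@Bool.rec (fun _ => ℕ) l3945 (t3946_3948 i) (Nat.ble (nat_lit 3946) i)) (@Bool.rec (fun _ => ℕ) l3948 (t3949_3951 i) (Nat.ble (nat_lit 3949) i)) (Nat.ble (nat_lit 3948) i)) (Nat.ble (nat_lit 3945) i))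
noncomputable def t3952_3954 (i : ℕ) : ℕ := (@Bool.rec (fun _ => ℕ) l3952 l3953 (Nat.ble (nat_lit 3953) i))
noncomputable def t3955_3957 (i : ℕ) : ℕ := (@Bool.rec (fun _ => ℕ) l3955 l3956 (Nat.ble (nat_lit 3956) i))
noncomputable def t3958_3960 (i : ℕ) : ℕ := (@Bool.rec (fun _ => ℕ) l3958 l3959 (Nat.ble (nat_lit 3959) i))
noncomputable def t3961_3963 (i : ℕ) : ℕ := (@Bool.rec (fun _ => ℕ) l3961 l3962 (Nat.ble (nat_lit 3962) i))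
noncomputable def t3951_3963 (i : ℕ) : ℕ := (@Bool.rec (fun _ => ℕ) (@Bool.rec (fun _ => ℕ) (@Bool.rec (fun _ => ℕ) l3951 (t3952_3954 i) (Nat.ble (nat_lit 3952) i)) (@Bool.rec (fun _ => ℕ) l3954 (t3955_3957 i) (Nat.ble (nat_lit 3955) i)) (Nat.ble (nat_lit 3954) i)) (@Bool.rec (fun _ => ℕ) (@Bool.rec (fun _ => ℕ) l3957 (t3958_3960 i) (Nat.ble (nat_lit 3958) i)) (@Bool.rec (fun _ => ℕ) l3960 (t3961_3963 i) (Nat.ble (nat_lit 3961) i)) (Nat.ble (nat_lit 3960) i)) (Nat.ble (nat_lit 3957) i))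
noncomputable def t3871_3963 (i : ℕ) : ℕ := (@Bool.rec (fun _ => ℕ) (@Bool.rec (fun _ => ℕ) (@Bool.rec (fun _ => ℕ) (t3871_3882 i) (t3882_3894 i) (Nat.ble (nat_lit 3882) i)) (@Bool.rec (fun _ => ℕ) (t3894_3905 i) (t3905_3917 i) (Nat.ble (nat_lit 3905) i)) (Nat.ble (nat_lit 3894) i)) (@Bool.rec (fun _ => ℕ) (@Bool.rec (fun _ => ℕ) (t3917_3928 i) (t3928_3940 i) (Nat.ble (nat_lit 3928) i)) (@Bool.rec (fun _ => ℕ) (t3940_3951 i) (t3951_3963 i) (Nat.ble (nat_lit 3951) i)) (Nat.ble (nat_lit 3940) i)) (Nat.ble (nat_lit 3917) i))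
noncomputable def t3966_3968 (i : ℕ) : ℕ := (@Bool.rec (fun _ => ℕ) l3966 l3967 (Nat.ble (nat_lit 3967) i))
noncomputable def t3969_3971 (i : ℕ) : ℕ := (@Bool.rec (fun _ => ℕ) l3969 l3970 (Nat.ble (nat_lit 3970) i))
noncomputable def t3972_3974 (i : ℕ) : ℕ := (@Bool.rec (fun _ => ℕ) l3972 l3973 (Nat.ble (nat_lit 3973) i))
noncomputable def t3963_3974 (i : ℕ) : ℕ := (@Bool.rec (fun _ => ℕ) (@Bool.rec (fun _ => ℕ) (@Bool.rec (fun _ => ℕ) l3963 l3964 (Nat.ble (nat_lit 3964) i)) (@Bool.rec (fun _ => ℕ) l3965 (t3966_3968 i) (Nat.ble (nat_lit 3966) i)) (Nat.ble (nat_lit 3965) i)) (@Bool.rec (fun _ => ℕ) (@Bool.rec (fun _ => ℕ) l3968 (t3969_3971 i) (Nat.ble (nat_lit 3969) i)) (@Bool.rec (fun _ => ℕ) l3971 (t3972_3974 i) (Nat.ble (nat_lit 3972) i)) (Nat.ble (nat_lit 3971) i)) (Nat.ble (nat_lit 3968) i))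
noncomputable def t3975_3977 (i : ℕ) : ℕ := (@Bool.rec (fun _ => ℕ) l3975 l3976 (Nat.ble (nat_lit 3976) i))
noncomputable def t3978_3980 (i : ℕ) : ℕ := (@Bool.rec (fun _ => ℕ) l3978 l3979 (Nat.ble (nat_lit 3979) i))
noncomputable def t3981_3983 (i : ℕ) : ℕ := (@Bool.rec (fun _ => ℕ) l3981 l3982 (Nat.ble (nat_lit 3982) i))
noncomputable def t3984_3986 (i : ℕ) : ℕ := (@Bool.rec (fun _ => ℕ) l3984 l3985 (Nat.ble (nat_lit 3985) i))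
noncomputable def t3974_3986 (i : ℕ) : ℕ := (@Bool.rec (fun _ => ℕ) (@Bool.rec (fun _ => ℕ) (@Bool.rec (fun _ => ℕ) l3974 (t3975_3977 i) (Nat.ble (nat_lit 3975) i)) (@Bool.rec (fun _ => ℕ) l3977 (t3978_3980 i) (Nat.ble (nat_lit 3978) i)) (Nat.ble (nat_lit 3977) i)) (@Bool.rec (fun _ => ℕ) (@Bool.rec (fun _ => ℕ) l3980 (t3981_3983 i) (Nat.ble (nat_lit 3981) i)) (@Bool.rec (fun _ => ℕ) l3983 (t3984_3986 i) (Nat.ble (nat_lit 3984) i)) (Nat.ble (nat_lit 3983) i)) (Nat.ble (nat_lit 3980) i))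
noncomputable def t3989_3991 (i : ℕ) : ℕ := (@Bool.rec (fun _ => ℕ) l3989 l3990 (Nat.ble (nat_lit 3990) i))
noncomputable def t3992_3994 (i : ℕ) : ℕ := (@Bool.rec (fun _ => ℕ) l3992 l3993 (Nat.ble (nat_lit 3993) i))
noncomputable def t3995_3997 (i : ℕ) : ℕ := (@Bool.rec (fun _ => ℕ) l3995 l3996 (Nat.ble (nat_lit 3996) i))
noncomputable def t3986_3997 (i : ℕ) : ℕ := (@Bool.rec (fun _ => ℕ) (@Bool.rec (fun _ => ℕ) (@Bool.rec (fun _ => ℕ) l3986 l3987 (Nat.ble (nat_lit 3987) i)) (@Bool.rec (fun _ => ℕ) l3988 (t3989_3991 i) (Nat.ble (nat_lit 3989) i)) (Nat.ble (nat_lit 3988) i)) (@Bool.rec (fun _ => ℕ) (@Bool.rec (fun _ => ℕ) l3991 (t3992_3994 i) (Nat.ble (nat_lit 3992) i)) (@Bool.rec (fun _ => ℕ) l3994 (t3995_3997 i) (Nat.ble (nat_lit 3995) i)) (Nat.ble (nat_lit 3994) i)) (Nat.ble (nat_lit 3991) i))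
noncomputable def t3998_4000 (i : ℕ) : ℕ := (@Bool.rec (fun _ => ℕ) l3998 l3999 (Nat.ble (nat_lit 3999) i))
noncomputable def t4001_4003 (i : ℕ) : ℕ := (@Bool.rec (fun _ => ℕ) l4001 l4002 (Nat.ble (nat_lit 4002) i))
noncomputable def t4004_4006 (i : ℕ) : ℕ := (@Bool.rec (fun _ => ℕ) l4004 l4005 (Nat.ble (nat_lit 4005) i))
noncomputable def t4007_4009 (i : ℕ) : ℕ := (@Bool.rec (fun _ => ℕ) l4007 l4008 (Nat.ble (nat_lit 4008) i))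
noncomputable def t3997_4009 (i : ℕ) : ℕ := (@Bool.rec (fun _ => ℕ) (@Bool.rec (fun _ => ℕ) (@Bool.rec (fun _ => ℕ) l3997 (t3998_4000 i) (Nat.ble (nat_lit 3998) i)) (@Bool.rec (fun _ => ℕ) l4000 (t4001_4003 i) (Nat.ble (nat_lit 4001) i)) (Nat.ble (nat_lit 4000) i)) (@Bool.rec (fun _ => ℕ) (@Bool.rec (fun _ => ℕ) l4003 (t4004_4006 i) (Nat.ble (nat_lit 4004) i)) (@Bool.rec (fun _ => ℕ) l4006 (t4007_4009 i) (Nat.ble (nat_lit 4007) i)) (Nat.ble (nat_lit 4006) i)) (Nat.ble (nat_lit 4003) i))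
noncomputable def t4012_4014 (i : ℕ) : ℕ := (@Bool.rec (fun _ => ℕ) l4012 l4013 (Nat.ble (nat_lit 4013) i))
noncomputable def t4015_4017 (i : ℕ) : ℕ := (@Bool.rec (fun _ => ℕ) l4015 l4016 (Nat.ble (nat_lit 4016) i))
noncomputable def t4018_4020 (i : ℕ) : ℕ := (@Bool.rec (fun _ => ℕ) l4018 l4019 (Nat.ble (nat_lit 4019) i))
noncomputable def t4009_4020 (i : ℕ) : ℕ := (@Bool.rec (fun _ => ℕ) (@Bool.rec (fun _ => ℕ) (@Bool.rec (fun _ => ℕ) l4009 l4010 (Nat.ble (nat_lit 4010) i)) (@Bool.rec (fun _ => ℕ) l4011 (t4012_4014 i) (Nat.ble (nat_lit 4012) i)) (Nat.ble (nat_lit 4011) i)) (@Bool.rec (fun _ => ℕ) (@Bool.rec (fun _ => ℕ) l4014 (t4015_4017 i) (Nat.ble (nat_lit 4015) i)) (@Bool.rec (fun _ => ℕ) l4017 (t4018_4020 i) (Nat.ble (nat_lit 4018) i)) (Nat.ble (nat_lit 4017) i)) (Nat.ble (nat_lit 4014) i))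
noncomputable def t4021_4023 (i : ℕ) : ℕ := (@Bool.rec (fun _ => ℕ) l4021 l4022 (Nat.ble (nat_lit 4022) i))
noncomputable def t4024_4026 (i : ℕ) : ℕ := (@Bool.rec (fun _ => ℕ) l4024 l4025 (Nat.ble (nat_lit 4025) i))
noncomputable def t4027_4029 (i : ℕ) : ℕ := (@Bool.rec (fun _ => ℕ) l4027 l4028 (Nat.ble (nat_lit 4028) i))
noncomputable def t4030_4032 (i : ℕ) : ℕ := (@Bool.rec (fun _ => ℕ) l4030 l4031 (Nat.ble (nat_lit 4031) i))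
noncomputable def t4020_4032 (i : ℕ) : ℕ := (@Bool.rec (fun _ => ℕ) (@Bool.rec (fun _ => ℕ) (@Bool.rec (fun _ => ℕ) l4020 (t4021_4023 i) (Nat.ble (nat_lit 4021) i)) (@Bool.rec (fun _ => ℕ) l4023 (t4024_4026 i) (Nat.ble (nat_lit 4024) i)) (Nat.ble (nat_lit 4023) i)) (@Bool.rec (fun _ => ℕ) (@Bool.rec (fun _ => ℕ) l4026 (t4027_4029 i) (Nat.ble (nat_lit 4027) i)) (@Bool.rec (fun _ => ℕ) l4029 (t4030_4032 i) (Nat.ble (nat_lit 4030) i)) (Nat.ble (nat_lit 4029) i)) (Nat.ble (nat_lit 4026) i))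
noncomputable def t4033_4035 (i : ℕ) : ℕ := (@Bool.rec (fun _ => ℕ) l4033 l4034 (Nat.ble (nat_lit 4034) i))
noncomputable def t4036_4038 (i : ℕ) : ℕ := (@Bool.rec (fun _ => ℕ) l4036 l4037 (Nat.ble (nat_lit 4037) i))
noncomputable def t4039_4041 (i : ℕ) : ℕ := (@Bool.rec (fun _ => ℕ) l4039 l4040 (Nat.ble (nat_lit 4040) i))
noncomputable def t4042_4044 (i : ℕ) : ℕ := (@Bool.rec (fun _ => ℕ) l4042 l4043 (Nat.ble (nat_lit 4043) i))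
noncomputable def t4032_4044 (i : ℕ) : ℕ := (@Bool.rec (fun _ => ℕ) (@Bool.rec (fun _ => ℕ) (@Bool.rec (fun _ => ℕ) l4032 (t4033_4035 i) (Nat.ble (nat_lit 4033) i)) (@Bool.rec (fun _ => ℕ) l4035 (t4036_4038 i) (Nat.ble (nat_lit 4036) i)) (Nat.ble (nat_lit 4035) i)) (@Bool.rec (fun _ => ℕ) (@Bool.rec (fun _ => ℕ) l4038 (t4039_4041 i) (Nat.ble (nat_lit 4039) i)) (@Bool.rec (fun _ => ℕ) l4041 (t4042_4044 i) (Nat.ble (nat_lit 4042) i)) (Nat.ble (nat_lit 4041) i)) (Nat.ble (nat_lit 4038) i))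
noncomputable def t4045_4047 (i : ℕ) : ℕ := (@Bool.rec (fun _ => ℕ) l4045 l4046 (Nat.ble (nat_lit 4046) i))
noncomputable def t4048_4050 (i : ℕ) : ℕ := (@Bool.rec (fun _ => ℕ) l4048 l4049 (Nat.ble (nat_lit 4049) i))
noncomputable def t4051_4053 (i : ℕ) : ℕ := (@Bool.rec (fun _ => ℕ) l4051 l4052 (Nat.ble (nat_lit 4052) i))
noncomputable def t4054_4056 (i : ℕ) : ℕ := (@Bool.rec (fun _ => ℕ) l4054 l4055 (Nat.ble (nat_lit 4055) i))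
noncomputable def t4044_4056 (i : ℕ) : ℕ := (@Bool.rec (fun _ => ℕ) (@Bool.rec (fun _ => ℕ) (@Bool.rec (fun _ => ℕ) l4044 (t4045_4047 i) (Nat.ble (nat_lit 4045) i)) (@Bool.rec (fun _ => ℕ) l4047 (t4048_4050 i) (Nat.ble (nat_lit 4048) i)) (Nat.ble (nat_lit 4047) i)) (@Bool.rec (fun _ => ℕ) (@Bool.rec (fun _ => ℕ) l4050 (t4051_4053 i) (Nat.ble (nat_lit 4051) i)) (@Bool.rec (fun _ => ℕ) l4053 (t4054_4056 i) (Nat.ble (nat_lit 4054) i)) (Nat.ble (nat_lit 4053) i)) (Nat.ble (nat_lit 4050) i))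
noncomputable def t3963_4056 (i : ℕ) : ℕ := (@Bool.rec (fun _ => ℕ) (@Bool.rec (fun _ => ℕ) (@Bool.rec (fun _ => ℕ) (t3963_3974 i) (t3974_3986 i) (Nat.ble (nat_lit 3974) i)) (@Bool.rec (fun _ => ℕ) (t3986_3997 i) (t3997_4009 i) (Nat.ble (nat_lit 3997) i)) (Nat.ble (nat_lit 3986) i)) (@Bool.rec (fun _ => ℕ) (@Bool.rec (fun _ => ℕ) (t4009_4020 i) (t4020_4032 i) (Nat.ble (nat_lit 4020) i)) (@Bool.rec (fun _ => ℕ) (t4032_4044 i) (t4044_4056 i) (Nat.ble (nat_lit 4044) i)) (Nat.ble (nat_lit 4032) i)) (Nat.ble (nat_lit 4009) i))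
noncomputable def t4059_4061 (i : ℕ) : ℕ := (@Bool.rec (fun _ => ℕ) l4059 l4060 (Nat.ble (nat_lit 4060) i))
noncomputable def t4062_4064 (i : ℕ) : ℕ := (@Bool.rec (fun _ => ℕ) l4062 l4063 (Nat.ble (nat_lit 4063) i))
noncomputable def t4065_4067 (i : ℕ) : ℕ := (@Bool.rec (fun _ => ℕ) l4065 l4066 (Nat.ble (nat_lit 4066) i))
noncomputable def t4056_4067 (i : ℕ) : ℕ := (@Bool.rec (fun _ => ℕ) (@Bool.rec (fun _ => ℕ) (@Bool.rec (fun _ => ℕ) l4056 l4057 (Nat.ble (nat_lit 4057) i)) (@Bool.rec (fun _ => ℕ) l4058 (t4059_4061 i) (Nat.ble (nat_lit 4059) i)) (Nat.ble (nat_lit 4058) i)) (@Bool.rec (fun _ => ℕ) (@Bool.rec (fun _ => ℕ) l4061 (t4062_4064 i) (Nat.ble (nat_lit 4062) i)) (@Bool.rec (fun _ => ℕ) l4064 (t4065_4067 i) (Nat.ble (nat_lit 4065) i)) (Nat.ble (nat_lit 4064) i)) (Nat.ble (nat_lit 4061) i))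
noncomputable def t4068_4070 (i : ℕ) : ℕ := (@Bool.rec (fun _ => ℕ) l4068 l4069 (Nat.ble (nat_lit 4069) i))
noncomputable def t4071_4073 (i : ℕ) : ℕ := (@Bool.rec (fun _ => ℕ) l4071 l4072 (Nat.ble (nat_lit 4072) i))
noncomputable def t4074_4076 (i : ℕ) : ℕ := (@Bool.rec (fun _ => ℕ) l4074 l4075 (Nat.ble (nat_lit 4075) i))
noncomputable def t4077_4079 (i : ℕ) : ℕ := (@Bool.rec (fun _ => ℕ) l4077 l4078 (Nat.ble (nat_lit 4078) i))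
noncomputable def t4067_4079 (i : ℕ) : ℕ := (@Bool.rec (fun _ => ℕ) (@Bool.rec (fun _ => ℕ) (@Bool.rec (fun _ => ℕ) l4067 (t4068_4070 i) (Nat.ble (nat_lit 4068) i)) (@Bool.rec (fun _ => ℕ) l4070 (t4071_4073 i) (Nat.ble (nat_lit 4071) i)) (Nat.ble (nat_lit 4070) i)) (@Bool.rec (fun _ => ℕ) (@Bool.rec (fun _ => ℕ) l4073 (t4074_4076 i) (Nat.ble (nat_lit 4074) i)) (@Bool.rec (fun _ => ℕ) l4076 (t4077_4079 i) (Nat.ble (nat_lit 4077) i)) (Nat.ble (nat_lit 4076) i)) (Nat.ble (nat_lit 4073) i))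
noncomputable def t4082_4084 (i : ℕ) : ℕ := (@Bool.rec (fun _ => ℕ) l4082 l4083 (Nat.ble (nat_lit 4083) i))
noncomputable def t4085_4087 (i : ℕ) : ℕ := (@Bool.rec (fun _ => ℕ) l4085 l4086 (Nat.ble (nat_lit 4086) i))
noncomputable def t4088_4090 (i : ℕ) : ℕ := (@Bool.rec (fun _ => ℕ) l4088 l4089 (Nat.ble (nat_lit 4089) i))
noncomputable def t4079_4090 (i : ℕ) : ℕ := (@Bool.rec (fun _ => ℕ) (@Bool.rec (fun _ => ℕ) (@Bool.rec (fun _ => ℕ) l4079 l4080 (Nat.ble (nat_lit 4080) i)) (@Bool.rec (fun _ => ℕ) l4081 (t4082_4084 i) (Nat.ble (nat_lit 4082) i)) (Nat.ble (nat_lit 4081) i)) (@Bool.rec (fun _ => ℕ) (@Bool.rec (fun _ => ℕ) l4084 (t4085_4087 i) (Nat.ble (nat_lit 4085) i)) (@Bool.rec (fun _ => ℕ) l4087 (t4088_4090 i) (Nat.ble (nat_lit 4088) i)) (Nat.ble (nat_lit 4087) i)) (Nat.ble (nat_lit 4084) i))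
noncomputable def t4091_4093 (i : ℕ) : ℕ := (@Bool.rec (fun _ => ℕ) l4091 l4092 (Nat.ble (nat_lit 4092) i))
noncomputable def t4094_4096 (i : ℕ) : ℕ := (@Bool.rec (fun _ => ℕ) l4094 l4095 (Nat.ble (nat_lit 4095) i))
noncomputable def t4097_4099 (i : ℕ) : ℕ := (@Bool.rec (fun _ => ℕ) l4097 l4098 (Nat.ble (nat_lit 4098) i))
noncomputable def t4100_4102 (i : ℕ) : ℕ := (@Bool.rec (fun _ => ℕ) l4100 l4101 (Nat.ble (nat_lit 4101) i))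
noncomputable def t4090_4102 (i : ℕ) : ℕ := (@Bool.rec (fun _ => ℕ) (@Bool.rec (fun _ => ℕ) (@Bool.rec (fun _ => ℕ) l4090 (t4091_4093 i) (Nat.ble (nat_lit 4091) i)) (@Bool.rec (fun _ => ℕ) l4093 (t4094_4096 i) (Nat.ble (nat_lit 4094) i)) (Nat.ble (nat_lit 4093) i)) (@Bool.rec (fun _ => ℕ) (@Bool.rec (fun _ => ℕ) l4096 (t4097_4099 i) (Nat.ble (nat_lit 4097) i)) (@Bool.rec (fun _ => ℕ) l4099 (t4100_4102 i) (Nat.ble (nat_lit 4100) i)) (Nat.ble (nat_lit 4099) i)) (Nat.ble (nat_lit 4096) i))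
noncomputable def t4105_4107 (i : ℕ) : ℕ := (@Bool.rec (fun _ => ℕ) l4105 l4106 (Nat.ble (nat_lit 4106) i))
noncomputable def t4108_4110 (i : ℕ) : ℕ := (@Bool.rec (fun _ => ℕ) l4108 l4109 (Nat.ble (nat_lit 4109) i))
noncomputable def t4111_4113 (i : ℕ) : ℕ := (@Bool.rec (fun _ => ℕ) l4111 l4112 (Nat.ble (nat_lit 4112) i))
noncomputable def t4102_4113 (i : ℕ) : ℕ := (@Bool.rec (fun _ => ℕ) (@Bool.rec (fun _ => ℕ) (@Bool.rec (fun _ => ℕ) l4102 l4103 (Nat.ble (nat_lit 4103) i)) (@Bool.rec (fun _ => ℕ) l4104 (t4105_4107 i) (Nat.ble (nat_lit 4105) i)) (Nat.ble (nat_lit 4104) i)) (@Bool.rec (fun _ => ℕ) (@Bool.rec (fun _ => ℕ) l4107 (t4108_4110 i) (Nat.ble (nat_lit 4108) i)) (@Bool.rec (fun _ => ℕ) l4110 (t4111_4113 i) (Nat.ble (nat_lit 4111) i)) (Nat.ble (nat_lit 4110) i)) (Nat.ble (nat_lit 4107) i))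
noncomputable def t4114_4116 (i : ℕ) : ℕ := (@Bool.rec (fun _ => ℕ) l4114 l4115 (Nat.ble (nat_lit 4115) i))
noncomputable def t4117_4119 (i : ℕ) : ℕ := (@Bool.rec (fun _ => ℕ) l4117 l4118 (Nat.ble (nat_lit 4118) i))
noncomputable def t4120_4122 (i : ℕ) : ℕ := (@Bool.rec (fun _ => ℕ) l4120 l4121 (Nat.ble (nat_lit 4121) i))
noncomputable def t4123_4125 (i : ℕ) : ℕ := (@Bool.rec (fun _ => ℕ) l4123 l4124 (Nat.ble (nat_lit 4124) i))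
noncomputable def t4113_4125 (i : ℕ) : ℕ := (@Bool.rec (fun _ => ℕ) (@Bool.rec (fun _ => ℕ) (@Bool.rec (fun _ => ℕ) l4113 (t4114_4116 i) (Nat.ble (nat_lit 4114) i)) (@Bool.rec (fun _ => ℕ) l4116 (t4117_4119 i) (Nat.ble (nat_lit 4117) i)) (Nat.ble (nat_lit 4116) i)) (@Bool.rec (fun _ => ℕ) (@Bool.rec (fun _ => ℕ) l4119 (t4120_4122 i) (Nat.ble (nat_lit 4120) i)) (@Bool.rec (fun _ => ℕ) l4122 (t4123_4125 i) (Nat.ble (nat_lit 4123) i)) (Nat.ble (nat_lit 4122) i)) (Nat.ble (nat_lit 4119) i))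
noncomputable def t4128_4130 (i : ℕ) : ℕ := (@Bool.rec (fun _ => ℕ) l4128 l4129 (Nat.ble (nat_lit 4129) i))
noncomputable def t4131_4133 (i : ℕ) : ℕ := (@Bool.rec (fun _ => ℕ) l4131 l4132 (Nat.ble (nat_lit 4132) i))
noncomputable def t4134_4136 (i : ℕ) : ℕ := (@Bool.rec (fun _ => ℕ) l4134 l4135 (Nat.ble (nat_lit 4135) i))
noncomputable def t4125_4136 (i : ℕ) : ℕ := (@Bool.rec (fun _ => ℕ) (@Bool.rec (fun _ => ℕ) (@Bool.rec (fun _ => ℕ) l4125 l4126 (Nat.ble (nat_lit 4126) i)) (@Bool.rec (fun _ => ℕ) l4127 (t4128_4130 i) (Nat.ble (nat_lit 4128) i)) (Nat.ble (nat_lit 4127) i)) (@Bool.rec (fun _ => ℕ) (@Bool.rec (fun _ => ℕ) l4130 (t4131_4133 i) (Nat.ble (nat_lit 4131) i)) (@Bool.rec (fun _ => ℕ) l4133 (t4134_4136 i) (Nat.ble (nat_lit 4134) i)) (Nat.ble (nat_lit 4133) i)) (Nat.ble (nat_lit 4130) i))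
noncomputable def t4137_4139 (i : ℕ) : ℕ := (@Bool.rec (fun _ => ℕ) l4137 l4138 (Nat.ble (nat_lit 4138) i))
noncomputable def t4140_4142 (i : ℕ) : ℕ := (@Bool.rec (fun _ => ℕ) l4140 l4141 (Nat.ble (nat_lit 4141) i))
noncomputable def t4143_4145 (i : ℕ) : ℕ := (@Bool.rec (fun _ => ℕ) l4143 l4144 (Nat.ble (nat_lit 4144) i))
noncomputable def t4146_4148 (i : ℕ) : ℕ := (@Bool.rec (fun _ => ℕ) l4146 l4147 (Nat.ble (nat_lit 4147) i))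
noncomputable def t4136_4148 (i : ℕ) : ℕ := (@Bool.rec (fun _ => ℕ) (@Bool.rec (fun _ => ℕ) (@Bool.rec (fun _ => ℕ) l4136 (t4137_4139 i) (Nat.ble (nat_lit 4137) i)) (@Bool.rec (fun _ => ℕ) l4139 (t4140_4142 i) (Nat.ble (nat_lit 4140) i)) (Nat.ble (nat_lit 4139) i)) (@Bool.rec (fun _ => ℕ) (@Bool.rec (fun _ => ℕ) l4142 (t4143_4145 i) (Nat.ble (nat_lit 4143) i)) (@Bool.rec (fun _ => ℕ) l4145 (t4146_4148 i) (Nat.ble (nat_lit 4146) i)) (Nat.ble (nat_lit 4145) i)) (Nat.ble (nat_lit 4142) i))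
noncomputable def t4056_4148 (i : ℕ) : ℕ := (@Bool.rec (fun _ => ℕ) (@Bool.rec (fun _ => ℕ) (@Bool.rec (fun _ => ℕ) (t4056_4067 i) (t4067_4079 i) (Nat.ble (nat_lit 4067) i)) (@Bool.rec (fun _ => ℕ) (t4079_4090 i) (t4090_4102 i) (Nat.ble (nat_lit 4090) i)) (Nat.ble (nat_lit 4079) i)) (@Bool.rec (fun _ => ℕ) (@Bool.rec (fun _ => ℕ) (t4102_4113 i) (t4113_4125 i) (Nat.ble (nat_lit 4113) i)) (@Bool.rec (fun _ => ℕ) (t4125_4136 i) (t4136_4148 i) (Nat.ble (nat_lit 4136) i)) (Nat.ble (nat_lit 4125) i)) (Nat.ble (nat_lit 4102) i))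
noncomputable def t4151_4153 (i : ℕ) : ℕ := (@Bool.rec (fun _ => ℕ) l4151 l4152 (Nat.ble (nat_lit 4152) i))
noncomputable def t4154_4156 (i : ℕ) : ℕ := (@Bool.rec (fun _ => ℕ) l4154 l4155 (Nat.ble (nat_lit 4155) i))
noncomputable def t4157_4159 (i : ℕ) : ℕ := (@Bool.rec (fun _ => ℕ) l4157 l4158 (Nat.ble (nat_lit 4158) i))
noncomputable def t4148_4159 (i : ℕ) : ℕ := (@Bool.rec (fun _ => ℕ) (@Bool.rec (fun _ => ℕ) (@Bool.rec (fun _ => ℕ) l4148 l4149 (Nat.ble (nat_lit 4149) i)) (@Bool.rec (fun _ => ℕ) l4150 (t4151_4153 i) (Nat.ble (nat_lit 4151) i)) (Nat.ble (nat_lit 4150) i)) (@Bool.rec (fun _ => ℕ) (@Bool.rec (fun _ => ℕ) l4153 (t4154_4156 i) (Nat.ble (nat_lit 4154) i)) (@Bool.rec (fun _ => ℕ) l4156 (t4157_4159 i) (Nat.ble (nat_lit 4157) i)) (Nat.ble (nat_lit 4156) i)) (Nat.ble (nat_lit 4153) i))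
noncomputable def t4160_4162 (i : ℕ) : ℕ := (@Bool.rec (fun _ => ℕ) l4160 l4161 (Nat.ble (nat_lit 4161) i))
noncomputable def t4163_4165 (i : ℕ) : ℕ := (@Bool.rec (fun _ => ℕ) l4163 l4164 (Nat.ble (nat_lit 4164) i))
noncomputable def t4166_4168 (i : ℕ) : ℕ := (@Bool.rec (fun _ => ℕ) l4166 l4167 (Nat.ble (nat_lit 4167) i))
noncomputable def t4169_4171 (i : ℕ) : ℕ := (@Bool.rec (fun _ => ℕ) l4169 l4170 (Nat.ble (nat_lit 4170) i))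
noncomputable def t4159_4171 (i : ℕ) : ℕ := (@Bool.rec (fun _ => ℕ) (@Bool.rec (fun _ => ℕ) (@Bool.rec (fun _ => ℕ) l4159 (t4160_4162 i) (Nat.ble (nat_lit 4160) i)) (@Bool.rec (fun _ => ℕ) l4162 (t4163_4165 i) (Nat.ble (nat_lit 4163) i)) (Nat.ble (nat_lit 4162) i)) (@Bool.rec (fun _ => ℕ) (@Bool.rec (fun _ => ℕ) l4165 (t4166_4168 i) (Nat.ble (nat_lit 4166) i)) (@Bool.rec (fun _ => ℕ) l4168 (t4169_4171 i) (Nat.ble (nat_lit 4169) i)) (Nat.ble (nat_lit 4168) i)) (Nat.ble (nat_lit 4165) i))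
noncomputable def t4174_4176 (i : ℕ) : ℕ := (@Bool.rec (fun _ => ℕ) l4174 l4175 (Nat.ble (nat_lit 4175) i))
noncomputable def t4177_4179 (i : ℕ) : ℕ := (@Bool.rec (fun _ => ℕ) l4177 l4178 (Nat.ble (nat_lit 4178) i))
noncomputable def t4180_4182 (i : ℕ) : ℕ := (@Bool.rec (fun _ => ℕ) l4180 l4181 (Nat.ble (nat_lit 4181) i))
noncomputable def t4171_4182 (i : ℕ) : ℕ := (@Bool.rec (fun _ => ℕ) (@Bool.rec (fun _ => ℕ) (@Bool.rec (fun _ => ℕ) l4171 l4172 (Nat.ble (nat_lit 4172) i)) (@Bool.rec (fun _ => ℕ) l4173 (t4174_4176 i) (Nat.ble (nat_lit 4174) i)) (Nat.ble (nat_lit 4173) i)) (@Bool.rec (fun _ => ℕ) (@Bool.rec (fun _ => ℕ) l4176 (t4177_4179 i) (Nat.ble (nat_lit 4177) i)) (@Bool.rec (fun _ => ℕ) l4179 (t4180_4182 i) (Nat.ble (nat_lit 4180) i)) (Nat.ble (nat_lit 4179) i)) (Nat.ble (nat_lit 4176) i))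
noncomputable def t4183_4185 (i : ℕ) : ℕ := (@Bool.rec (fun _ => ℕ) l4183 l4184 (Nat.ble (nat_lit 4184) i))
noncomputable def t4186_4188 (i : ℕ) : ℕ := (@Bool.rec (fun _ => ℕ) l4186 l4187 (Nat.ble (nat_lit 4187) i))
noncomputable def t4189_4191 (i : ℕ) : ℕ := (@Bool.rec (fun _ => ℕ) l4189 l4190 (Nat.ble (nat_lit 4190) i))
noncomputable def t4192_4194 (i : ℕ) : ℕ := (@Bool.rec (fun _ => ℕ) l4192 l4193 (Nat.ble (nat_lit 4193) i))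
noncomputable def t4182_4194 (i : ℕ) : ℕ := (@Bool.rec (fun _ => ℕ) (@Bool.rec (fun _ => ℕ) (@Bool.rec (fun _ => ℕ) l4182 (t4183_4185 i) (Nat.ble (nat_lit 4183) i)) (@Bool.rec (fun _ => ℕ) l4185 (t4186_4188 i) (Nat.ble (nat_lit 4186) i)) (Nat.ble (nat_lit 4185) i)) (@Bool.rec (fun _ => ℕ) (@Bool.rec (fun _ => ℕ) l4188 (t4189_4191 i) (Nat.ble (nat_lit 4189) i)) (@Bool.rec (fun _ => ℕ) l4191 (t4192_4194 i) (Nat.ble (nat_lit 4192) i)) (Nat.ble (nat_lit 4191) i)) (Nat.ble (nat_lit 4188) i))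
noncomputable def t4197_4199 (i : ℕ) : ℕ := (@Bool.rec (fun _ => ℕ) l4197 l4198 (Nat.ble (nat_lit 4198) i))
noncomputable def t4200_4202 (i : ℕ) : ℕ := (@Bool.rec (fun _ => ℕ) l4200 l4201 (Nat.ble (nat_lit 4201) i))
noncomputable def t4203_4205 (i : ℕ) : ℕ := (@Bool.rec (fun _ => ℕ) l4203 l4204 (Nat.ble (nat_lit 4204) i))
noncomputable def t4194_4205 (i : ℕ) : ℕ := (@Bool.rec (fun _ => ℕ) (@Bool.rec (fun _ => ℕ) (@Bool.rec (fun _ => ℕ) l4194 l4195 (Nat.ble (nat_lit 4195) i)) (@Bool.rec (fun _ => ℕ) l4196 (t4197_4199 i) (Nat.ble (nat_lit 4197) i)) (Nat.ble (nat_lit 4196) i)) (@Bool.rec (fun _ => ℕ) (@Bool.rec (fun _ => ℕ) l4199 (t4200_4202 i) (Nat.ble (nat_lit 4200) i)) (@Bool.rec (fun _ => ℕ) l4202 (t4203_4205 i) (Nat.ble (nat_lit 4203) i)) (Nat.ble (nat_lit 4202) i)) (Nat.ble (nat_lit 4199) i))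
noncomputable def t4206_4208 (i : ℕ) : ℕ := (@Bool.rec (fun _ => ℕ) l4206 l4207 (Nat.ble (nat_lit 4207) i))
noncomputable def t4209_4211 (i : ℕ) : ℕ := (@Bool.rec (fun _ => ℕ) l4209 l4210 (Nat.ble (nat_lit 4210) i))
noncomputable def t4212_4214 (i : ℕ) : ℕ := (@Bool.rec (fun _ => ℕ) l4212 l4213 (Nat.ble (nat_lit 4213) i))
noncomputable def t4215_4217 (i : ℕ) : ℕ := (@Bool.rec (fun _ => ℕ) l4215 l4216 (Nat.ble (nat_lit 4216) i))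
noncomputable def t4205_4217 (i : ℕ) : ℕ := (@Bool.rec (fun _ => ℕ) (@Bool.rec (fun _ => ℕ) (@Bool.rec (fun _ => ℕ) l4205 (t4206_4208 i) (Nat.ble (nat_lit 4206) i)) (@Bool.rec (fun _ => ℕ) l4208 (t4209_4211 i) (Nat.ble (nat_lit 4209) i)) (Nat.ble (nat_lit 4208) i)) (@Bool.rec (fun _ => ℕ) (@Bool.rec (fun _ => ℕ) l4211 (t4212_4214 i) (Nat.ble (nat_lit 4212) i)) (@Bool.rec (fun _ => ℕ) l4214 (t4215_4217 i) (Nat.ble (nat_lit 4215) i)) (Nat.ble (nat_lit 4214) i)) (Nat.ble (nat_lit 4211) i))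
noncomputable def t4220_4222 (i : ℕ) : ℕ := (@Bool.rec (fun _ => ℕ) l4220 l4221 (Nat.ble (nat_lit 4221) i))
noncomputable def t4223_4225 (i : ℕ) : ℕ := (@Bool.rec (fun _ => ℕ) l4223 l4224 (Nat.ble (nat_lit 4224) i))
noncomputable def t4226_4228 (i : ℕ) : ℕ := (@Bool.rec (fun _ => ℕ) l4226 l4227 (Nat.ble (nat_lit 4227) i))
noncomputable def t4217_4228 (i : ℕ) : ℕ := (@Bool.rec (fun _ => ℕ) (@Bool.rec (fun _ => ℕ) (@Bool.rec (fun _ => ℕ) l4217 l4218 (Nat.ble (nat_lit 4218) i)) (@Bool.rec (fun _ => ℕ) l4219 (t4220_4222 i) (Nat.ble (nat_lit 4220) i)) (Nat.ble (nat_lit 4219) i)) (@Bool.rec (fun _ => ℕ) (@Bool.rec (fun _ => ℕ) l4222 (t4223_4225 i) (Nat.ble (nat_lit 4223) i)) (@Bool.rec (fun _ => ℕ) l4225 (t4226_4228 i) (Nat.ble (nat_lit 4226) i)) (Nat.ble (nat_lit 4225) i)) (Nat.ble (nat_lit 4222) i))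
noncomputable def t4229_4231 (i : ℕ) : ℕ := (@Bool.rec (fun _ => ℕ) l4229 l4230 (Nat.ble (nat_lit 4230) i))
noncomputable def t4232_4234 (i : ℕ) : ℕ := (@Bool.rec (fun _ => ℕ) l4232 l4233 (Nat.ble (nat_lit 4233) i))
noncomputable def t4235_4237 (i : ℕ) : ℕ := (@Bool.rec (fun _ => ℕ) l4235 l4236 (Nat.ble (nat_lit 4236) i))
noncomputable def t4238_4240 (i : ℕ) : ℕ := (@Bool.rec (fun _ => ℕ) l4238 l4239 (Nat.ble (nat_lit 4239) i))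
noncomputable def t4228_4240 (i : ℕ) : ℕ := (@Bool.rec (fun _ => ℕ) (@Bool.rec (fun _ => ℕ) (@Bool.rec (fun _ => ℕ) l4228 (t4229_4231 i) (Nat.ble (nat_lit 4229) i)) (@Bool.rec (fun _ => ℕ) l4231 (t4232_4234 i) (Nat.ble (nat_lit 4232) i)) (Nat.ble (nat_lit 4231) i)) (@Bool.rec (fun _ => ℕ) (@Bool.rec (fun _ => ℕ) l4234 (t4235_4237 i) (Nat.ble (nat_lit 4235) i)) (@Bool.rec (fun _ => ℕ) l4237 (t4238_4240 i) (Nat.ble (nat_lit 4238) i)) (Nat.ble (nat_lit 4237) i)) (Nat.ble (nat_lit 4234) i))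
noncomputable def t4148_4240 (i : ℕ) : ℕ := (@Bool.rec (fun _ => ℕ) (@Bool.rec (fun _ => ℕ) (@Bool.rec (fun _ => ℕ) (t4148_4159 i) (t4159_4171 i) (Nat.ble (nat_lit 4159) i)) (@Bool.rec (fun _ => ℕ) (t4171_4182 i) (t4182_4194 i) (Nat.ble (nat_lit 4182) i)) (Nat.ble (nat_lit 4171) i)) (@Bool.rec (fun _ => ℕ) (@Bool.rec (fun _ => ℕ) (t4194_4205 i) (t4205_4217 i) (Nat.ble (nat_lit 4205) i)) (@Bool.rec (fun _ => ℕ) (t4217_4228 i) (t4228_4240 i) (Nat.ble (nat_lit 4228) i)) (Nat.ble (nat_lit 4217) i)) (Nat.ble (nat_lit 4194) i))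
noncomputable def t4243_4245 (i : ℕ) : ℕ := (@Bool.rec (fun _ => ℕ) l4243 l4244 (Nat.ble (nat_lit 4244) i))
noncomputable def t4246_4248 (i : ℕ) : ℕ := (@Bool.rec (fun _ => ℕ) l4246 l4247 (Nat.ble (nat_lit 4247) i))
noncomputable def t4249_4251 (i : ℕ) : ℕ := (@Bool.rec (fun _ => ℕ) l4249 l4250 (Nat.ble (nat_lit 4250) i))
noncomputable def t4240_4251 (i : ℕ) : ℕ := (@Bool.rec (fun _ => ℕ) (@Bool.rec (fun _ => ℕ) (@Bool.rec (fun _ => ℕ) l4240 l4241 (Nat.ble (nat_lit 4241) i)) (@Bool.rec (fun _ => ℕ) l4242 (t4243_4245 i) (Nat.ble (nat_lit 4243) i)) (Nat.ble (nat_lit 4242) i)) (@Bool.rec (fun _ => ℕ) (@Bool.rec (fun _ => ℕ) l4245 (t4246_4248 i) (Nat.ble (nat_lit 4246) i)) (@Bool.rec (fun _ => ℕ) l4248 (t4249_4251 i) (Nat.ble (nat_lit 4249) i)) (Nat.ble (nat_lit 4248) i)) (Nat.ble (nat_lit 4245) i))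
noncomputable def t4252_4254 (i : ℕ) : ℕ := (@Bool.rec (fun _ => ℕ) l4252 l4253 (Nat.ble (nat_lit 4253) i))
noncomputable def t4255_4257 (i : ℕ) : ℕ := (@Bool.rec (fun _ => ℕ) l4255 l4256 (Nat.ble (nat_lit 4256) i))
noncomputable def t4258_4260 (i : ℕ) : ℕ := (@Bool.rec (fun _ => ℕ) l4258 l4259 (Nat.ble (nat_lit 4259) i))
noncomputable def t4261_4263 (i : ℕ) : ℕ := (@Bool.rec (fun _ => ℕ) l4261 l4262 (Nat.ble (nat_lit 4262) i))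
noncomputable def t4251_4263 (i : ℕ) : ℕ := (@Bool.rec (fun _ => ℕ) (@Bool.rec (fun _ => ℕ) (@Bool.rec (fun _ => ℕ) l4251 (t4252_4254 i) (Nat.ble (nat_lit 4252) i)) (@Bool.rec (fun _ => ℕ) l4254 (t4255_4257 i) (Nat.ble (nat_lit 4255) i)) (Nat.ble (nat_lit 4254) i)) (@Bool.rec (fun _ => ℕ) (@Bool.rec (fun _ => ℕ) l4257 (t4258_4260 i) (Nat.ble (nat_lit 4258) i)) (@Bool.rec (fun _ => ℕ) l4260 (t4261_4263 i) (Nat.ble (nat_lit 4261) i)) (Nat.ble (nat_lit 4260) i)) (Nat.ble (nat_lit 4257) i))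
noncomputable def t4266_4268 (i : ℕ) : ℕ := (@Bool.rec (fun _ => ℕ) l4266 l4267 (Nat.ble (nat_lit 4267) i))
noncomputable def t4269_4271 (i : ℕ) : ℕ := (@Bool.rec (fun _ => ℕ) l4269 l4270 (Nat.ble (nat_lit 4270) i))
noncomputable def t4272_4274 (i : ℕ) : ℕ := (@Bool.rec (fun _ => ℕ) l4272 l4273 (Nat.ble (nat_lit 4273) i))
noncomputable def t4263_4274 (i : ℕ) : ℕ := (@Bool.rec (fun _ => ℕ) (@Bool.rec (fun _ => ℕ) (@Bool.rec (fun _ => ℕ) l4263 l4264 (Nat.ble (nat_lit 4264) i)) (@Bool.rec (fun _ => ℕ) l4265 (t4266_4268 i) (Nat.ble (nat_lit 4266) i)) (Nat.ble (nat_lit 4265) i)) (@Bool.rec (fun _ => ℕ) (@Bool.rec (fun _ => ℕ) l4268 (t4269_4271 i) (Nat.ble (nat_lit 4269) i)) (@Bool.rec (fun _ => ℕ) l4271 (t4272_4274 i) (Nat.ble (nat_lit 4272) i)) (Nat.ble (nat_lit 4271) i)) (Nat.ble (nat_lit 4268) i))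
noncomputable def t4275_4277 (i : ℕ) : ℕ := (@Bool.rec (fun _ => ℕ) l4275 l4276 (Nat.ble (nat_lit 4276) i))
noncomputable def t4278_4280 (i : ℕ) : ℕ := (@Bool.rec (fun _ => ℕ) l4278 l4279 (Nat.ble (nat_lit 4279) i))
noncomputable def t4281_4283 (i : ℕ) : ℕ := (@Bool.rec (fun _ => ℕ) l4281 l4282 (Nat.ble (nat_lit 4282) i))
noncomputable def t4284_4286 (i : ℕ) : ℕ := (@Bool.rec (fun _ => ℕ) l4284 l4285 (Nat.ble (nat_lit 4285) i))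
noncomputable def t4274_4286 (i : ℕ) : ℕ := (@Bool.rec (fun _ => ℕ) (@Bool.rec (fun _ => ℕ) (@Bool.rec (fun _ => ℕ) l4274 (t4275_4277 i) (Nat.ble (nat_lit 4275) i)) (@Bool.rec (fun _ => ℕ) l4277 (t4278_4280 i) (Nat.ble (nat_lit 4278) i)) (Nat.ble (nat_lit 4277) i)) (@Bool.rec (fun _ => ℕ) (@Bool.rec (fun _ => ℕ) l4280 (t4281_4283 i) (Nat.ble (nat_lit 4281) i)) (@Bool.rec (fun _ => ℕ) l4283 (t4284_4286 i) (Nat.ble (nat_lit 4284) i)) (Nat.ble (nat_lit 4283) i)) (Nat.ble (nat_lit 4280) i))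
noncomputable def t4289_4291 (i : ℕ) : ℕ := (@Bool.rec (fun _ => ℕ) l4289 l4290 (Nat.ble (nat_lit 4290) i))
noncomputable def t4292_4294 (i : ℕ) : ℕ := (@Bool.rec (fun _ => ℕ) l4292 l4293 (Nat.ble (nat_lit 4293) i))
noncomputable def t4295_4297 (i : ℕ) : ℕ := (@Bool.rec (fun _ => ℕ) l4295 l4296 (Nat.ble (nat_lit 4296) i))
noncomputable def t4286_4297 (i : ℕ) : ℕ := (@Bool.rec (fun _ => ℕ) (@Bool.rec (fun _ => ℕ) (@Bool.rec (fun _ => ℕ) l4286 l4287 (Nat.ble (nat_lit 4287) i)) (@Bool.rec (fun _ => ℕ) l4288 (t4289_4291 i) (Nat.ble (nat_lit 4289) i)) (Nat.ble (nat_lit 4288) i)) (@Bool.rec (fun _ => ℕ) (@Bool.rec (fun _ => ℕ) l4291 (t4292_4294 i) (Nat.ble (nat_lit 4292) i)) (@Bool.rec (fun _ => ℕ) l4294 (t4295_4297 i) (Nat.ble (nat_lit 4295) i)) (Nat.ble (nat_lit 4294) i)) (Nat.ble (nat_lit 4291) i))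
noncomputable def t4298_4300 (i : ℕ) : ℕ := (@Bool.rec (fun _ => ℕ) l4298 l4299 (Nat.ble (nat_lit 4299) i))
noncomputable def t4301_4303 (i : ℕ) : ℕ := (@Bool.rec (fun _ => ℕ) l4301 l4302 (Nat.ble (nat_lit 4302) i))
noncomputable def t4304_4306 (i : ℕ) : ℕ := (@Bool.rec (fun _ => ℕ) l4304 l4305 (Nat.ble (nat_lit 4305) i))
noncomputable def t4307_4309 (i : ℕ) : ℕ := (@Bool.rec (fun _ => ℕ) l4307 l4308 (Nat.ble (nat_lit 4308) i))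
noncomputable def t4297_4309 (i : ℕ) : ℕ := (@Bool.rec (fun _ => ℕ) (@Bool.rec (fun _ => ℕ) (@Bool.rec (fun _ => ℕ) l4297 (t4298_4300 i) (Nat.ble (nat_lit 4298) i)) (@Bool.rec (fun _ => ℕ) l4300 (t4301_4303 i) (Nat.ble (nat_lit 4301) i)) (Nat.ble (nat_lit 4300) i)) (@Bool.rec (fun _ => ℕ) (@Bool.rec (fun _ => ℕ) l4303 (t4304_4306 i) (Nat.ble (nat_lit 4304) i)) (@Bool.rec (fun _ => ℕ) l4306 (t4307_4309 i) (Nat.ble (nat_lit 4307) i)) (Nat.ble (nat_lit 4306) i)) (Nat.ble (nat_lit 4303) i))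
noncomputable def t4312_4314 (i : ℕ) : ℕ := (@Bool.rec (fun _ => ℕ) l4312 l4313 (Nat.ble (nat_lit 4313) i))
noncomputable def t4315_4317 (i : ℕ) : ℕ := (@Bool.rec (fun _ => ℕ) l4315 l4316 (Nat.ble (nat_lit 4316) i))
noncomputable def t4318_4320 (i : ℕ) : ℕ := (@Bool.rec (fun _ => ℕ) l4318 l4319 (Nat.ble (nat_lit 4319) i))
noncomputable def t4309_4320 (i : ℕ) : ℕ := (@Bool.rec (fun _ => ℕ) (@Bool.rec (fun _ => ℕ) (@Bool.rec (fun _ => ℕ) l4309 l4310 (Nat.ble (nat_lit 4310) i)) (@Bool.rec (fun _ => ℕ) l4311 (t4312_4314 i) (Nat.ble (nat_lit 4312) i)) (Nat.ble (nat_lit 4311) i)) (@Bool.rec (fun _ => ℕ) (@Bool.rec (fun _ => ℕ) l4314 (t4315_4317 i) (Nat.ble (nat_lit 4315) i)) (@Bool.rec (fun _ => ℕ) l4317 (t4318_4320 i) (Nat.ble (nat_lit 4318) i)) (Nat.ble (nat_lit 4317) i)) (Nat.ble (nat_lit 4314) i))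
noncomputable def t4321_4323 (i : ℕ) : ℕ := (@Bool.rec (fun _ => ℕ) l4321 l4322 (Nat.ble (nat_lit 4322) i))
noncomputable def t4324_4326 (i : ℕ) : ℕ := (@Bool.rec (fun _ => ℕ) l4324 l4325 (Nat.ble (nat_lit 4325) i))
noncomputable def t4327_4329 (i : ℕ) : ℕ := (@Bool.rec (fun _ => ℕ) l4327 l4328 (Nat.ble (nat_lit 4328) i))
noncomputable def t4330_4332 (i : ℕ) : ℕ := (@Bool.rec (fun _ => ℕ) l4330 l4331 (Nat.ble (nat_lit 4331) i))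
noncomputable def t4320_4332 (i : ℕ) : ℕ := (@Bool.rec (fun _ => ℕ) (@Bool.rec (fun _ => ℕ) (@Bool.rec (fun _ => ℕ) l4320 (t4321_4323 i) (Nat.ble (nat_lit 4321) i)) (@Bool.rec (fun _ => ℕ) l4323 (t4324_4326 i) (Nat.ble (nat_lit 4324) i)) (Nat.ble (nat_lit 4323) i)) (@Bool.rec (fun _ => ℕ) (@Bool.rec (fun _ => ℕ) l4326 (t4327_4329 i) (Nat.ble (nat_lit 4327) i)) (@Bool.rec (fun _ => ℕ) l4329 (t4330_4332 i) (Nat.ble (nat_lit 4330) i)) (Nat.ble (nat_lit 4329) i)) (Nat.ble (nat_lit 4326) i))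
noncomputable def t4240_4332 (i : ℕ) : ℕ := (@Bool.rec (fun _ => ℕ) (@Bool.rec (fun _ => ℕ) (@Bool.rec (fun _ => ℕ) (t4240_4251 i) (t4251_4263 i) (Nat.ble (nat_lit 4251) i)) (@Bool.rec (fun _ => ℕ) (t4263_4274 i) (t4274_4286 i) (Nat.ble (nat_lit 4274) i)) (Nat.ble (nat_lit 4263) i)) (@Bool.rec (fun _ => ℕ) (@Bool.rec (fun _ => ℕ) (t4286_4297 i) (t4297_4309 i) (Nat.ble (nat_lit 4297) i)) (@Bool.rec (fun _ => ℕ) (t4309_4320 i) (t4320_4332 i) (Nat.ble (nat_lit 4320) i)) (Nat.ble (nat_lit 4309) i)) (Nat.ble (nat_lit 4286) i))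
noncomputable def t4335_4337 (i : ℕ) : ℕ := (@Bool.rec (fun _ => ℕ) l4335 l4336 (Nat.ble (nat_lit 4336) i))
noncomputable def t4338_4340 (i : ℕ) : ℕ := (@Bool.rec (fun _ => ℕ) l4338 l4339 (Nat.ble (nat_lit 4339) i))
noncomputable def t4341_4343 (i : ℕ) : ℕ := (@Bool.rec (fun _ => ℕ) l4341 l4342 (Nat.ble (nat_lit 4342) i))
noncomputable def t4332_4343 (i : ℕ) : ℕ := (@Bool.rec (fun _ => ℕ) (@Bool.rec (fun _ => ℕ) (@Bool.rec (fun _ => ℕ) l4332 l4333 (Nat.ble (nat_lit 4333) i)) (@Bool.rec (fun _ => ℕ) l4334 (t4335_4337 i) (Nat.ble (nat_lit 4335) i)) (Nat.ble (nat_lit 4334) i)) (@Bool.rec (fun _ => ℕ) (@Bool.rec (fun _ => ℕ) l4337 (t4338_4340 i) (Nat.ble (nat_lit 4338) i)) (@Bool.rec (fun _ => ℕ) l4340 (t4341_4343 i) (Nat.ble (nat_lit 4341) i)) (Nat.ble (nat_lit 4340) i)) (Nat.ble (nat_lit 4337) i))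
noncomputable def t4344_4346 (i : ℕ) : ℕ := (@Bool.rec (fun _ => ℕ) l4344 l4345 (Nat.ble (nat_lit 4345) i))
noncomputable def t4347_4349 (i : ℕ) : ℕ := (@Bool.rec (fun _ => ℕ) l4347 l4348 (Nat.ble (nat_lit 4348) i))
noncomputable def t4350_4352 (i : ℕ) : ℕ := (@Bool.rec (fun _ => ℕ) l4350 l4351 (Nat.ble (nat_lit 4351) i))
noncomputable def t4353_4355 (i : ℕ) : ℕ := (@Bool.rec (fun _ => ℕ) l4353 l4354 (Nat.ble (nat_lit 4354) i))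
noncomputable def t4343_4355 (i : ℕ) : ℕ := (@Bool.rec (fun _ => ℕ) (@Bool.rec (fun _ => ℕ) (@Bool.rec (fun _ => ℕ) l4343 (t4344_4346 i) (Nat.ble (nat_lit 4344) i)) (@Bool.rec (fun _ => ℕ) l4346 (t4347_4349 i) (Nat.ble (nat_lit 4347) i)) (Nat.ble (nat_lit 4346) i)) (@Bool.rec (fun _ => ℕ) (@Bool.rec (fun _ => ℕ) l4349 (t4350_4352 i) (Nat.ble (nat_lit 4350) i)) (@Bool.rec (fun _ => ℕ) l4352 (t4353_4355 i) (Nat.ble (nat_lit 4353) i)) (Nat.ble (nat_lit 4352) i)) (Nat.ble (nat_lit 4349) i))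
noncomputable def t4358_4360 (i : ℕ) : ℕ := (@Bool.rec (fun _ => ℕ) l4358 l4359 (Nat.ble (nat_lit 4359) i))
noncomputable def t4361_4363 (i : ℕ) : ℕ := (@Bool.rec (fun _ => ℕ) l4361 l4362 (Nat.ble (nat_lit 4362) i))
noncomputable def t4364_4366 (i : ℕ) : ℕ := (@Bool.rec (fun _ => ℕ) l4364 l4365 (Nat.ble (nat_lit 4365) i))
noncomputable def t4355_4366 (i : ℕ) : ℕ := (@Bool.rec (fun _ => ℕ) (@Bool.rec (fun _ => ℕ) (@Bool.rec (fun _ => ℕ) l4355 l4356 (Nat.ble (nat_lit 4356) i)) (@Bool.rec (fun _ => ℕ) l4357 (t4358_4360 i) (Nat.ble (nat_lit 4358) i)) (Nat.ble (nat_lit 4357) i)) (@Bool.rec (fun _ => ℕ) (@Bool.rec (fun _ => ℕ) l4360 (t4361_4363 i) (Nat.ble (nat_lit 4361) i)) (@Bool.rec (fun _ => ℕ) l4363 (t4364_4366 i) (Nat.ble (nat_lit 4364) i)) (Nat.ble (nat_lit 4363) i)) (Nat.ble (nat_lit 4360) i))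
noncomputable def t4367_4369 (i : ℕ) : ℕ := (@Bool.rec (fun _ => ℕ) l4367 l4368 (Nat.ble (nat_lit 4368) i))
noncomputable def t4370_4372 (i : ℕ) : ℕ := (@Bool.rec (fun _ => ℕ) l4370 l4371 (Nat.ble (nat_lit 4371) i))
noncomputable def t4373_4375 (i : ℕ) : ℕ := (@Bool.rec (fun _ => ℕ) l4373 l4374 (Nat.ble (nat_lit 4374) i))
noncomputable def t4376_4378 (i : ℕ) : ℕ := (@Bool.rec (fun _ => ℕ) l4376 l4377 (Nat.ble (nat_lit 4377) i))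
noncomputable def t4366_4378 (i : ℕ) : ℕ := (@Bool.rec (fun _ => ℕ) (@Bool.rec (fun _ => ℕ) (@Bool.rec (fun _ => ℕ) l4366 (t4367_4369 i) (Nat.ble (nat_lit 4367) i)) (@Bool.rec (fun _ => ℕ) l4369 (t4370_4372 i) (Nat.ble (nat_lit 4370) i)) (Nat.ble (nat_lit 4369) i)) (@Bool.rec (fun _ => ℕ) (@Bool.rec (fun _ => ℕ) l4372 (t4373_4375 i) (Nat.ble (nat_lit 4373) i)) (@Bool.rec (fun _ => ℕ) l4375 (t4376_4378 i) (Nat.ble (nat_lit 4376) i)) (Nat.ble (nat_lit 4375) i)) (Nat.ble (nat_lit 4372) i))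
noncomputable def t4381_4383 (i : ℕ) : ℕ := (@Bool.rec (fun _ => ℕ) l4381 l4382 (Nat.ble (nat_lit 4382) i))
noncomputable def t4384_4386 (i : ℕ) : ℕ := (@Bool.rec (fun _ => ℕ) l4384 l4385 (Nat.ble (nat_lit 4385) i))
noncomputable def t4387_4389 (i : ℕ) : ℕ := (@Bool.rec (fun _ => ℕ) l4387 l4388 (Nat.ble (nat_lit 4388) i))
noncomputable def t4378_4389 (i : ℕ) : ℕ := (@Bool.rec (fun _ => ℕ) (@Bool.rec (fun _ => ℕ) (@Bool.rec (fun _ => ℕ) l4378 l4379 (Nat.ble (nat_lit 4379) i)) (@Bool.rec (fun _ => ℕ) l4380 (t4381_4383 i) (Nat.ble (nat_lit 4381) i)) (Nat.ble (nat_lit 4380) i)) (@Bool.rec (fun _ => ℕ) (@Bool.rec (fun _ => ℕ) l4383 (t4384_4386 i) (Nat.ble (nat_lit 4384) i)) (@Bool.rec (fun _ => ℕ) l4386 (t4387_4389 i) (Nat.ble (nat_lit 4387) i)) (Nat.ble (nat_lit 4386) i)) (Nat.ble (nat_lit 4383) i))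
noncomputable def t4390_4392 (i : ℕ) : ℕ := (@Bool.rec (fun _ => ℕ) l4390 l4391 (Nat.ble (nat_lit 4391) i))
noncomputable def t4393_4395 (i : ℕ) : ℕ := (@Bool.rec (fun _ => ℕ) l4393 l4394 (Nat.ble (nat_lit 4394) i))
noncomputable def t4396_4398 (i : ℕ) : ℕ := (@Bool.rec (fun _ => ℕ) l4396 l4397 (Nat.ble (nat_lit 4397) i))
noncomputable def t4399_4401 (i : ℕ) : ℕ := (@Bool.rec (fun _ => ℕ) l4399 l4400 (Nat.ble (nat_lit 4400) i))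
noncomputable def t4389_4401 (i : ℕ) : ℕ := (@Bool.rec (fun _ => ℕ) (@Bool.rec (fun _ => ℕ) (@Bool.rec (fun _ => ℕ) l4389 (t4390_4392 i) (Nat.ble (nat_lit 4390) i)) (@Bool.rec (fun _ => ℕ) l4392 (t4393_4395 i) (Nat.ble (nat_lit 4393) i)) (Nat.ble (nat_lit 4392) i)) (@Bool.rec (fun _ => ℕ) (@Bool.rec (fun _ => ℕ) l4395 (t4396_4398 i) (Nat.ble (nat_lit 4396) i)) (@Bool.rec (fun _ => ℕ) l4398 (t4399_4401 i) (Nat.ble (nat_lit 4399) i)) (Nat.ble (nat_lit 4398) i)) (Nat.ble (nat_lit 4395) i))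
noncomputable def t4402_4404 (i : ℕ) : ℕ := (@Bool.rec (fun _ => ℕ) l4402 l4403 (Nat.ble (nat_lit 4403) i))
noncomputable def t4405_4407 (i : ℕ) : ℕ := (@Bool.rec (fun _ => ℕ) l4405 l4406 (Nat.ble (nat_lit 4406) i))
noncomputable def t4408_4410 (i : ℕ) : ℕ := (@Bool.rec (fun _ => ℕ) l4408 l4409 (Nat.ble (nat_lit 4409) i))
noncomputable def t4411_4413 (i : ℕ) : ℕ := (@Bool.rec (fun _ => ℕ) l4411 l4412 (Nat.ble (nat_lit 4412) i))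
noncomputable def t4401_4413 (i : ℕ) : ℕ := (@Bool.rec (fun _ => ℕ) (@Bool.rec (fun _ => ℕ) (@Bool.rec (fun _ => ℕ) l4401 (t4402_4404 i) (Nat.ble (nat_lit 4402) i)) (@Bool.rec (fun _ => ℕ) l4404 (t4405_4407 i) (Nat.ble (nat_lit 4405) i)) (Nat.ble (nat_lit 4404) i)) (@Bool.rec (fun _ => ℕ) (@Bool.rec (fun _ => ℕ) l4407 (t4408_4410 i) (Nat.ble (nat_lit 4408) i)) (@Bool.rec (fun _ => ℕ) l4410 (t4411_4413 i) (Nat.ble (nat_lit 4411) i)) (Nat.ble (nat_lit 4410) i)) (Nat.ble (nat_lit 4407) i))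
noncomputable def t4414_4416 (i : ℕ) : ℕ := (@Bool.rec (fun _ => ℕ) l4414 l4415 (Nat.ble (nat_lit 4415) i))
noncomputable def t4417_4419 (i : ℕ) : ℕ := (@Bool.rec (fun _ => ℕ) l4417 l4418 (Nat.ble (nat_lit 4418) i))
noncomputable def t4420_4422 (i : ℕ) : ℕ := (@Bool.rec (fun _ => ℕ) l4420 l4421 (Nat.ble (nat_lit 4421) i))
noncomputable def t4423_4425 (i : ℕ) : ℕ := (@Bool.rec (fun _ => ℕ) l4423 l4424 (Nat.ble (nat_lit 4424) i))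
noncomputable def t4413_4425 (i : ℕ) : ℕ := (@Bool.rec (fun _ => ℕ) (@Bool.rec (fun _ => ℕ) (@Bool.rec (fun _ => ℕ) l4413 (t4414_4416 i) (Nat.ble (nat_lit 4414) i)) (@Bool.rec (fun _ => ℕ) l4416 (t4417_4419 i) (Nat.ble (nat_lit 4417) i)) (Nat.ble (nat_lit 4416) i)) (@Bool.rec (fun _ => ℕ) (@Bool.rec (fun _ => ℕ) l4419 (t4420_4422 i) (Nat.ble (nat_lit 4420) i)) (@Bool.rec (fun _ => ℕ) l4422 (t4423_4425 i) (Nat.ble (nat_lit 4423) i)) (Nat.ble (nat_lit 4422) i)) (Nat.ble (nat_lit 4419) i))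
noncomputable def t4332_4425 (i : ℕ) : ℕ := (@Bool.rec (fun _ => ℕ) (@Bool.rec (fun _ => ℕ) (@Bool.rec (fun _ => ℕ) (t4332_4343 i) (t4343_4355 i) (Nat.ble (nat_lit 4343) i)) (@Bool.rec (fun _ => ℕ) (t4355_4366 i) (t4366_4378 i) (Nat.ble (nat_lit 4366) i)) (Nat.ble (nat_lit 4355) i)) (@Bool.rec (fun _ => ℕ) (@Bool.rec (fun _ => ℕ) (t4378_4389 i) (t4389_4401 i) (Nat.ble (nat_lit 4389) i)) (@Bool.rec (fun _ => ℕ) (t4401_4413 i) (t4413_4425 i) (Nat.ble (nat_lit 4413) i)) (Nat.ble (nat_lit 4401) i)) (Nat.ble (nat_lit 4378) i))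
noncomputable def t3687_4425 (i : ℕ) : ℕ := (@Bool.rec (fun _ => ℕ) (@Bool.rec (fun _ => ℕ) (@Bool.rec (fun _ => ℕ) (t3687_3779 i) (t3779_3871 i) (Nat.ble (nat_lit 3779) i)) (@Bool.rec (fun _ => ℕ) (t3871_3963 i) (t3963_4056 i) (Nat.ble (nat_lit 3963) i)) (Nat.ble (nat_lit 3871) i)) (@Bool.rec (fun _ => ℕ) (@Bool.rec (fun _ => ℕ) (t4056_4148 i) (t4148_4240 i) (Nat.ble (nat_lit 4148) i)) (@Bool.rec (fun _ => ℕ) (t4240_4332 i) (t4332_4425 i) (Nat.ble (nat_lit 4332) i)) (Nat.ble (nat_lit 4240) i)) (Nat.ble (nat_lit 4056) i))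
noncomputable def t4428_4430 (i : ℕ) : ℕ := (@Bool.rec (fun _ => ℕ) l4428 l4429 (Nat.ble (nat_lit 4429) i))
noncomputable def t4431_4433 (i : ℕ) : ℕ := (@Bool.rec (fun _ => ℕ) l4431 l4432 (Nat.ble (nat_lit 4432) i))
noncomputable def t4434_4436 (i : ℕ) : ℕ := (@Bool.rec (fun _ => ℕ) l4434 l4435 (Nat.ble (nat_lit 4435) i))
noncomputable def t4425_4436 (i : ℕ) : ℕ := (@Bool.rec (fun _ => ℕ) (@Bool.rec (fun _ => ℕ) (@Bool.rec (fun _ => ℕ) l4425 l4426 (Nat.ble (nat_lit 4426) i)) (@Bool.rec (fun _ => ℕ) l4427 (t4428_4430 i) (Nat.ble (nat_lit 4428) i)) (Nat.ble (nat_lit 4427) i)) (@Bool.rec (fun _ => ℕ) (@Bool.rec (fun _ => ℕ) l4430 (t4431_4433 i) (Nat.ble (nat_lit 4431) i)) (@Bool.rec (fun _ => ℕ) l4433 (t4434_4436 i) (Nat.ble (nat_lit 4434) i)) (Nat.ble (nat_lit 4433) i)) (Nat.ble (nat_lit 4430) i))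
noncomputable def t4437_4439 (i : ℕ) : ℕ := (@Bool.rec (fun _ => ℕ) l4437 l4438 (Nat.ble (nat_lit 4438) i))
noncomputable def t4440_4442 (i : ℕ) : ℕ := (@Bool.rec (fun _ => ℕ) l4440 l4441 (Nat.ble (nat_lit 4441) i))
noncomputable def t4443_4445 (i : ℕ) : ℕ := (@Bool.rec (fun _ => ℕ) l4443 l4444 (Nat.ble (nat_lit 4444) i))
noncomputable def t4446_4448 (i : ℕ) : ℕ := (@Bool.rec (fun _ => ℕ) l4446 l4447 (Nat.ble (nat_lit 4447) i))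
noncomputable def t4436_4448 (i : ℕ) : ℕ := (@Bool.rec (fun _ => ℕ) (@Bool.rec (fun _ => ℕ) (@Bool.rec (fun _ => ℕ) l4436 (t4437_4439 i) (Nat.ble (nat_lit 4437) i)) (@Bool.rec (fun _ => ℕ) l4439 (t4440_4442 i) (Nat.ble (nat_lit 4440) i)) (Nat.ble (nat_lit 4439) i)) (@Bool.rec (fun _ => ℕ) (@Bool.rec (fun _ => ℕ) l4442 (t4443_4445 i) (Nat.ble (nat_lit 4443) i)) (@Bool.rec (fun _ => ℕ) l4445 (t4446_4448 i) (Nat.ble (nat_lit 4446) i)) (Nat.ble (nat_lit 4445) i)) (Nat.ble (nat_lit 4442) i))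
noncomputable def t4451_4453 (i : ℕ) : ℕ := (@Bool.rec (fun _ => ℕ) l4451 l4452 (Nat.ble (nat_lit 4452) i))
noncomputable def t4454_4456 (i : ℕ) : ℕ := (@Bool.rec (fun _ => ℕ) l4454 l4455 (Nat.ble (nat_lit 4455) i))
noncomputable def t4457_4459 (i : ℕ) : ℕ := (@Bool.rec (fun _ => ℕ) l4457 l4458 (Nat.ble (nat_lit 4458) i))
noncomputable def t4448_4459 (i : ℕ) : ℕ := (@Bool.rec (fun _ => ℕ) (@Bool.rec (fun _ => ℕ) (@Bool.rec (fun _ => ℕ) l4448 l4449 (Nat.ble (nat_lit 4449) i)) (@Bool.rec (fun _ => ℕ) l4450 (t4451_4453 i) (Nat.ble (nat_lit 4451) i)) (Nat.ble (nat_lit 4450) i)) (@Bool.rec (fun _ => ℕ) (@Bool.rec (fun _ => ℕ) l4453 (t4454_4456 i) (Nat.ble (nat_lit 4454) i)) (@Bool.rec (fun _ => ℕ) l4456 (t4457_4459 i) (Nat.ble (nat_lit 4457) i)) (Nat.ble (nat_lit 4456) i)) (Nat.ble (nat_lit 4453) i))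
noncomputable def t4460_4462 (i : ℕ) : ℕ := (@Bool.rec (fun _ => ℕ) l4460 l4461 (Nat.ble (nat_lit 4461) i))
noncomputable def t4463_4465 (i : ℕ) : ℕ := (@Bool.rec (fun _ => ℕ) l4463 l4464 (Nat.ble (nat_lit 4464) i))
noncomputable def t4466_4468 (i : ℕ) : ℕ := (@Bool.rec (fun _ => ℕ) l4466 l4467 (Nat.ble (nat_lit 4467) i))
noncomputable def t4469_4471 (i : ℕ) : ℕ := (@Bool.rec (fun _ => ℕ) l4469 l4470 (Nat.ble (nat_lit 4470) i))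
noncomputable def t4459_4471 (i : ℕ) : ℕ := (@Bool.rec (fun _ => ℕ) (@Bool.rec (fun _ => ℕ) (@Bool.rec (fun _ => ℕ) l4459 (t4460_4462 i) (Nat.ble (nat_lit 4460) i)) (@Bool.rec (fun _ => ℕ) l4462 (t4463_4465 i) (Nat.ble (nat_lit 4463) i)) (Nat.ble (nat_lit 4462) i)) (@Bool.rec (fun _ => ℕ) (@Bool.rec (fun _ => ℕ) l4465 (t4466_4468 i) (Nat.ble (nat_lit 4466) i)) (@Bool.rec (fun _ => ℕ) l4468 (t4469_4471 i) (Nat.ble (nat_lit 4469) i)) (Nat.ble (nat_lit 4468) i)) (Nat.ble (nat_lit 4465) i))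
noncomputable def t4474_4476 (i : ℕ) : ℕ := (@Bool.rec (fun _ => ℕ) l4474 l4475 (Nat.ble (nat_lit 4475) i))
noncomputable def t4477_4479 (i : ℕ) : ℕ := (@Bool.rec (fun _ => ℕ) l4477 l4478 (Nat.ble (nat_lit 4478) i))
noncomputable def t4480_4482 (i : ℕ) : ℕ := (@Bool.rec (fun _ => ℕ) l4480 l4481 (Nat.ble (nat_lit 4481) i))
noncomputable def t4471_4482 (i : ℕ) : ℕ := (@Bool.rec (fun _ => ℕ) (@Bool.rec (fun _ => ℕ) (@Bool.rec (fun _ => ℕ) l4471 l4472 (Nat.ble (nat_lit 4472) i)) (@Bool.rec (fun _ => ℕ) l4473 (t4474_4476 i) (Nat.ble (nat_lit 4474) i)) (Nat.ble (nat_lit 4473) i)) (@Bool.rec (fun _ => ℕ) (@Bool.rec (fun _ => ℕ) l4476 (t4477_4479 i) (Nat.ble (nat_lit 4477) i)) (@Bool.rec (fun _ => ℕ) l4479 (t4480_4482 i) (Nat.ble (nat_lit 4480) i)) (Nat.ble (nat_lit 4479) i)) (Nat.ble (nat_lit 4476) i))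
noncomputable def t4483_4485 (i : ℕ) : ℕ := (@Bool.rec (fun _ => ℕ) l4483 l4484 (Nat.ble (nat_lit 4484) i))
noncomputable def t4486_4488 (i : ℕ) : ℕ := (@Bool.rec (fun _ => ℕ) l4486 l4487 (Nat.ble (nat_lit 4487) i))
noncomputable def t4489_4491 (i : ℕ) : ℕ := (@Bool.rec (fun _ => ℕ) l4489 l4490 (Nat.ble (nat_lit 4490) i))
noncomputable def t4492_4494 (i : ℕ) : ℕ := (@Bool.rec (fun _ => ℕ) l4492 l4493 (Nat.ble (nat_lit 4493) i))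
noncomputable def t4482_4494 (i : ℕ) : ℕ := (@Bool.rec (fun _ => ℕ) (@Bool.rec (fun _ => ℕ) (@Bool.rec (fun _ => ℕ) l4482 (t4483_4485 i) (Nat.ble (nat_lit 4483) i)) (@Bool.rec (fun _ => ℕ) l4485 (t4486_4488 i) (Nat.ble (nat_lit 4486) i)) (Nat.ble (nat_lit 4485) i)) (@Bool.rec (fun _ => ℕ) (@Bool.rec (fun _ => ℕ) l4488 (t4489_4491 i) (Nat.ble (nat_lit 4489) i)) (@Bool.rec (fun _ => ℕ) l4491 (t4492_4494 i) (Nat.ble (nat_lit 4492) i)) (Nat.ble (nat_lit 4491) i)) (Nat.ble (nat_lit 4488) i))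
noncomputable def t4497_4499 (i : ℕ) : ℕ := (@Bool.rec (fun _ => ℕ) l4497 l4498 (Nat.ble (nat_lit 4498) i))
noncomputable def t4500_4502 (i : ℕ) : ℕ := (@Bool.rec (fun _ => ℕ) l4500 l4501 (Nat.ble (nat_lit 4501) i))
noncomputable def t4503_4505 (i : ℕ) : ℕ := (@Bool.rec (fun _ => ℕ) l4503 l4504 (Nat.ble (nat_lit 4504) i))
noncomputable def t4494_4505 (i : ℕ) : ℕ := (@Bool.rec (fun _ => ℕ) (@Bool.rec (fun _ => ℕ) (@Bool.rec (fun _ => ℕ) l4494 l4495 (Nat.ble (nat_lit 4495) i)) (@Bool.rec (fun _ => ℕ) l4496 (t4497_4499 i) (Nat.ble (nat_lit 4497) i)) (Nat.ble (nat_lit 4496) i)) (@Bool.rec (fun _ => ℕ) (@Bool.rec (fun _ => ℕ) l4499 (t4500_4502 i) (Nat.ble (nat_lit 4500) i)) (@Bool.rec (fun _ => ℕ) l4502 (t4503_4505 i) (Nat.ble (nat_lit 4503) i)) (Nat.ble (nat_lit 4502) i)) (Nat.ble (nat_lit 4499) i))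
noncomputable def t4506_4508 (i : ℕ) : ℕ := (@Bool.rec (fun _ => ℕ) l4506 l4507 (Nat.ble (nat_lit 4507) i))
noncomputable def t4509_4511 (i : ℕ) : ℕ := (@Bool.rec (fun _ => ℕ) l4509 l4510 (Nat.ble (nat_lit 4510) i))
noncomputable def t4512_4514 (i : ℕ) : ℕ := (@Bool.rec (fun _ => ℕ) l4512 l4513 (Nat.ble (nat_lit 4513) i))
noncomputable def t4515_4517 (i : ℕ) : ℕ := (@Bool.rec (fun _ => ℕ) l4515 l4516 (Nat.ble (nat_lit 4516) i))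
noncomputable def t4505_4517 (i : ℕ) : ℕ := (@Bool.rec (fun _ => ℕ) (@Bool.rec (fun _ => ℕ) (@Bool.rec (fun _ => ℕ) l4505 (t4506_4508 i) (Nat.ble (nat_lit 4506) i)) (@Bool.rec (fun _ => ℕ) l4508 (t4509_4511 i) (Nat.ble (nat_lit 4509) i)) (Nat.ble (nat_lit 4508) i)) (@Bool.rec (fun _ => ℕ) (@Bool.rec (fun _ => ℕ) l4511 (t4512_4514 i) (Nat.ble (nat_lit 4512) i)) (@Bool.rec (fun _ => ℕ) l4514 (t4515_4517 i) (Nat.ble (nat_lit 4515) i)) (Nat.ble (nat_lit 4514) i)) (Nat.ble (nat_lit 4511) i))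
noncomputable def t4425_4517 (i : ℕ) : ℕ := (@Bool.rec (fun _ => ℕ) (@Bool.rec (fun _ => ℕ) (@Bool.rec (fun _ => ℕ) (t4425_4436 i) (t4436_4448 i) (Nat.ble (nat_lit 4436) i)) (@Bool.rec (fun _ => ℕ) (t4448_4459 i) (t4459_4471 i) (Nat.ble (nat_lit 4459) i)) (Nat.ble (nat_lit 4448) i)) (@Bool.rec (fun _ => ℕ) (@Bool.rec (fun _ => ℕ) (t4471_4482 i) (t4482_4494 i) (Nat.ble (nat_lit 4482) i)) (@Bool.rec (fun _ => ℕ) (t4494_4505 i) (t4505_4517 i) (Nat.ble (nat_lit 4505) i)) (Nat.ble (nat_lit 4494) i)) (Nat.ble (nat_lit 4471) i))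
noncomputable def t4520_4522 (i : ℕ) : ℕ := (@Bool.rec (fun _ => ℕ) l4520 l4521 (Nat.ble (nat_lit 4521) i))
noncomputable def t4523_4525 (i : ℕ) : ℕ := (@Bool.rec (fun _ => ℕ) l4523 l4524 (Nat.ble (nat_lit 4524) i))
noncomputable def t4526_4528 (i : ℕ) : ℕ := (@Bool.rec (fun _ => ℕ) l4526 l4527 (Nat.ble (nat_lit 4527) i))
noncomputable def t4517_4528 (i : ℕ) : ℕ := (@Bool.rec (fun _ => ℕ) (@Bool.rec (fun _ => ℕ) (@Bool.rec (fun _ => ℕ) l4517 l4518 (Nat.ble (nat_lit 4518) i)) (@Bool.rec (fun _ => ℕ) l4519 (t4520_4522 i) (Nat.ble (nat_lit 4520) i)) (Nat.ble (nat_lit 4519) i)) (@Bool.rec (fun _ => ℕ) (@Bool.rec (fun _ => ℕ) l4522 (t4523_4525 i) (Nat.ble (nat_lit 4523) i)) (@Bool.rec (fun _ => ℕ) l4525 (t4526_4528 i) (Nat.ble (nat_lit 4526) i)) (Nat.ble (nat_lit 4525) i)) (Nat.ble (nat_lit 4522) i))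
noncomputable def t4529_4531 (i : ℕ) : ℕ := (@Bool.rec (fun _ => ℕ) l4529 l4530 (Nat.ble (nat_lit 4530) i))
noncomputable def t4532_4534 (i : ℕ) : ℕ := (@Bool.rec (fun _ => ℕ) l4532 l4533 (Nat.ble (nat_lit 4533) i))
noncomputable def t4535_4537 (i : ℕ) : ℕ := (@Bool.rec (fun _ => ℕ) l4535 l4536 (Nat.ble (nat_lit 4536) i))
noncomputable def t4538_4540 (i : ℕ) : ℕ := (@Bool.rec (fun _ => ℕ) l4538 l4539 (Nat.ble (nat_lit 4539) i))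
noncomputable def t4528_4540 (i : ℕ) : ℕ := (@Bool.rec (fun _ => ℕ) (@Bool.rec (fun _ => ℕ) (@Bool.rec (fun _ => ℕ) l4528 (t4529_4531 i) (Nat.ble (nat_lit 4529) i)) (@Bool.rec (fun _ => ℕ) l4531 (t4532_4534 i) (Nat.ble (nat_lit 4532) i)) (Nat.ble (nat_lit 4531) i)) (@Bool.rec (fun _ => ℕ) (@Bool.rec (fun _ => ℕ) l4534 (t4535_4537 i) (Nat.ble (nat_lit 4535) i)) (@Bool.rec (fun _ => ℕ) l4537 (t4538_4540 i) (Nat.ble (nat_lit 4538) i)) (Nat.ble (nat_lit 4537) i)) (Nat.ble (nat_lit 4534) i))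
noncomputable def t4543_4545 (i : ℕ) : ℕ := (@Bool.rec (fun _ => ℕ) l4543 l4544 (Nat.ble (nat_lit 4544) i))
noncomputable def t4546_4548 (i : ℕ) : ℕ := (@Bool.rec (fun _ => ℕ) l4546 l4547 (Nat.ble (nat_lit 4547) i))
noncomputable def t4549_4551 (i : ℕ) : ℕ := (@Bool.rec (fun _ => ℕ) l4549 l4550 (Nat.ble (nat_lit 4550) i))
noncomputable def t4540_4551 (i : ℕ) : ℕ := (@Bool.rec (fun _ => ℕ) (@Bool.rec (fun _ => ℕ) (@Bool.rec (fun _ => ℕ) l4540 l4541 (Nat.ble (nat_lit 4541) i)) (@Bool.rec (fun _ => ℕ) l4542 (t4543_4545 i) (Nat.ble (nat_lit 4543) i)) (Nat.ble (nat_lit 4542) i)) (@Bool.rec (fun _ => ℕ) (@Bool.rec (fun _ => ℕ) l4545 (t4546_4548 i) (Nat.ble (nat_lit 4546) i)) (@Bool.rec (fun _ => ℕ) l4548 (t4549_4551 i) (Nat.ble (nat_lit 4549) i)) (Nat.ble (nat_lit 4548) i)) (Nat.ble (nat_lit 4545) i))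
noncomputable def t4552_4554 (i : ℕ) : ℕ := (@Bool.rec (fun _ => ℕ) l4552 l4553 (Nat.ble (nat_lit 4553) i))
noncomputable def t4555_4557 (i : ℕ) : ℕ := (@Bool.rec (fun _ => ℕ) l4555 l4556 (Nat.ble (nat_lit 4556) i))
noncomputable def t4558_4560 (i : ℕ) : ℕ := (@Bool.rec (fun _ => ℕ) l4558 l4559 (Nat.ble (nat_lit 4559) i))
noncomputable def t4561_4563 (i : ℕ) : ℕ := (@Bool.rec (fun _ => ℕ) l4561 l4562 (Nat.ble (nat_lit 4562) i))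
noncomputable def t4551_4563 (i : ℕ) : ℕ := (@Bool.rec (fun _ => ℕ) (@Bool.rec (fun _ => ℕ) (@Bool.rec (fun _ => ℕ) l4551 (t4552_4554 i) (Nat.ble (nat_lit 4552) i)) (@Bool.rec (fun _ => ℕ) l4554 (t4555_4557 i) (Nat.ble (nat_lit 4555) i)) (Nat.ble (nat_lit 4554) i)) (@Bool.rec (fun _ => ℕ) (@Bool.rec (fun _ => ℕ) l4557 (t4558_4560 i) (Nat.ble (nat_lit 4558) i)) (@Bool.rec (fun _ => ℕ) l4560 (t4561_4563 i) (Nat.ble (nat_lit 4561) i)) (Nat.ble (nat_lit 4560) i)) (Nat.ble (nat_lit 4557) i))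
noncomputable def t4566_4568 (i : ℕ) : ℕ := (@Bool.rec (fun _ => ℕ) l4566 l4567 (Nat.ble (nat_lit 4567) i))
noncomputable def t4569_4571 (i : ℕ) : ℕ := (@Bool.rec (fun _ => ℕ) l4569 l4570 (Nat.ble (nat_lit 4570) i))
noncomputable def t4572_4574 (i : ℕ) : ℕ := (@Bool.rec (fun _ => ℕ) l4572 l4573 (Nat.ble (nat_lit 4573) i))
noncomputable def t4563_4574 (i : ℕ) : ℕ := (@Bool.rec (fun _ => ℕ) (@Bool.rec (fun _ => ℕ) (@Bool.rec (fun _ => ℕ) l4563 l4564 (Nat.ble (nat_lit 4564) i)) (@Bool.rec (fun _ => ℕ) l4565 (t4566_4568 i) (Nat.ble (nat_lit 4566) i)) (Nat.ble (nat_lit 4565) i)) (@Bool.rec (fun _ => ℕ) (@Bool.rec (fun _ => ℕ) l4568 (t4569_4571 i) (Nat.ble (nat_lit 4569) i)) (@Bool.rec (fun _ => ℕ) l4571 (t4572_4574 i) (Nat.ble (nat_lit 4572) i)) (Nat.ble (nat_lit 4571) i)) (Nat.ble (nat_lit 4568) i))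
noncomputable def t4575_4577 (i : ℕ) : ℕ := (@Bool.rec (fun _ => ℕ) l4575 l4576 (Nat.ble (nat_lit 4576) i))
noncomputable def t4578_4580 (i : ℕ) : ℕ := (@Bool.rec (fun _ => ℕ) l4578 l4579 (Nat.ble (nat_lit 4579) i))
noncomputable def t4581_4583 (i : ℕ) : ℕ := (@Bool.rec (fun _ => ℕ) l4581 l4582 (Nat.ble (nat_lit 4582) i))
noncomputable def t4584_4586 (i : ℕ) : ℕ := (@Bool.rec (fun _ => ℕ) l4584 l4585 (Nat.ble (nat_lit 4585) i))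
noncomputable def t4574_4586 (i : ℕ) : ℕ := (@Bool.rec (fun _ => ℕ) (@Bool.rec (fun _ => ℕ) (@Bool.rec (fun _ => ℕ) l4574 (t4575_4577 i) (Nat.ble (nat_lit 4575) i)) (@Bool.rec (fun _ => ℕ) l4577 (t4578_4580 i) (Nat.ble (nat_lit 4578) i)) (Nat.ble (nat_lit 4577) i)) (@Bool.rec (fun _ => ℕ) (@Bool.rec (fun _ => ℕ) l4580 (t4581_4583 i) (Nat.ble (nat_lit 4581) i)) (@Bool.rec (fun _ => ℕ) l4583 (t4584_4586 i) (Nat.ble (nat_lit 4584) i)) (Nat.ble (nat_lit 4583) i)) (Nat.ble (nat_lit 4580) i))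
noncomputable def t4589_4591 (i : ℕ) : ℕ := (@Bool.rec (fun _ => ℕ) l4589 l4590 (Nat.ble (nat_lit 4590) i))
noncomputable def t4592_4594 (i : ℕ) : ℕ := (@Bool.rec (fun _ => ℕ) l4592 l4593 (Nat.ble (nat_lit 4593) i))
noncomputable def t4595_4597 (i : ℕ) : ℕ := (@Bool.rec (fun _ => ℕ) l4595 l4596 (Nat.ble (nat_lit 4596) i))
noncomputable def t4586_4597 (i : ℕ) : ℕ := (@Bool.rec (fun _ => ℕ) (@Bool.rec (fun _ => ℕ) (@Bool.rec (fun _ => ℕ) l4586 l4587 (Nat.ble (nat_lit 4587) i)) (@Bool.rec (fun _ => ℕ) l4588 (t4589_4591 i) (Nat.ble (nat_lit 4589) i)) (Nat.ble (nat_lit 4588) i)) (@Bool.rec (fun _ => ℕ) (@Bool.rec (fun _ => ℕ) l4591 (t4592_4594 i) (Nat.ble (nat_lit 4592) i)) (@Bool.rec (fun _ => ℕ) l4594 (t4595_4597 i) (Nat.ble (nat_lit 4595) i)) (Nat.ble (nat_lit 4594) i)) (Nat.ble (nat_lit 4591) i))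
noncomputable def t4598_4600 (i : ℕ) : ℕ := (@Bool.rec (fun _ => ℕ) l4598 l4599 (Nat.ble (nat_lit 4599) i))
noncomputable def t4601_4603 (i : ℕ) : ℕ := (@Bool.rec (fun _ => ℕ) l4601 l4602 (Nat.ble (nat_lit 4602) i))
noncomputable def t4604_4606 (i : ℕ) : ℕ := (@Bool.rec (fun _ => ℕ) l4604 l4605 (Nat.ble (nat_lit 4605) i))
noncomputable def t4607_4609 (i : ℕ) : ℕ := (@Bool.rec (fun _ => ℕ) l4607 l4608 (Nat.ble (nat_lit 4608) i))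
noncomputable def t4597_4609 (i : ℕ) : ℕ := (@Bool.rec (fun _ => ℕ) (@Bool.rec (fun _ => ℕ) (@Bool.rec (fun _ => ℕ) l4597 (t4598_4600 i) (Nat.ble (nat_lit 4598) i)) (@Bool.rec (fun _ => ℕ) l4600 (t4601_4603 i) (Nat.ble (nat_lit 4601) i)) (Nat.ble (nat_lit 4600) i)) (@Bool.rec (fun _ => ℕ) (@Bool.rec (fun _ => ℕ) l4603 (t4604_4606 i) (Nat.ble (nat_lit 4604) i)) (@Bool.rec (fun _ => ℕ) l4606 (t4607_4609 i) (Nat.ble (nat_lit 4607) i)) (Nat.ble (nat_lit 4606) i)) (Nat.ble (nat_lit 4603) i))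
noncomputable def t4517_4609 (i : ℕ) : ℕ := (@Bool.rec (fun _ => ℕ) (@Bool.rec (fun _ => ℕ) (@Bool.rec (fun _ => ℕ) (t4517_4528 i) (t4528_4540 i) (Nat.ble (nat_lit 4528) i)) (@Bool.rec (fun _ => ℕ) (t4540_4551 i) (t4551_4563 i) (Nat.ble (nat_lit 4551) i)) (Nat.ble (nat_lit 4540) i)) (@Bool.rec (fun _ => ℕ) (@Bool.rec (fun _ => ℕ) (t4563_4574 i) (t4574_4586 i) (Nat.ble (nat_lit 4574) i)) (@Bool.rec (fun _ => ℕ) (t4586_4597 i) (t4597_4609 i) (Nat.ble (nat_lit 4597) i)) (Nat.ble (nat_lit 4586) i)) (Nat.ble (nat_lit 4563) i))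
noncomputable def t4612_4614 (i : ℕ) : ℕ := (@Bool.rec (fun _ => ℕ) l4612 l4613 (Nat.ble (nat_lit 4613) i))
noncomputable def t4615_4617 (i : ℕ) : ℕ := (@Bool.rec (fun _ => ℕ) l4615 l4616 (Nat.ble (nat_lit 4616) i))
noncomputable def t4618_4620 (i : ℕ) : ℕ := (@Bool.rec (fun _ => ℕ) l4618 l4619 (Nat.ble (nat_lit 4619) i))
noncomputable def t4609_4620 (i : ℕ) : ℕ := (@Bool.rec (fun _ => ℕ) (@Bool.rec (fun _ => ℕ) (@Bool.rec (fun _ => ℕ) l4609 l4610 (Nat.ble (nat_lit 4610) i)) (@Bool.rec (fun _ => ℕ) l4611 (t4612_4614 i) (Nat.ble (nat_lit 4612) i)) (Nat.ble (nat_lit 4611) i)) (@Bool.rec (fun _ => ℕ) (@Bool.rec (fun _ => ℕ) l4614 (t4615_4617 i) (Nat.ble (nat_lit 4615) i)) (@Bool.rec (fun _ => ℕ) l4617 (t4618_4620 i) (Nat.ble (nat_lit 4618) i)) (Nat.ble (nat_lit 4617) i)) (Nat.ble (nat_lit 4614) i))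
noncomputable def t4621_4623 (i : ℕ) : ℕ := (@Bool.rec (fun _ => ℕ) l4621 l4622 (Nat.ble (nat_lit 4622) i))
noncomputable def t4624_4626 (i : ℕ) : ℕ := (@Bool.rec (fun _ => ℕ) l4624 l4625 (Nat.ble (nat_lit 4625) i))
noncomputable def t4627_4629 (i : ℕ) : ℕ := (@Bool.rec (fun _ => ℕ) l4627 l4628 (Nat.ble (nat_lit 4628) i))
noncomputable def t4630_4632 (i : ℕ) : ℕ := (@Bool.rec (fun _ => ℕ) l4630 l4631 (Nat.ble (nat_lit 4631) i))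
noncomputable def t4620_4632 (i : ℕ) : ℕ := (@Bool.rec (fun _ => ℕ) (@Bool.rec (fun _ => ℕ) (@Bool.rec (fun _ => ℕ) l4620 (t4621_4623 i) (Nat.ble (nat_lit 4621) i)) (@Bool.rec (fun _ => ℕ) l4623 (t4624_4626 i) (Nat.ble (nat_lit 4624) i)) (Nat.ble (nat_lit 4623) i)) (@Bool.rec (fun _ => ℕ) (@Bool.rec (fun _ => ℕ) l4626 (t4627_4629 i) (Nat.ble (nat_lit 4627) i)) (@Bool.rec (fun _ => ℕ) l4629 (t4630_4632 i) (Nat.ble (nat_lit 4630) i)) (Nat.ble (nat_lit 4629) i)) (Nat.ble (nat_lit 4626) i))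
noncomputable def t4635_4637 (i : ℕ) : ℕ := (@Bool.rec (fun _ => ℕ) l4635 l4636 (Nat.ble (nat_lit 4636) i))
noncomputable def t4638_4640 (i : ℕ) : ℕ := (@Bool.rec (fun _ => ℕ) l4638 l4639 (Nat.ble (nat_lit 4639) i))
noncomputable def t4641_4643 (i : ℕ) : ℕ := (@Bool.rec (fun _ => ℕ) l4641 l4642 (Nat.ble (nat_lit 4642) i))
noncomputable def t4632_4643 (i : ℕ) : ℕ := (@Bool.rec (fun _ => ℕ) (@Bool.rec (fun _ => ℕ) (@Bool.rec (fun _ => ℕ) l4632 l4633 (Nat.ble (nat_lit 4633) i)) (@Bool.rec (fun _ => ℕ) l4634 (t4635_4637 i) (Nat.ble (nat_lit 4635) i)) (Nat.ble (nat_lit 4634) i)) (@Bool.rec (fun _ => ℕ) (@Bool.rec (fun _ => ℕ) l4637 (t4638_4640 i) (Nat.ble (nat_lit 4638) i)) (@Bool.rec (fun _ => ℕ) l4640 (t4641_4643 i) (Nat.ble (nat_lit 4641) i)) (Nat.ble (nat_lit 4640) i)) (Nat.ble (nat_lit 4637) i))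
noncomputable def t4644_4646 (i : ℕ) : ℕ := (@Bool.rec (fun _ => ℕ) l4644 l4645 (Nat.ble (nat_lit 4645) i))
noncomputable def t4647_4649 (i : ℕ) : ℕ := (@Bool.rec (fun _ => ℕ) l4647 l4648 (Nat.ble (nat_lit 4648) i))
noncomputable def t4650_4652 (i : ℕ) : ℕ := (@Bool.rec (fun _ => ℕ) l4650 l4651 (Nat.ble (nat_lit 4651) i))
noncomputable def t4653_4655 (i : ℕ) : ℕ := (@Bool.rec (fun _ => ℕ) l4653 l4654 (Nat.ble (nat_lit 4654) i))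
noncomputable def t4643_4655 (i : ℕ) : ℕ := (@Bool.rec (fun _ => ℕ) (@Bool.rec (fun _ => ℕ) (@Bool.rec (fun _ => ℕ) l4643 (t4644_4646 i) (Nat.ble (nat_lit 4644) i)) (@Bool.rec (fun _ => ℕ) l4646 (t4647_4649 i) (Nat.ble (nat_lit 4647) i)) (Nat.ble (nat_lit 4646) i)) (@Bool.rec (fun _ => ℕ) (@Bool.rec (fun _ => ℕ) l4649 (t4650_4652 i) (Nat.ble (nat_lit 4650) i)) (@Bool.rec (fun _ => ℕ) l4652 (t4653_4655 i) (Nat.ble (nat_lit 4653) i)) (Nat.ble (nat_lit 4652) i)) (Nat.ble (nat_lit 4649) i))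
noncomputable def t4658_4660 (i : ℕ) : ℕ := (@Bool.rec (fun _ => ℕ) l4658 l4659 (Nat.ble (nat_lit 4659) i))
noncomputable def t4661_4663 (i : ℕ) : ℕ := (@Bool.rec (fun _ => ℕ) l4661 l4662 (Nat.ble (nat_lit 4662) i))
noncomputable def t4664_4666 (i : ℕ) : ℕ := (@Bool.rec (fun _ => ℕ) l4664 l4665 (Nat.ble (nat_lit 4665) i))
noncomputable def t4655_4666 (i : ℕ) : ℕ := (@Bool.rec (fun _ => ℕ) (@Bool.rec (fun _ => ℕ) (@Bool.rec (fun _ => ℕ) l4655 l4656 (Nat.ble (nat_lit 4656) i)) (@Bool.rec (fun _ => ℕ) l4657 (t4658_4660 i) (Nat.ble (nat_lit 4658) i)) (Nat.ble (nat_lit 4657) i)) (@Bool.rec (fun _ => ℕ) (@Bool.rec (fun _ => ℕ) l4660 (t4661_4663 i) (Nat.ble (nat_lit 4661) i)) (@Bool.rec (fun _ => ℕ) l4663 (t4664_4666 i) (Nat.ble (nat_lit 4664) i)) (Nat.ble (nat_lit 4663) i)) (Nat.ble (nat_lit 4660) i))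
noncomputable def t4667_4669 (i : ℕ) : ℕ := (@Bool.rec (fun _ => ℕ) l4667 l4668 (Nat.ble (nat_lit 4668) i))
noncomputable def t4670_4672 (i : ℕ) : ℕ := (@Bool.rec (fun _ => ℕ) l4670 l4671 (Nat.ble (nat_lit 4671) i))
noncomputable def t4673_4675 (i : ℕ) : ℕ := (@Bool.rec (fun _ => ℕ) l4673 l4674 (Nat.ble (nat_lit 4674) i))
noncomputable def t4676_4678 (i : ℕ) : ℕ := (@Bool.rec (fun _ => ℕ) l4676 l4677 (Nat.ble (nat_lit 4677) i))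
noncomputable def t4666_4678 (i : ℕ) : ℕ := (@Bool.rec (fun _ => ℕ) (@Bool.rec (fun _ => ℕ) (@Bool.rec (fun _ => ℕ) l4666 (t4667_4669 i) (Nat.ble (nat_lit 4667) i)) (@Bool.rec (fun _ => ℕ) l4669 (t4670_4672 i) (Nat.ble (nat_lit 4670) i)) (Nat.ble (nat_lit 4669) i)) (@Bool.rec (fun _ => ℕ) (@Bool.rec (fun _ => ℕ) l4672 (t4673_4675 i) (Nat.ble (nat_lit 4673) i)) (@Bool.rec (fun _ => ℕ) l4675 (t4676_4678 i) (Nat.ble (nat_lit 4676) i)) (Nat.ble (nat_lit 4675) i)) (Nat.ble (nat_lit 4672) i))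
noncomputable def t4681_4683 (i : ℕ) : ℕ := (@Bool.rec (fun _ => ℕ) l4681 l4682 (Nat.ble (nat_lit 4682) i))
noncomputable def t4684_4686 (i : ℕ) : ℕ := (@Bool.rec (fun _ => ℕ) l4684 l4685 (Nat.ble (nat_lit 4685) i))
noncomputable def t4687_4689 (i : ℕ) : ℕ := (@Bool.rec (fun _ => ℕ) l4687 l4688 (Nat.ble (nat_lit 4688) i))
noncomputable def t4678_4689 (i : ℕ) : ℕ := (@Bool.rec (fun _ => ℕ) (@Bool.rec (fun _ => ℕ) (@Bool.rec (fun _ => ℕ) l4678 l4679 (Nat.ble (nat_lit 4679) i)) (@Bool.rec (fun _ => ℕ) l4680 (t4681_4683 i) (Nat.ble (nat_lit 4681) i)) (Nat.ble (nat_lit 4680) i)) (@Bool.rec (fun _ => ℕ) (@Bool.rec (fun _ => ℕ) l4683 (t4684_4686 i) (Nat.ble (nat_lit 4684) i)) (@Bool.rec (fun _ => ℕ) l4686 (t4687_4689 i) (Nat.ble (nat_lit 4687) i)) (Nat.ble (nat_lit 4686) i)) (Nat.ble (nat_lit 4683) i))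
noncomputable def t4690_4692 (i : ℕ) : ℕ := (@Bool.rec (fun _ => ℕ) l4690 l4691 (Nat.ble (nat_lit 4691) i))
noncomputable def t4693_4695 (i : ℕ) : ℕ := (@Bool.rec (fun _ => ℕ) l4693 l4694 (Nat.ble (nat_lit 4694) i))
noncomputable def t4696_4698 (i : ℕ) : ℕ := (@Bool.rec (fun _ => ℕ) l4696 l4697 (Nat.ble (nat_lit 4697) i))
noncomputable def t4699_4701 (i : ℕ) : ℕ := (@Bool.rec (fun _ => ℕ) l4699 l4700 (Nat.ble (nat_lit 4700) i))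
noncomputable def t4689_4701 (i : ℕ) : ℕ := (@Bool.rec (fun _ => ℕ) (@Bool.rec (fun _ => ℕ) (@Bool.rec (fun _ => ℕ) l4689 (t4690_4692 i) (Nat.ble (nat_lit 4690) i)) (@Bool.rec (fun _ => ℕ) l4692 (t4693_4695 i) (Nat.ble (nat_lit 4693) i)) (Nat.ble (nat_lit 4692) i)) (@Bool.rec (fun _ => ℕ) (@Bool.rec (fun _ => ℕ) l4695 (t4696_4698 i) (Nat.ble (nat_lit 4696) i)) (@Bool.rec (fun _ => ℕ) l4698 (t4699_4701 i) (Nat.ble (nat_lit 4699) i)) (Nat.ble (nat_lit 4698) i)) (Nat.ble (nat_lit 4695) i))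
noncomputable def t4609_4701 (i : ℕ) : ℕ := (@Bool.rec (fun _ => ℕ) (@Bool.rec (fun _ => ℕ) (@Bool.rec (fun _ => ℕ) (t4609_4620 i) (t4620_4632 i) (Nat.ble (nat_lit 4620) i)) (@Bool.rec (fun _ => ℕ) (t4632_4643 i) (t4643_4655 i) (Nat.ble (nat_lit 4643) i)) (Nat.ble (nat_lit 4632) i)) (@Bool.rec (fun _ => ℕ) (@Bool.rec (fun _ => ℕ) (t4655_4666 i) (t4666_4678 i) (Nat.ble (nat_lit 4666) i)) (@Bool.rec (fun _ => ℕ) (t4678_4689 i) (t4689_4701 i) (Nat.ble (nat_lit 4689) i)) (Nat.ble (nat_lit 4678) i)) (Nat.ble (nat_lit 4655) i))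
noncomputable def t4704_4706 (i : ℕ) : ℕ := (@Bool.rec (fun _ => ℕ) l4704 l4705 (Nat.ble (nat_lit 4705) i))
noncomputable def t4707_4709 (i : ℕ) : ℕ := (@Bool.rec (fun _ => ℕ) l4707 l4708 (Nat.ble (nat_lit 4708) i))
noncomputable def t4710_4712 (i : ℕ) : ℕ := (@Bool.rec (fun _ => ℕ) l4710 l4711 (Nat.ble (nat_lit 4711) i))
noncomputable def t4701_4712 (i : ℕ) : ℕ := (@Bool.rec (fun _ => ℕ) (@Bool.rec (fun _ => ℕ) (@Bool.rec (fun _ => ℕ) l4701 l4702 (Nat.ble (nat_lit 4702) i)) (@Bool.rec (fun _ => ℕ) l4703 (t4704_4706 i) (Nat.ble (nat_lit 4704) i)) (Nat.ble (nat_lit 4703) i)) (@Bool.rec (fun _ => ℕ) (@Bool.rec (fun _ => ℕ) l4706 (t4707_4709 i) (Nat.ble (nat_lit 4707) i)) (@Bool.rec (fun _ => ℕ) l4709 (t4710_4712 i) (Nat.ble (nat_lit 4710) i)) (Nat.ble (nat_lit 4709) i)) (Nat.ble (nat_lit 4706) i))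
noncomputable def t4713_4715 (i : ℕ) : ℕ := (@Bool.rec (fun _ => ℕ) l4713 l4714 (Nat.ble (nat_lit 4714) i))
noncomputable def t4716_4718 (i : ℕ) : ℕ := (@Bool.rec (fun _ => ℕ) l4716 l4717 (Nat.ble (nat_lit 4717) i))
noncomputable def t4719_4721 (i : ℕ) : ℕ := (@Bool.rec (fun _ => ℕ) l4719 l4720 (Nat.ble (nat_lit 4720) i))
noncomputable def t4722_4724 (i : ℕ) : ℕ := (@Bool.rec (fun _ => ℕ) l4722 l4723 (Nat.ble (nat_lit 4723) i))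
noncomputable def t4712_4724 (i : ℕ) : ℕ := (@Bool.rec (fun _ => ℕ) (@Bool.rec (fun _ => ℕ) (@Bool.rec (fun _ => ℕ) l4712 (t4713_4715 i) (Nat.ble (nat_lit 4713) i)) (@Bool.rec (fun _ => ℕ) l4715 (t4716_4718 i) (Nat.ble (nat_lit 4716) i)) (Nat.ble (nat_lit 4715) i)) (@Bool.rec (fun _ => ℕ) (@Bool.rec (fun _ => ℕ) l4718 (t4719_4721 i) (Nat.ble (nat_lit 4719) i)) (@Bool.rec (fun _ => ℕ) l4721 (t4722_4724 i) (Nat.ble (nat_lit 4722) i)) (Nat.ble (nat_lit 4721) i)) (Nat.ble (nat_lit 4718) i))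
noncomputable def t4727_4729 (i : ℕ) : ℕ := (@Bool.rec (fun _ => ℕ) l4727 l4728 (Nat.ble (nat_lit 4728) i))
noncomputable def t4730_4732 (i : ℕ) : ℕ := (@Bool.rec (fun _ => ℕ) l4730 l4731 (Nat.ble (nat_lit 4731) i))
noncomputable def t4733_4735 (i : ℕ) : ℕ := (@Bool.rec (fun _ => ℕ) l4733 l4734 (Nat.ble (nat_lit 4734) i))
noncomputable def t4724_4735 (i : ℕ) : ℕ := (@Bool.rec (fun _ => ℕ) (@Bool.rec (fun _ => ℕ) (@Bool.rec (fun _ => ℕ) l4724 l4725 (Nat.ble (nat_lit 4725) i)) (@Bool.rec (fun _ => ℕ) l4726 (t4727_4729 i) (Nat.ble (nat_lit 4727) i)) (Nat.ble (nat_lit 4726) i)) (@Bool.rec (fun _ => ℕ) (@Bool.rec (fun _ => ℕ) l4729 (t4730_4732 i) (Nat.ble (nat_lit 4730) i)) (@Bool.rec (fun _ => ℕ) l4732 (t4733_4735 i) (Nat.ble (nat_lit 4733) i)) (Nat.ble (nat_lit 4732) i)) (Nat.ble (nat_lit 4729) i))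
noncomputable def t4736_4738 (i : ℕ) : ℕ := (@Bool.rec (fun _ => ℕ) l4736 l4737 (Nat.ble (nat_lit 4737) i))
noncomputable def t4739_4741 (i : ℕ) : ℕ := (@Bool.rec (fun _ => ℕ) l4739 l4740 (Nat.ble (nat_lit 4740) i))
noncomputable def t4742_4744 (i : ℕ) : ℕ := (@Bool.rec (fun _ => ℕ) l4742 l4743 (Nat.ble (nat_lit 4743) i))
noncomputable def t4745_4747 (i : ℕ) : ℕ := (@Bool.rec (fun _ => ℕ) l4745 l4746 (Nat.ble (nat_lit 4746) i))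
noncomputable def t4735_4747 (i : ℕ) : ℕ := (@Bool.rec (fun _ => ℕ) (@Bool.rec (fun _ => ℕ) (@Bool.rec (fun _ => ℕ) l4735 (t4736_4738 i) (Nat.ble (nat_lit 4736) i)) (@Bool.rec (fun _ => ℕ) l4738 (t4739_4741 i) (Nat.ble (nat_lit 4739) i)) (Nat.ble (nat_lit 4738) i)) (@Bool.rec (fun _ => ℕ) (@Bool.rec (fun _ => ℕ) l4741 (t4742_4744 i) (Nat.ble (nat_lit 4742) i)) (@Bool.rec (fun _ => ℕ) l4744 (t4745_4747 i) (Nat.ble (nat_lit 4745) i)) (Nat.ble (nat_lit 4744) i)) (Nat.ble (nat_lit 4741) i))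
noncomputable def t4750_4752 (i : ℕ) : ℕ := (@Bool.rec (fun _ => ℕ) l4750 l4751 (Nat.ble (nat_lit 4751) i))
noncomputable def t4753_4755 (i : ℕ) : ℕ := (@Bool.rec (fun _ => ℕ) l4753 l4754 (Nat.ble (nat_lit 4754) i))
noncomputable def t4756_4758 (i : ℕ) : ℕ := (@Bool.rec (fun _ => ℕ) l4756 l4757 (Nat.ble (nat_lit 4757) i))
noncomputable def t4747_4758 (i : ℕ) : ℕ := (@Bool.rec (fun _ => ℕ) (@Bool.rec (fun _ => ℕ) (@Bool.rec (fun _ => ℕ) l4747 l4748 (Nat.ble (nat_lit 4748) i)) (@Bool.rec (fun _ => ℕ) l4749 (t4750_4752 i) (Nat.ble (nat_lit 4750) i)) (Nat.ble (nat_lit 4749) i)) (@Bool.rec (fun _ => ℕ) (@Bool.rec (fun _ => ℕ) l4752 (t4753_4755 i) (Nat.ble (nat_lit 4753) i)) (@Bool.rec (fun _ => ℕ) l4755 (t4756_4758 i) (Nat.ble (nat_lit 4756) i)) (Nat.ble (nat_lit 4755) i)) (Nat.ble (nat_lit 4752) i))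
noncomputable def t4759_4761 (i : ℕ) : ℕ := (@Bool.rec (fun _ => ℕ) l4759 l4760 (Nat.ble (nat_lit 4760) i))
noncomputable def t4762_4764 (i : ℕ) : ℕ := (@Bool.rec (fun _ => ℕ) l4762 l4763 (Nat.ble (nat_lit 4763) i))
noncomputable def t4765_4767 (i : ℕ) : ℕ := (@Bool.rec (fun _ => ℕ) l4765 l4766 (Nat.ble (nat_lit 4766) i))
noncomputable def t4768_4770 (i : ℕ) : ℕ := (@Bool.rec (fun _ => ℕ) l4768 l4769 (Nat.ble (nat_lit 4769) i))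
noncomputable def t4758_4770 (i : ℕ) : ℕ := (@Bool.rec (fun _ => ℕ) (@Bool.rec (fun _ => ℕ) (@Bool.rec (fun _ => ℕ) l4758 (t4759_4761 i) (Nat.ble (nat_lit 4759) i)) (@Bool.rec (fun _ => ℕ) l4761 (t4762_4764 i) (Nat.ble (nat_lit 4762) i)) (Nat.ble (nat_lit 4761) i)) (@Bool.rec (fun _ => ℕ) (@Bool.rec (fun _ => ℕ) l4764 (t4765_4767 i) (Nat.ble (nat_lit 4765) i)) (@Bool.rec (fun _ => ℕ) l4767 (t4768_4770 i) (Nat.ble (nat_lit 4768) i)) (Nat.ble (nat_lit 4767) i)) (Nat.ble (nat_lit 4764) i))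
noncomputable def t4771_4773 (i : ℕ) : ℕ := (@Bool.rec (fun _ => ℕ) l4771 l4772 (Nat.ble (nat_lit 4772) i))
noncomputable def t4774_4776 (i : ℕ) : ℕ := (@Bool.rec (fun _ => ℕ) l4774 l4775 (Nat.ble (nat_lit 4775) i))
noncomputable def t4777_4779 (i : ℕ) : ℕ := (@Bool.rec (fun _ => ℕ) l4777 l4778 (Nat.ble (nat_lit 4778) i))
noncomputable def t4780_4782 (i : ℕ) : ℕ := (@Bool.rec (fun _ => ℕ) l4780 l4781 (Nat.ble (nat_lit 4781) i))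
noncomputable def t4770_4782 (i : ℕ) : ℕ := (@Bool.rec (fun _ => ℕ) (@Bool.rec (fun _ => ℕ) (@Bool.rec (fun _ => ℕ) l4770 (t4771_4773 i) (Nat.ble (nat_lit 4771) i)) (@Bool.rec (fun _ => ℕ) l4773 (t4774_4776 i) (Nat.ble (nat_lit 4774) i)) (Nat.ble (nat_lit 4773) i)) (@Bool.rec (fun _ => ℕ) (@Bool.rec (fun _ => ℕ) l4776 (t4777_4779 i) (Nat.ble (nat_lit 4777) i)) (@Bool.rec (fun _ => ℕ) l4779 (t4780_4782 i) (Nat.ble (nat_lit 4780) i)) (Nat.ble (nat_lit 4779) i)) (Nat.ble (nat_lit 4776) i))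
noncomputable def t4783_4785 (i : ℕ) : ℕ := (@Bool.rec (fun _ => ℕ) l4783 l4784 (Nat.ble (nat_lit 4784) i))
noncomputable def t4786_4788 (i : ℕ) : ℕ := (@Bool.rec (fun _ => ℕ) l4786 l4787 (Nat.ble (nat_lit 4787) i))
noncomputable def t4789_4791 (i : ℕ) : ℕ := (@Bool.rec (fun _ => ℕ) l4789 l4790 (Nat.ble (nat_lit 4790) i))
noncomputable def t4792_4794 (i : ℕ) : ℕ := (@Bool.rec (fun _ => ℕ) l4792 l4793 (Nat.ble (nat_lit 4793) i))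
noncomputable def t4782_4794 (i : ℕ) : ℕ := (@Bool.rec (fun _ => ℕ) (@Bool.rec (fun _ => ℕ) (@Bool.rec (fun _ => ℕ) l4782 (t4783_4785 i) (Nat.ble (nat_lit 4783) i)) (@Bool.rec (fun _ => ℕ) l4785 (t4786_4788 i) (Nat.ble (nat_lit 4786) i)) (Nat.ble (nat_lit 4785) i)) (@Bool.rec (fun _ => ℕ) (@Bool.rec (fun _ => ℕ) l4788 (t4789_4791 i) (Nat.ble (nat_lit 4789) i)) (@Bool.rec (fun _ => ℕ) l4791 (t4792_4794 i) (Nat.ble (nat_lit 4792) i)) (Nat.ble (nat_lit 4791) i)) (Nat.ble (nat_lit 4788) i))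
noncomputable def t4701_4794 (i : ℕ) : ℕ := (@Bool.rec (fun _ => ℕ) (@Bool.rec (fun _ => ℕ) (@Bool.rec (fun _ => ℕ) (t4701_4712 i) (t4712_4724 i) (Nat.ble (nat_lit 4712) i)) (@Bool.rec (fun _ => ℕ) (t4724_4735 i) (t4735_4747 i) (Nat.ble (nat_lit 4735) i)) (Nat.ble (nat_lit 4724) i)) (@Bool.rec (fun _ => ℕ) (@Bool.rec (fun _ => ℕ) (t4747_4758 i) (t4758_4770 i) (Nat.ble (nat_lit 4758) i)) (@Bool.rec (fun _ => ℕ) (t4770_4782 i) (t4782_4794 i) (Nat.ble (nat_lit 4782) i)) (Nat.ble (nat_lit 4770) i)) (Nat.ble (nat_lit 4747) i))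
noncomputable def t4797_4799 (i : ℕ) : ℕ := (@Bool.rec (fun _ => ℕ) l4797 l4798 (Nat.ble (nat_lit 4798) i))
noncomputable def t4800_4802 (i : ℕ) : ℕ := (@Bool.rec (fun _ => ℕ) l4800 l4801 (Nat.ble (nat_lit 4801) i))
noncomputable def t4803_4805 (i : ℕ) : ℕ := (@Bool.rec (fun _ => ℕ) l4803 l4804 (Nat.ble (nat_lit 4804) i))
noncomputable def t4794_4805 (i : ℕ) : ℕ := (@Bool.rec (fun _ => ℕ) (@Bool.rec (fun _ => ℕ) (@Bool.rec (fun _ => ℕ) l4794 l4795 (Nat.ble (nat_lit 4795) i)) (@Bool.rec (fun _ => ℕ) l4796 (t4797_4799 i) (Nat.ble (nat_lit 4797) i)) (Nat.ble (nat_lit 4796) i)) (@Bool.rec (fun _ => ℕ) (@Bool.rec (fun _ => ℕ) l4799 (t4800_4802 i) (Nat.ble (nat_lit 4800) i)) (@Bool.rec (fun _ => ℕ) l4802 (t4803_4805 i) (Nat.ble (nat_lit 4803) i)) (Nat.ble (nat_lit 4802) i)) (Nat.ble (nat_lit 4799) i))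
noncomputable def t4806_4808 (i : ℕ) : ℕ := (@Bool.rec (fun _ => ℕ) l4806 l4807 (Nat.ble (nat_lit 4807) i))
noncomputable def t4809_4811 (i : ℕ) : ℕ := (@Bool.rec (fun _ => ℕ) l4809 l4810 (Nat.ble (nat_lit 4810) i))
noncomputable def t4812_4814 (i : ℕ) : ℕ := (@Bool.rec (fun _ => ℕ) l4812 l4813 (Nat.ble (nat_lit 4813) i))
noncomputable def t4815_4817 (i : ℕ) : ℕ := (@Bool.rec (fun _ => ℕ) l4815 l4816 (Nat.ble (nat_lit 4816) i))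
noncomputable def t4805_4817 (i : ℕ) : ℕ := (@Bool.rec (fun _ => ℕ) (@Bool.rec (fun _ => ℕ) (@Bool.rec (fun _ => ℕ) l4805 (t4806_4808 i) (Nat.ble (nat_lit 4806) i)) (@Bool.rec (fun _ => ℕ) l4808 (t4809_4811 i) (Nat.ble (nat_lit 4809) i)) (Nat.ble (nat_lit 4808) i)) (@Bool.rec (fun _ => ℕ) (@Bool.rec (fun _ => ℕ) l4811 (t4812_4814 i) (Nat.ble (nat_lit 4812) i)) (@Bool.rec (fun _ => ℕ) l4814 (t4815_4817 i) (Nat.ble (nat_lit 4815) i)) (Nat.ble (nat_lit 4814) i)) (Nat.ble (nat_lit 4811) i))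
noncomputable def t4820_4822 (i : ℕ) : ℕ := (@Bool.rec (fun _ => ℕ) l4820 l4821 (Nat.ble (nat_lit 4821) i))
noncomputable def t4823_4825 (i : ℕ) : ℕ := (@Bool.rec (fun _ => ℕ) l4823 l4824 (Nat.ble (nat_lit 4824) i))
noncomputable def t4826_4828 (i : ℕ) : ℕ := (@Bool.rec (fun _ => ℕ) l4826 l4827 (Nat.ble (nat_lit 4827) i))
noncomputable def t4817_4828 (i : ℕ) : ℕ := (@Bool.rec (fun _ => ℕ) (@Bool.rec (fun _ => ℕ) (@Bool.rec (fun _ => ℕ) l4817 l4818 (Nat.ble (nat_lit 4818) i)) (@Bool.rec (fun _ => ℕ) l4819 (t4820_4822 i) (Nat.ble (nat_lit 4820) i)) (Nat.ble (nat_lit 4819) i)) (@Bool.rec (fun _ => ℕ) (@Bool.rec (fun _ => ℕ) l4822 (t4823_4825 i) (Nat.ble (nat_lit 4823) i)) (@Bool.rec (fun _ => ℕ) l4825 (t4826_4828 i) (Nat.ble (nat_lit 4826) i)) (Nat.ble (nat_lit 4825) i)) (Nat.ble (nat_lit 4822) i))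
noncomputable def t4829_4831 (i : ℕ) : ℕ := (@Bool.rec (fun _ => ℕ) l4829 l4830 (Nat.ble (nat_lit 4830) i))
noncomputable def t4832_4834 (i : ℕ) : ℕ := (@Bool.rec (fun _ => ℕ) l4832 l4833 (Nat.ble (nat_lit 4833) i))
noncomputable def t4835_4837 (i : ℕ) : ℕ := (@Bool.rec (fun _ => ℕ) l4835 l4836 (Nat.ble (nat_lit 4836) i))
noncomputable def t4838_4840 (i : ℕ) : ℕ := (@Bool.rec (fun _ => ℕ) l4838 l4839 (Nat.ble (nat_lit 4839) i))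
noncomputable def t4828_4840 (i : ℕ) : ℕ := (@Bool.rec (fun _ => ℕ) (@Bool.rec (fun _ => ℕ) (@Bool.rec (fun _ => ℕ) l4828 (t4829_4831 i) (Nat.ble (nat_lit 4829) i)) (@Bool.rec (fun _ => ℕ) l4831 (t4832_4834 i) (Nat.ble (nat_lit 4832) i)) (Nat.ble (nat_lit 4831) i)) (@Bool.rec (fun _ => ℕ) (@Bool.rec (fun _ => ℕ) l4834 (t4835_4837 i) (Nat.ble (nat_lit 4835) i)) (@Bool.rec (fun _ => ℕ) l4837 (t4838_4840 i) (Nat.ble (nat_lit 4838) i)) (Nat.ble (nat_lit 4837) i)) (Nat.ble (nat_lit 4834) i))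
noncomputable def t4843_4845 (i : ℕ) : ℕ := (@Bool.rec (fun _ => ℕ) l4843 l4844 (Nat.ble (nat_lit 4844) i))
noncomputable def t4846_4848 (i : ℕ) : ℕ := (@Bool.rec (fun _ => ℕ) l4846 l4847 (Nat.ble (nat_lit 4847) i))
noncomputable def t4849_4851 (i : ℕ) : ℕ := (@Bool.rec (fun _ => ℕ) l4849 l4850 (Nat.ble (nat_lit 4850) i))
noncomputable def t4840_4851 (i : ℕ) : ℕ := (@Bool.rec (fun _ => ℕ) (@Bool.rec (fun _ => ℕ) (@Bool.rec (fun _ => ℕ) l4840 l4841 (Nat.ble (nat_lit 4841) i)) (@Bool.rec (fun _ => ℕ) l4842 (t4843_4845 i) (Nat.ble (nat_lit 4843) i)) (Nat.ble (nat_lit 4842) i)) (@Bool.rec (fun _ => ℕ) (@Bool.rec (fun _ => ℕ) l4845 (t4846_4848 i) (Nat.ble (nat_lit 4846) i)) (@Bool.rec (fun _ => ℕ) l4848 (t4849_4851 i) (Nat.ble (nat_lit 4849) i)) (Nat.ble (nat_lit 4848) i)) (Nat.ble (nat_lit 4845) i))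
noncomputable def t4852_4854 (i : ℕ) : ℕ := (@Bool.rec (fun _ => ℕ) l4852 l4853 (Nat.ble (nat_lit 4853) i))
noncomputable def t4855_4857 (i : ℕ) : ℕ := (@Bool.rec (fun _ => ℕ) l4855 l4856 (Nat.ble (nat_lit 4856) i))
noncomputable def t4858_4860 (i : ℕ) : ℕ := (@Bool.rec (fun _ => ℕ) l4858 l4859 (Nat.ble (nat_lit 4859) i))
noncomputable def t4861_4863 (i : ℕ) : ℕ := (@Bool.rec (fun _ => ℕ) l4861 l4862 (Nat.ble (nat_lit 4862) i))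
noncomputable def t4851_4863 (i : ℕ) : ℕ := (@Bool.rec (fun _ => ℕ) (@Bool.rec (fun _ => ℕ) (@Bool.rec (fun _ => ℕ) l4851 (t4852_4854 i) (Nat.ble (nat_lit 4852) i)) (@Bool.rec (fun _ => ℕ) l4854 (t4855_4857 i) (Nat.ble (nat_lit 4855) i)) (Nat.ble (nat_lit 4854) i)) (@Bool.rec (fun _ => ℕ) (@Bool.rec (fun _ => ℕ) l4857 (t4858_4860 i) (Nat.ble (nat_lit 4858) i)) (@Bool.rec (fun _ => ℕ) l4860 (t4861_4863 i) (Nat.ble (nat_lit 4861) i)) (Nat.ble (nat_lit 4860) i)) (Nat.ble (nat_lit 4857) i))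
noncomputable def t4866_4868 (i : ℕ) : ℕ := (@Bool.rec (fun _ => ℕ) l4866 l4867 (Nat.ble (nat_lit 4867) i))
noncomputable def t4869_4871 (i : ℕ) : ℕ := (@Bool.rec (fun _ => ℕ) l4869 l4870 (Nat.ble (nat_lit 4870) i))
noncomputable def t4872_4874 (i : ℕ) : ℕ := (@Bool.rec (fun _ => ℕ) l4872 l4873 (Nat.ble (nat_lit 4873) i))
noncomputable def t4863_4874 (i : ℕ) : ℕ := (@Bool.rec (fun _ => ℕ) (@Bool.rec (fun _ => ℕ) (@Bool.rec (fun _ => ℕ) l4863 l4864 (Nat.ble (nat_lit 4864) i)) (@Bool.rec (fun _ => ℕ) l4865 (t4866_4868 i) (Nat.ble (nat_lit 4866) i)) (Nat.ble (nat_lit 4865) i)) (@Bool.rec (fun _ => ℕ) (@Bool.rec (fun _ => ℕ) l4868 (t4869_4871 i) (Nat.ble (nat_lit 4869) i)) (@Bool.rec (fun _ => ℕ) l4871 (t4872_4874 i) (Nat.ble (nat_lit 4872) i)) (Nat.ble (nat_lit 4871) i)) (Nat.ble (nat_lit 4868) i))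
noncomputable def t4875_4877 (i : ℕ) : ℕ := (@Bool.rec (fun _ => ℕ) l4875 l4876 (Nat.ble (nat_lit 4876) i))
noncomputable def t4878_4880 (i : ℕ) : ℕ := (@Bool.rec (fun _ => ℕ) l4878 l4879 (Nat.ble (nat_lit 4879) i))
noncomputable def t4881_4883 (i : ℕ) : ℕ := (@Bool.rec (fun _ => ℕ) l4881 l4882 (Nat.ble (nat_lit 4882) i))
noncomputable def t4884_4886 (i : ℕ) : ℕ := (@Bool.rec (fun _ => ℕ) l4884 l4885 (Nat.ble (nat_lit 4885) i))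
noncomputable def t4874_4886 (i : ℕ) : ℕ := (@Bool.rec (fun _ => ℕ) (@Bool.rec (fun _ => ℕ) (@Bool.rec (fun _ => ℕ) l4874 (t4875_4877 i) (Nat.ble (nat_lit 4875) i)) (@Bool.rec (fun _ => ℕ) l4877 (t4878_4880 i) (Nat.ble (nat_lit 4878) i)) (Nat.ble (nat_lit 4877) i)) (@Bool.rec (fun _ => ℕ) (@Bool.rec (fun _ => ℕ) l4880 (t4881_4883 i) (Nat.ble (nat_lit 4881) i)) (@Bool.rec (fun _ => ℕ) l4883 (t4884_4886 i) (Nat.ble (nat_lit 4884) i)) (Nat.ble (nat_lit 4883) i)) (Nat.ble (nat_lit 4880) i))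
noncomputable def t4794_4886 (i : ℕ) : ℕ := (@Bool.rec (fun _ => ℕ) (@Bool.rec (fun _ => ℕ) (@Bool.rec (fun _ => ℕ) (t4794_4805 i) (t4805_4817 i) (Nat.ble (nat_lit 4805) i)) (@Bool.rec (fun _ => ℕ) (t4817_4828 i) (t4828_4840 i) (Nat.ble (nat_lit 4828) i)) (Nat.ble (nat_lit 4817) i)) (@Bool.rec (fun _ => ℕ) (@Bool.rec (fun _ => ℕ) (t4840_4851 i) (t4851_4863 i) (Nat.ble (nat_lit 4851) i)) (@Bool.rec (fun _ => ℕ) (t4863_4874 i) (t4874_4886 i) (Nat.ble (nat_lit 4874) i)) (Nat.ble (nat_lit 4863) i)) (Nat.ble (nat_lit 4840) i))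
noncomputable def t4889_4891 (i : ℕ) : ℕ := (@Bool.rec (fun _ => ℕ) l4889 l4890 (Nat.ble (nat_lit 4890) i))
noncomputable def t4892_4894 (i : ℕ) : ℕ := (@Bool.rec (fun _ => ℕ) l4892 l4893 (Nat.ble (nat_lit 4893) i))
noncomputable def t4895_4897 (i : ℕ) : ℕ := (@Bool.rec (fun _ => ℕ) l4895 l4896 (Nat.ble (nat_lit 4896) i))
noncomputable def t4886_4897 (i : ℕ) : ℕ := (@Bool.rec (fun _ => ℕ) (@Bool.rec (fun _ => ℕ) (@Bool.rec (fun _ => ℕ) l4886 l4887 (Nat.ble (nat_lit 4887) i)) (@Bool.rec (fun _ => ℕ) l4888 (t4889_4891 i) (Nat.ble (nat_lit 4889) i)) (Nat.ble (nat_lit 4888) i)) (@Bool.rec (fun _ => ℕ) (@Bool.rec (fun _ => ℕ) l4891 (t4892_4894 i) (Nat.ble (nat_lit 4892) i)) (@Bool.rec (fun _ => ℕ) l4894 (t4895_4897 i) (Nat.ble (nat_lit 4895) i)) (Nat.ble (nat_lit 4894) i)) (Nat.ble (nat_lit 4891) i))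
noncomputable def t4898_4900 (i : ℕ) : ℕ := (@Bool.rec (fun _ => ℕ) l4898 l4899 (Nat.ble (nat_lit 4899) i))
noncomputable def t4901_4903 (i : ℕ) : ℕ := (@Bool.rec (fun _ => ℕ) l4901 l4902 (Nat.ble (nat_lit 4902) i))
noncomputable def t4904_4906 (i : ℕ) : ℕ := (@Bool.rec (fun _ => ℕ) l4904 l4905 (Nat.ble (nat_lit 4905) i))
noncomputable def t4907_4909 (i : ℕ) : ℕ := (@Bool.rec (fun _ => ℕ) l4907 l4908 (Nat.ble (nat_lit 4908) i))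
noncomputable def t4897_4909 (i : ℕ) : ℕ := (@Bool.rec (fun _ => ℕ) (@Bool.rec (fun _ => ℕ) (@Bool.rec (fun _ => ℕ) l4897 (t4898_4900 i) (Nat.ble (nat_lit 4898) i)) (@Bool.rec (fun _ => ℕ) l4900 (t4901_4903 i) (Nat.ble (nat_lit 4901) i)) (Nat.ble (nat_lit 4900) i)) (@Bool.rec (fun _ => ℕ) (@Bool.rec (fun _ => ℕ) l4903 (t4904_4906 i) (Nat.ble (nat_lit 4904) i)) (@Bool.rec (fun _ => ℕ) l4906 (t4907_4909 i) (Nat.ble (nat_lit 4907) i)) (Nat.ble (nat_lit 4906) i)) (Nat.ble (nat_lit 4903) i))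
noncomputable def t4912_4914 (i : ℕ) : ℕ := (@Bool.rec (fun _ => ℕ) l4912 l4913 (Nat.ble (nat_lit 4913) i))
noncomputable def t4915_4917 (i : ℕ) : ℕ := (@Bool.rec (fun _ => ℕ) l4915 l4916 (Nat.ble (nat_lit 4916) i))
noncomputable def t4918_4920 (i : ℕ) : ℕ := (@Bool.rec (fun _ => ℕ) l4918 l4919 (Nat.ble (nat_lit 4919) i))
noncomputable def t4909_4920 (i : ℕ) : ℕ := (@Bool.rec (fun _ => ℕ) (@Bool.rec (fun _ => ℕ) (@Bool.rec (fun _ => ℕ) l4909 l4910 (Nat.ble (nat_lit 4910) i)) (@Bool.rec (fun _ => ℕ) l4911 (t4912_4914 i) (Nat.ble (nat_lit 4912) i)) (Nat.ble (nat_lit 4911) i)) (@Bool.rec (fun _ => ℕ) (@Bool.rec (fun _ => ℕ) l4914 (t4915_4917 i) (Nat.ble (nat_lit 4915) i)) (@Bool.rec (fun _ => ℕ) l4917 (t4918_4920 i) (Nat.ble (nat_lit 4918) i)) (Nat.ble (nat_lit 4917) i)) (Nat.ble (nat_lit 4914) i))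
noncomputable def t4921_4923 (i : ℕ) : ℕ := (@Bool.rec (fun _ => ℕ) l4921 l4922 (Nat.ble (nat_lit 4922) i))
noncomputable def t4924_4926 (i : ℕ) : ℕ := (@Bool.rec (fun _ => ℕ) l4924 l4925 (Nat.ble (nat_lit 4925) i))
noncomputable def t4927_4929 (i : ℕ) : ℕ := (@Bool.rec (fun _ => ℕ) l4927 l4928 (Nat.ble (nat_lit 4928) i))
noncomputable def t4930_4932 (i : ℕ) : ℕ := (@Bool.rec (fun _ => ℕ) l4930 l4931 (Nat.ble (nat_lit 4931) i))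
noncomputable def t4920_4932 (i : ℕ) : ℕ := (@Bool.rec (fun _ => ℕ) (@Bool.rec (fun _ => ℕ) (@Bool.rec (fun _ => ℕ) l4920 (t4921_4923 i) (Nat.ble (nat_lit 4921) i)) (@Bool.rec (fun _ => ℕ) l4923 (t4924_4926 i) (Nat.ble (nat_lit 4924) i)) (Nat.ble (nat_lit 4923) i)) (@Bool.rec (fun _ => ℕ) (@Bool.rec (fun _ => ℕ) l4926 (t4927_4929 i) (Nat.ble (nat_lit 4927) i)) (@Bool.rec (fun _ => ℕ) l4929 (t4930_4932 i) (Nat.ble (nat_lit 4930) i)) (Nat.ble (nat_lit 4929) i)) (Nat.ble (nat_lit 4926) i))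
noncomputable def t4935_4937 (i : ℕ) : ℕ := (@Bool.rec (fun _ => ℕ) l4935 l4936 (Nat.ble (nat_lit 4936) i))
noncomputable def t4938_4940 (i : ℕ) : ℕ := (@Bool.rec (fun _ => ℕ) l4938 l4939 (Nat.ble (nat_lit 4939) i))
noncomputable def t4941_4943 (i : ℕ) : ℕ := (@Bool.rec (fun _ => ℕ) l4941 l4942 (Nat.ble (nat_lit 4942) i))
noncomputable def t4932_4943 (i : ℕ) : ℕ := (@Bool.rec (fun _ => ℕ) (@Bool.rec (fun _ => ℕ) (@Bool.rec (fun _ => ℕ) l4932 l4933 (Nat.ble (nat_lit 4933) i)) (@Bool.rec (fun _ => ℕ) l4934 (t4935_4937 i) (Nat.ble (nat_lit 4935) i)) (Nat.ble (nat_lit 4934) i)) (@Bool.rec (fun _ => ℕ) (@Bool.rec (fun _ => ℕ) l4937 (t4938_4940 i) (Nat.ble (nat_lit 4938) i)) (@Bool.rec (fun _ => ℕ) l4940 (t4941_4943 i) (Nat.ble (nat_lit 4941) i)) (Nat.ble (nat_lit 4940) i)) (Nat.ble (nat_lit 4937) i))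
noncomputable def t4944_4946 (i : ℕ) : ℕ := (@Bool.rec (fun _ => ℕ) l4944 l4945 (Nat.ble (nat_lit 4945) i))
noncomputable def t4947_4949 (i : ℕ) : ℕ := (@Bool.rec (fun _ => ℕ) l4947 l4948 (Nat.ble (nat_lit 4948) i))
noncomputable def t4950_4952 (i : ℕ) : ℕ := (@Bool.rec (fun _ => ℕ) l4950 l4951 (Nat.ble (nat_lit 4951) i))
noncomputable def t4953_4955 (i : ℕ) : ℕ := (@Bool.rec (fun _ => ℕ) l4953 l4954 (Nat.ble (nat_lit 4954) i))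
noncomputable def t4943_4955 (i : ℕ) : ℕ := (@Bool.rec (fun _ => ℕ) (@Bool.rec (fun _ => ℕ) (@Bool.rec (fun _ => ℕ) l4943 (t4944_4946 i) (Nat.ble (nat_lit 4944) i)) (@Bool.rec (fun _ => ℕ) l4946 (t4947_4949 i) (Nat.ble (nat_lit 4947) i)) (Nat.ble (nat_lit 4946) i)) (@Bool.rec (fun _ => ℕ) (@Bool.rec (fun _ => ℕ) l4949 (t4950_4952 i) (Nat.ble (nat_lit 4950) i)) (@Bool.rec (fun _ => ℕ) l4952 (t4953_4955 i) (Nat.ble (nat_lit 4953) i)) (Nat.ble (nat_lit 4952) i)) (Nat.ble (nat_lit 4949) i))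
noncomputable def t4958_4960 (i : ℕ) : ℕ := (@Bool.rec (fun _ => ℕ) l4958 l4959 (Nat.ble (nat_lit 4959) i))
noncomputable def t4961_4963 (i : ℕ) : ℕ := (@Bool.rec (fun _ => ℕ) l4961 l4962 (Nat.ble (nat_lit 4962) i))
noncomputable def t4964_4966 (i : ℕ) : ℕ := (@Bool.rec (fun _ => ℕ) l4964 l4965 (Nat.ble (nat_lit 4965) i))
noncomputable def t4955_4966 (i : ℕ) : ℕ := (@Bool.rec (fun _ => ℕ) (@Bool.rec (fun _ => ℕ) (@Bool.rec (fun _ => ℕ) l4955 l4956 (Nat.ble (nat_lit 4956) i)) (@Bool.rec (fun _ => ℕ) l4957 (t4958_4960 i) (Nat.ble (nat_lit 4958) i)) (Nat.ble (nat_lit 4957) i)) (@Bool.rec (fun _ => ℕ) (@Bool.rec (fun _ => ℕ) l4960 (t4961_4963 i) (Nat.ble (nat_lit 4961) i)) (@Bool.rec (fun _ => ℕ) l4963 (t4964_4966 i) (Nat.ble (nat_lit 4964) i)) (Nat.ble (nat_lit 4963) i)) (Nat.ble (nat_lit 4960) i))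
noncomputable def t4967_4969 (i : ℕ) : ℕ := (@Bool.rec (fun _ => ℕ) l4967 l4968 (Nat.ble (nat_lit 4968) i))
noncomputable def t4970_4972 (i : ℕ) : ℕ := (@Bool.rec (fun _ => ℕ) l4970 l4971 (Nat.ble (nat_lit 4971) i))
noncomputable def t4973_4975 (i : ℕ) : ℕ := (@Bool.rec (fun _ => ℕ) l4973 l4974 (Nat.ble (nat_lit 4974) i))
noncomputable def t4976_4978 (i : ℕ) : ℕ := (@Bool.rec (fun _ => ℕ) l4976 l4977 (Nat.ble (nat_lit 4977) i))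
noncomputable def t4966_4978 (i : ℕ) : ℕ := (@Bool.rec (fun _ => ℕ) (@Bool.rec (fun _ => ℕ) (@Bool.rec (fun _ => ℕ) l4966 (t4967_4969 i) (Nat.ble (nat_lit 4967) i)) (@Bool.rec (fun _ => ℕ) l4969 (t4970_4972 i) (Nat.ble (nat_lit 4970) i)) (Nat.ble (nat_lit 4969) i)) (@Bool.rec (fun _ => ℕ) (@Bool.rec (fun _ => ℕ) l4972 (t4973_4975 i) (Nat.ble (nat_lit 4973) i)) (@Bool.rec (fun _ => ℕ) l4975 (t4976_4978 i) (Nat.ble (nat_lit 4976) i)) (Nat.ble (nat_lit 4975) i)) (Nat.ble (nat_lit 4972) i))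
noncomputable def t4886_4978 (i : ℕ) : ℕ := (@Bool.rec (fun _ => ℕ) (@Bool.rec (fun _ => ℕ) (@Bool.rec (fun _ => ℕ) (t4886_4897 i) (t4897_4909 i) (Nat.ble (nat_lit 4897) i)) (@Bool.rec (fun _ => ℕ) (t4909_4920 i) (t4920_4932 i) (Nat.ble (nat_lit 4920) i)) (Nat.ble (nat_lit 4909) i)) (@Bool.rec (fun _ => ℕ) (@Bool.rec (fun _ => ℕ) (t4932_4943 i) (t4943_4955 i) (Nat.ble (nat_lit 4943) i)) (@Bool.rec (fun _ => ℕ) (t4955_4966 i) (t4966_4978 i) (Nat.ble (nat_lit 4966) i)) (Nat.ble (nat_lit 4955) i)) (Nat.ble (nat_lit 4932) i))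
noncomputable def t4981_4983 (i : ℕ) : ℕ := (@Bool.rec (fun _ => ℕ) l4981 l4982 (Nat.ble (nat_lit 4982) i))
noncomputable def t4984_4986 (i : ℕ) : ℕ := (@Bool.rec (fun _ => ℕ) l4984 l4985 (Nat.ble (nat_lit 4985) i))
noncomputable def t4987_4989 (i : ℕ) : ℕ := (@Bool.rec (fun _ => ℕ) l4987 l4988 (Nat.ble (nat_lit 4988) i))
noncomputable def t4978_4989 (i : ℕ) : ℕ := (@Bool.rec (fun _ => ℕ) (@Bool.rec (fun _ => ℕ) (@Bool.rec (fun _ => ℕ) l4978 l4979 (Nat.ble (nat_lit 4979) i)) (@Bool.rec (fun _ => ℕ) l4980 (t4981_4983 i) (Nat.ble (nat_lit 4981) i)) (Nat.ble (nat_lit 4980) i)) (@Bool.rec (fun _ => ℕ) (@Bool.rec (fun _ => ℕ) l4983 (t4984_4986 i) (Nat.ble (nat_lit 4984) i)) (@Bool.rec (fun _ => ℕ) l4986 (t4987_4989 i) (Nat.ble (nat_lit 4987) i)) (Nat.ble (nat_lit 4986) i)) (Nat.ble (nat_lit 4983) i))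
noncomputable def t4990_4992 (i : ℕ) : ℕ := (@Bool.rec (fun _ => ℕ) l4990 l4991 (Nat.ble (nat_lit 4991) i))
noncomputable def t4993_4995 (i : ℕ) : ℕ := (@Bool.rec (fun _ => ℕ) l4993 l4994 (Nat.ble (nat_lit 4994) i))
noncomputable def t4996_4998 (i : ℕ) : ℕ := (@Bool.rec (fun _ => ℕ) l4996 l4997 (Nat.ble (nat_lit 4997) i))
noncomputable def t4999_5001 (i : ℕ) : ℕ := (@Bool.rec (fun _ => ℕ) l4999 l5000 (Nat.ble (nat_lit 5000) i))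
noncomputable def t4989_5001 (i : ℕ) : ℕ := (@Bool.rec (fun _ => ℕ) (@Bool.rec (fun _ => ℕ) (@Bool.rec (fun _ => ℕ) l4989 (t4990_4992 i) (Nat.ble (nat_lit 4990) i)) (@Bool.rec (fun _ => ℕ) l4992 (t4993_4995 i) (Nat.ble (nat_lit 4993) i)) (Nat.ble (nat_lit 4992) i)) (@Bool.rec (fun _ => ℕ) (@Bool.rec (fun _ => ℕ) l4995 (t4996_4998 i) (Nat.ble (nat_lit 4996) i)) (@Bool.rec (fun _ => ℕ) l4998 (t4999_5001 i) (Nat.ble (nat_lit 4999) i)) (Nat.ble (nat_lit 4998) i)) (Nat.ble (nat_lit 4995) i))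
noncomputable def t5004_5006 (i : ℕ) : ℕ := (@Bool.rec (fun _ => ℕ) l5004 l5005 (Nat.ble (nat_lit 5005) i))
noncomputable def t5007_5009 (i : ℕ) : ℕ := (@Bool.rec (fun _ => ℕ) l5007 l5008 (Nat.ble (nat_lit 5008) i))
noncomputable def t5010_5012 (i : ℕ) : ℕ := (@Bool.rec (fun _ => ℕ) l5010 l5011 (Nat.ble (nat_lit 5011) i))
noncomputable def t5001_5012 (i : ℕ) : ℕ := (@Bool.rec (fun _ => ℕ) (@Bool.rec (fun _ => ℕ) (@Bool.rec (fun _ => ℕ) l5001 l5002 (Nat.ble (nat_lit 5002) i)) (@Bool.rec (fun _ => ℕ) l5003 (t5004_5006 i) (Nat.ble (nat_lit 5004) i)) (Nat.ble (nat_lit 5003) i)) (@Bool.rec (fun _ => ℕ) (@Bool.rec (fun _ => ℕ) l5006 (t5007_5009 i) (Nat.ble (nat_lit 5007) i)) (@Bool.rec (fun _ => ℕ) l5009 (t5010_5012 i) (Nat.ble (nat_lit 5010) i)) (Nat.ble (nat_lit 5009) i)) (Nat.ble (nat_lit 5006) i))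
noncomputable def t5013_5015 (i : ℕ) : ℕ := (@Bool.rec (fun _ => ℕ) l5013 l5014 (Nat.ble (nat_lit 5014) i))
noncomputable def t5016_5018 (i : ℕ) : ℕ := (@Bool.rec (fun _ => ℕ) l5016 l5017 (Nat.ble (nat_lit 5017) i))
noncomputable def t5019_5021 (i : ℕ) : ℕ := (@Bool.rec (fun _ => ℕ) l5019 l5020 (Nat.ble (nat_lit 5020) i))
noncomputable def t5022_5024 (i : ℕ) : ℕ := (@Bool.rec (fun _ => ℕ) l5022 l5023 (Nat.ble (nat_lit 5023) i))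
noncomputable def t5012_5024 (i : ℕ) : ℕ := (@Bool.rec (fun _ => ℕ) (@Bool.rec (fun _ => ℕ) (@Bool.rec (fun _ => ℕ) l5012 (t5013_5015 i) (Nat.ble (nat_lit 5013) i)) (@Bool.rec (fun _ => ℕ) l5015 (t5016_5018 i) (Nat.ble (nat_lit 5016) i)) (Nat.ble (nat_lit 5015) i)) (@Bool.rec (fun _ => ℕ) (@Bool.rec (fun _ => ℕ) l5018 (t5019_5021 i) (Nat.ble (nat_lit 5019) i)) (@Bool.rec (fun _ => ℕ) l5021 (t5022_5024 i) (Nat.ble (nat_lit 5022) i)) (Nat.ble (nat_lit 5021) i)) (Nat.ble (nat_lit 5018) i))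
noncomputable def t5027_5029 (i : ℕ) : ℕ := (@Bool.rec (fun _ => ℕ) l5027 l5028 (Nat.ble (nat_lit 5028) i))
noncomputable def t5030_5032 (i : ℕ) : ℕ := (@Bool.rec (fun _ => ℕ) l5030 l5031 (Nat.ble (nat_lit 5031) i))
noncomputable def t5033_5035 (i : ℕ) : ℕ := (@Bool.rec (fun _ => ℕ) l5033 l5034 (Nat.ble (nat_lit 5034) i))
noncomputable def t5024_5035 (i : ℕ) : ℕ := (@Bool.rec (fun _ => ℕ) (@Bool.rec (fun _ => ℕ) (@Bool.rec (fun _ => ℕ) l5024 l5025 (Nat.ble (nat_lit 5025) i)) (@Bool.rec (fun _ => ℕ) l5026 (t5027_5029 i) (Nat.ble (nat_lit 5027) i)) (Nat.ble (nat_lit 5026) i)) (@Bool.rec (fun _ => ℕ) (@Bool.rec (fun _ => ℕ) l5029 (t5030_5032 i) (Nat.ble (nat_lit 5030) i)) (@Bool.rec (fun _ => ℕ) l5032 (t5033_5035 i) (Nat.ble (nat_lit 5033) i)) (Nat.ble (nat_lit 5032) i)) (Nat.ble (nat_lit 5029) i))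
noncomputable def t5036_5038 (i : ℕ) : ℕ := (@Bool.rec (fun _ => ℕ) l5036 l5037 (Nat.ble (nat_lit 5037) i))
noncomputable def t5039_5041 (i : ℕ) : ℕ := (@Bool.rec (fun _ => ℕ) l5039 l5040 (Nat.ble (nat_lit 5040) i))
noncomputable def t5042_5044 (i : ℕ) : ℕ := (@Bool.rec (fun _ => ℕ) l5042 l5043 (Nat.ble (nat_lit 5043) i))
noncomputable def t5045_5047 (i : ℕ) : ℕ := (@Bool.rec (fun _ => ℕ) l5045 l5046 (Nat.ble (nat_lit 5046) i))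
noncomputable def t5035_5047 (i : ℕ) : ℕ := (@Bool.rec (fun _ => ℕ) (@Bool.rec (fun _ => ℕ) (@Bool.rec (fun _ => ℕ) l5035 (t5036_5038 i) (Nat.ble (nat_lit 5036) i)) (@Bool.rec (fun _ => ℕ) l5038 (t5039_5041 i) (Nat.ble (nat_lit 5039) i)) (Nat.ble (nat_lit 5038) i)) (@Bool.rec (fun _ => ℕ) (@Bool.rec (fun _ => ℕ) l5041 (t5042_5044 i) (Nat.ble (nat_lit 5042) i)) (@Bool.rec (fun _ => ℕ) l5044 (t5045_5047 i) (Nat.ble (nat_lit 5045) i)) (Nat.ble (nat_lit 5044) i)) (Nat.ble (nat_lit 5041) i))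
noncomputable def t5050_5052 (i : ℕ) : ℕ := (@Bool.rec (fun _ => ℕ) l5050 l5051 (Nat.ble (nat_lit 5051) i))
noncomputable def t5053_5055 (i : ℕ) : ℕ := (@Bool.rec (fun _ => ℕ) l5053 l5054 (Nat.ble (nat_lit 5054) i))
noncomputable def t5056_5058 (i : ℕ) : ℕ := (@Bool.rec (fun _ => ℕ) l5056 l5057 (Nat.ble (nat_lit 5057) i))
noncomputable def t5047_5058 (i : ℕ) : ℕ := (@Bool.rec (fun _ => ℕ) (@Bool.rec (fun _ => ℕ) (@Bool.rec (fun _ => ℕ) l5047 l5048 (Nat.ble (nat_lit 5048) i)) (@Bool.rec (fun _ => ℕ) l5049 (t5050_5052 i) (Nat.ble (nat_lit 5050) i)) (Nat.ble (nat_lit 5049) i)) (@Bool.rec (fun _ => ℕ) (@Bool.rec (fun _ => ℕ) l5052 (t5053_5055 i) (Nat.ble (nat_lit 5053) i)) (@Bool.rec (fun _ => ℕ) l5055 (t5056_5058 i) (Nat.ble (nat_lit 5056) i)) (Nat.ble (nat_lit 5055) i)) (Nat.ble (nat_lit 5052) i))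
noncomputable def t5059_5061 (i : ℕ) : ℕ := (@Bool.rec (fun _ => ℕ) l5059 l5060 (Nat.ble (nat_lit 5060) i))
noncomputable def t5062_5064 (i : ℕ) : ℕ := (@Bool.rec (fun _ => ℕ) l5062 l5063 (Nat.ble (nat_lit 5063) i))
noncomputable def t5065_5067 (i : ℕ) : ℕ := (@Bool.rec (fun _ => ℕ) l5065 l5066 (Nat.ble (nat_lit 5066) i))
noncomputable def t5068_5070 (i : ℕ) : ℕ := (@Bool.rec (fun _ => ℕ) l5068 l5069 (Nat.ble (nat_lit 5069) i))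
noncomputable def t5058_5070 (i : ℕ) : ℕ := (@Bool.rec (fun _ => ℕ) (@Bool.rec (fun _ => ℕ) (@Bool.rec (fun _ => ℕ) l5058 (t5059_5061 i) (Nat.ble (nat_lit 5059) i)) (@Bool.rec (fun _ => ℕ) l5061 (t5062_5064 i) (Nat.ble (nat_lit 5062) i)) (Nat.ble (nat_lit 5061) i)) (@Bool.rec (fun _ => ℕ) (@Bool.rec (fun _ => ℕ) l5064 (t5065_5067 i) (Nat.ble (nat_lit 5065) i)) (@Bool.rec (fun _ => ℕ) l5067 (t5068_5070 i) (Nat.ble (nat_lit 5068) i)) (Nat.ble (nat_lit 5067) i)) (Nat.ble (nat_lit 5064) i))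
noncomputable def t4978_5070 (i : ℕ) : ℕ := (@Bool.rec (fun _ => ℕ) (@Bool.rec (fun _ => ℕ) (@Bool.rec (fun _ => ℕ) (t4978_4989 i) (t4989_5001 i) (Nat.ble (nat_lit 4989) i)) (@Bool.rec (fun _ => ℕ) (t5001_5012 i) (t5012_5024 i) (Nat.ble (nat_lit 5012) i)) (Nat.ble (nat_lit 5001) i)) (@Bool.rec (fun _ => ℕ) (@Bool.rec (fun _ => ℕ) (t5024_5035 i) (t5035_5047 i) (Nat.ble (nat_lit 5035) i)) (@Bool.rec (fun _ => ℕ) (t5047_5058 i) (t5058_5070 i) (Nat.ble (nat_lit 5058) i)) (Nat.ble (nat_lit 5047) i)) (Nat.ble (nat_lit 5024) i))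
noncomputable def t5073_5075 (i : ℕ) : ℕ := (@Bool.rec (fun _ => ℕ) l5073 l5074 (Nat.ble (nat_lit 5074) i))
noncomputable def t5076_5078 (i : ℕ) : ℕ := (@Bool.rec (fun _ => ℕ) l5076 l5077 (Nat.ble (nat_lit 5077) i))
noncomputable def t5079_5081 (i : ℕ) : ℕ := (@Bool.rec (fun _ => ℕ) l5079 l5080 (Nat.ble (nat_lit 5080) i))
noncomputable def t5070_5081 (i : ℕ) : ℕ := (@Bool.rec (fun _ => ℕ) (@Bool.rec (fun _ => ℕ) (@Bool.rec (fun _ => ℕ) l5070 l5071 (Nat.ble (nat_lit 5071) i)) (@Bool.rec (fun _ => ℕ) l5072 (t5073_5075 i) (Nat.ble (nat_lit 5073) i)) (Nat.ble (nat_lit 5072) i)) (@Bool.rec (fun _ => ℕ) (@Bool.rec (fun _ => ℕ) l5075 (t5076_5078 i) (Nat.ble (nat_lit 5076) i)) (@Bool.rec (fun _ => ℕ) l5078 (t5079_5081 i) (Nat.ble (nat_lit 5079) i)) (Nat.ble (nat_lit 5078) i)) (Nat.ble (nat_lit 5075) i))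
noncomputable def t5082_5084 (i : ℕ) : ℕ := (@Bool.rec (fun _ => ℕ) l5082 l5083 (Nat.ble (nat_lit 5083) i))
noncomputable def t5085_5087 (i : ℕ) : ℕ := (@Bool.rec (fun _ => ℕ) l5085 l5086 (Nat.ble (nat_lit 5086) i))
noncomputable def t5088_5090 (i : ℕ) : ℕ := (@Bool.rec (fun _ => ℕ) l5088 l5089 (Nat.ble (nat_lit 5089) i))
noncomputable def t5091_5093 (i : ℕ) : ℕ := (@Bool.rec (fun _ => ℕ) l5091 l5092 (Nat.ble (nat_lit 5092) i))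
noncomputable def t5081_5093 (i : ℕ) : ℕ := (@Bool.rec (fun _ => ℕ) (@Bool.rec (fun _ => ℕ) (@Bool.rec (fun _ => ℕ) l5081 (t5082_5084 i) (Nat.ble (nat_lit 5082) i)) (@Bool.rec (fun _ => ℕ) l5084 (t5085_5087 i) (Nat.ble (nat_lit 5085) i)) (Nat.ble (nat_lit 5084) i)) (@Bool.rec (fun _ => ℕ) (@Bool.rec (fun _ => ℕ) l5087 (t5088_5090 i) (Nat.ble (nat_lit 5088) i)) (@Bool.rec (fun _ => ℕ) l5090 (t5091_5093 i) (Nat.ble (nat_lit 5091) i)) (Nat.ble (nat_lit 5090) i)) (Nat.ble (nat_lit 5087) i))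
noncomputable def t5096_5098 (i : ℕ) : ℕ := (@Bool.rec (fun _ => ℕ) l5096 l5097 (Nat.ble (nat_lit 5097) i))
noncomputable def t5099_5101 (i : ℕ) : ℕ := (@Bool.rec (fun _ => ℕ) l5099 l5100 (Nat.ble (nat_lit 5100) i))
noncomputable def t5102_5104 (i : ℕ) : ℕ := (@Bool.rec (fun _ => ℕ) l5102 l5103 (Nat.ble (nat_lit 5103) i))
noncomputable def t5093_5104 (i : ℕ) : ℕ := (@Bool.rec (fun _ => ℕ) (@Bool.rec (fun _ => ℕ) (@Bool.rec (fun _ => ℕ) l5093 l5094 (Nat.ble (nat_lit 5094) i)) (@Bool.rec (fun _ => ℕ) l5095 (t5096_5098 i) (Nat.ble (nat_lit 5096) i)) (Nat.ble (nat_lit 5095) i)) (@Bool.rec (fun _ => ℕ) (@Bool.rec (fun _ => ℕ) l5098 (t5099_5101 i) (Nat.ble (nat_lit 5099) i)) (@Bool.rec (fun _ => ℕ) l5101 (t5102_5104 i) (Nat.ble (nat_lit 5102) i)) (Nat.ble (nat_lit 5101) i)) (Nat.ble (nat_lit 5098) i))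
noncomputable def t5105_5107 (i : ℕ) : ℕ := (@Bool.rec (fun _ => ℕ) l5105 l5106 (Nat.ble (nat_lit 5106) i))
noncomputable def t5108_5110 (i : ℕ) : ℕ := (@Bool.rec (fun _ => ℕ) l5108 l5109 (Nat.ble (nat_lit 5109) i))
noncomputable def t5111_5113 (i : ℕ) : ℕ := (@Bool.rec (fun _ => ℕ) l5111 l5112 (Nat.ble (nat_lit 5112) i))
noncomputable def t5114_5116 (i : ℕ) : ℕ := (@Bool.rec (fun _ => ℕ) l5114 l5115 (Nat.ble (nat_lit 5115) i))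
noncomputable def t5104_5116 (i : ℕ) : ℕ := (@Bool.rec (fun _ => ℕ) (@Bool.rec (fun _ => ℕ) (@Bool.rec (fun _ => ℕ) l5104 (t5105_5107 i) (Nat.ble (nat_lit 5105) i)) (@Bool.rec (fun _ => ℕ) l5107 (t5108_5110 i) (Nat.ble (nat_lit 5108) i)) (Nat.ble (nat_lit 5107) i)) (@Bool.rec (fun _ => ℕ) (@Bool.rec (fun _ => ℕ) l5110 (t5111_5113 i) (Nat.ble (nat_lit 5111) i)) (@Bool.rec (fun _ => ℕ) l5113 (t5114_5116 i) (Nat.ble (nat_lit 5114) i)) (Nat.ble (nat_lit 5113) i)) (Nat.ble (nat_lit 5110) i))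
noncomputable def t5119_5121 (i : ℕ) : ℕ := (@Bool.rec (fun _ => ℕ) l5119 l5120 (Nat.ble (nat_lit 5120) i))
noncomputable def t5122_5124 (i : ℕ) : ℕ := (@Bool.rec (fun _ => ℕ) l5122 l5123 (Nat.ble (nat_lit 5123) i))
noncomputable def t5125_5127 (i : ℕ) : ℕ := (@Bool.rec (fun _ => ℕ) l5125 l5126 (Nat.ble (nat_lit 5126) i))
noncomputable def t5116_5127 (i : ℕ) : ℕ := (@Bool.rec (fun _ => ℕ) (@Bool.rec (fun _ => ℕ) (@Bool.rec (fun _ => ℕ) l5116 l5117 (Nat.ble (nat_lit 5117) i)) (@Bool.rec (fun _ => ℕ) l5118 (t5119_5121 i) (Nat.ble (nat_lit 5119) i)) (Nat.ble (nat_lit 5118) i)) (@Bool.rec (fun _ => ℕ) (@Bool.rec (fun _ => ℕ) l5121 (t5122_5124 i) (Nat.ble (nat_lit 5122) i)) (@Bool.rec (fun _ => ℕ) l5124 (t5125_5127 i) (Nat.ble (nat_lit 5125) i)) (Nat.ble (nat_lit 5124) i)) (Nat.ble (nat_lit 5121) i))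
noncomputable def t5128_5130 (i : ℕ) : ℕ := (@Bool.rec (fun _ => ℕ) l5128 l5129 (Nat.ble (nat_lit 5129) i))
noncomputable def t5131_5133 (i : ℕ) : ℕ := (@Bool.rec (fun _ => ℕ) l5131 l5132 (Nat.ble (nat_lit 5132) i))
noncomputable def t5134_5136 (i : ℕ) : ℕ := (@Bool.rec (fun _ => ℕ) l5134 l5135 (Nat.ble (nat_lit 5135) i))
noncomputable def t5137_5139 (i : ℕ) : ℕ := (@Bool.rec (fun _ => ℕ) l5137 l5138 (Nat.ble (nat_lit 5138) i))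
noncomputable def t5127_5139 (i : ℕ) : ℕ := (@Bool.rec (fun _ => ℕ) (@Bool.rec (fun _ => ℕ) (@Bool.rec (fun _ => ℕ) l5127 (t5128_5130 i) (Nat.ble (nat_lit 5128) i)) (@Bool.rec (fun _ => ℕ) l5130 (t5131_5133 i) (Nat.ble (nat_lit 5131) i)) (Nat.ble (nat_lit 5130) i)) (@Bool.rec (fun _ => ℕ) (@Bool.rec (fun _ => ℕ) l5133 (t5134_5136 i) (Nat.ble (nat_lit 5134) i)) (@Bool.rec (fun _ => ℕ) l5136 (t5137_5139 i) (Nat.ble (nat_lit 5137) i)) (Nat.ble (nat_lit 5136) i)) (Nat.ble (nat_lit 5133) i))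
noncomputable def t5140_5142 (i : ℕ) : ℕ := (@Bool.rec (fun _ => ℕ) l5140 l5141 (Nat.ble (nat_lit 5141) i))
noncomputable def t5143_5145 (i : ℕ) : ℕ := (@Bool.rec (fun _ => ℕ) l5143 l5144 (Nat.ble (nat_lit 5144) i))
noncomputable def t5146_5148 (i : ℕ) : ℕ := (@Bool.rec (fun _ => ℕ) l5146 l5147 (Nat.ble (nat_lit 5147) i))
noncomputable def t5149_5151 (i : ℕ) : ℕ := (@Bool.rec (fun _ => ℕ) l5149 l5150 (Nat.ble (nat_lit 5150) i))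
noncomputable def t5139_5151 (i : ℕ) : ℕ := (@Bool.rec (fun _ => ℕ) (@Bool.rec (fun _ => ℕ) (@Bool.rec (fun _ => ℕ) l5139 (t5140_5142 i) (Nat.ble (nat_lit 5140) i)) (@Bool.rec (fun _ => ℕ) l5142 (t5143_5145 i) (Nat.ble (nat_lit 5143) i)) (Nat.ble (nat_lit 5142) i)) (@Bool.rec (fun _ => ℕ) (@Bool.rec (fun _ => ℕ) l5145 (t5146_5148 i) (Nat.ble (nat_lit 5146) i)) (@Bool.rec (fun _ => ℕ) l5148 (t5149_5151 i) (Nat.ble (nat_lit 5149) i)) (Nat.ble (nat_lit 5148) i)) (Nat.ble (nat_lit 5145) i))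
noncomputable def t5152_5154 (i : ℕ) : ℕ := (@Bool.rec (fun _ => ℕ) l5152 l5153 (Nat.ble (nat_lit 5153) i))
noncomputable def t5155_5157 (i : ℕ) : ℕ := (@Bool.rec (fun _ => ℕ) l5155 l5156 (Nat.ble (nat_lit 5156) i))
noncomputable def t5158_5160 (i : ℕ) : ℕ := (@Bool.rec (fun _ => ℕ) l5158 l5159 (Nat.ble (nat_lit 5159) i))
noncomputable def t5161_5163 (i : ℕ) : ℕ := (@Bool.rec (fun _ => ℕ) l5161 l5162 (Nat.ble (nat_lit 5162) i))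
noncomputable def t5151_5163 (i : ℕ) : ℕ := (@Bool.rec (fun _ => ℕ) (@Bool.rec (fun _ => ℕ) (@Bool.rec (fun _ => ℕ) l5151 (t5152_5154 i) (Nat.ble (nat_lit 5152) i)) (@Bool.rec (fun _ => ℕ) l5154 (t5155_5157 i) (Nat.ble (nat_lit 5155) i)) (Nat.ble (nat_lit 5154) i)) (@Bool.rec (fun _ => ℕ) (@Bool.rec (fun _ => ℕ) l5157 (t5158_5160 i) (Nat.ble (nat_lit 5158) i)) (@Bool.rec (fun _ => ℕ) l5160 (t5161_5163 i) (Nat.ble (nat_lit 5161) i)) (Nat.ble (nat_lit 5160) i)) (Nat.ble (nat_lit 5157) i))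
noncomputable def t5070_5163 (i : ℕ) : ℕ := (@Bool.rec (fun _ => ℕ) (@Bool.rec (fun _ => ℕ) (@Bool.rec (fun _ => ℕ) (t5070_5081 i) (t5081_5093 i) (Nat.ble (nat_lit 5081) i)) (@Bool.rec (fun _ => ℕ) (t5093_5104 i) (t5104_5116 i) (Nat.ble (nat_lit 5104) i)) (Nat.ble (nat_lit 5093) i)) (@Bool.rec (fun _ => ℕ) (@Bool.rec (fun _ => ℕ) (t5116_5127 i) (t5127_5139 i) (Nat.ble (nat_lit 5127) i)) (@Bool.rec (fun _ => ℕ) (t5139_5151 i) (t5151_5163 i) (Nat.ble (nat_lit 5151) i)) (Nat.ble (nat_lit 5139) i)) (Nat.ble (nat_lit 5116) i))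
noncomputable def t4425_5163 (i : ℕ) : ℕ := (@Bool.rec (fun _ => ℕ) (@Bool.rec (fun _ => ℕ) (@Bool.rec (fun _ => ℕ) (t4425_4517 i) (t4517_4609 i) (Nat.ble (nat_lit 4517) i)) (@Bool.rec (fun _ => ℕ) (t4609_4701 i) (t4701_4794 i) (Nat.ble (nat_lit 4701) i)) (Nat.ble (nat_lit 4609) i)) (@Bool.rec (fun _ => ℕ) (@Bool.rec (fun _ => ℕ) (t4794_4886 i) (t4886_4978 i) (Nat.ble (nat_lit 4886) i)) (@Bool.rec (fun _ => ℕ) (t4978_5070 i) (t5070_5163 i) (Nat.ble (nat_lit 5070) i)) (Nat.ble (nat_lit 4978) i)) (Nat.ble (nat_lit 4794) i))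
noncomputable def t5166_5168 (i : ℕ) : ℕ := (@Bool.rec (fun _ => ℕ) l5166 l5167 (Nat.ble (nat_lit 5167) i))
noncomputable def t5169_5171 (i : ℕ) : ℕ := (@Bool.rec (fun _ => ℕ) l5169 l5170 (Nat.ble (nat_lit 5170) i))
noncomputable def t5172_5174 (i : ℕ) : ℕ := (@Bool.rec (fun _ => ℕ) l5172 l5173 (Nat.ble (nat_lit 5173) i))
noncomputable def t5163_5174 (i : ℕ) : ℕ := (@Bool.rec (fun _ => ℕ) (@Bool.rec (fun _ => ℕ) (@Bool.rec (fun _ => ℕ) l5163 l5164 (Nat.ble (nat_lit 5164) i)) (@Bool.rec (fun _ => ℕ) l5165 (t5166_5168 i) (Nat.ble (nat_lit 5166) i)) (Nat.ble (nat_lit 5165) i)) (@Bool.rec (fun _ => ℕ) (@Bool.rec (fun _ => ℕ) l5168 (t5169_5171 i) (Nat.ble (nat_lit 5169) i)) (@Bool.rec (fun _ => ℕ) l5171 (t5172_5174 i) (Nat.ble (nat_lit 5172) i)) (Nat.ble (nat_lit 5171) i)) (Nat.ble (nat_lit 5168) i))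
noncomputable def t5175_5177 (i : ℕ) : ℕ := (@Bool.rec (fun _ => ℕ) l5175 l5176 (Nat.ble (nat_lit 5176) i))
noncomputable def t5178_5180 (i : ℕ) : ℕ := (@Bool.rec (fun _ => ℕ) l5178 l5179 (Nat.ble (nat_lit 5179) i))
noncomputable def t5181_5183 (i : ℕ) : ℕ := (@Bool.rec (fun _ => ℕ) l5181 l5182 (Nat.ble (nat_lit 5182) i))
noncomputable def t5184_5186 (i : ℕ) : ℕ := (@Bool.rec (fun _ => ℕ) l5184 l5185 (Nat.ble (nat_lit 5185) i))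
noncomputable def t5174_5186 (i : ℕ) : ℕ := (@Bool.rec (fun _ => ℕ) (@Bool.rec (fun _ => ℕ) (@Bool.rec (fun _ => ℕ) l5174 (t5175_5177 i) (Nat.ble (nat_lit 5175) i)) (@Bool.rec (fun _ => ℕ) l5177 (t5178_5180 i) (Nat.ble (nat_lit 5178) i)) (Nat.ble (nat_lit 5177) i)) (@Bool.rec (fun _ => ℕ) (@Bool.rec (fun _ => ℕ) l5180 (t5181_5183 i) (Nat.ble (nat_lit 5181) i)) (@Bool.rec (fun _ => ℕ) l5183 (t5184_5186 i) (Nat.ble (nat_lit 5184) i)) (Nat.ble (nat_lit 5183) i)) (Nat.ble (nat_lit 5180) i))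
noncomputable def t5189_5191 (i : ℕ) : ℕ := (@Bool.rec (fun _ => ℕ) l5189 l5190 (Nat.ble (nat_lit 5190) i))
noncomputable def t5192_5194 (i : ℕ) : ℕ := (@Bool.rec (fun _ => ℕ) l5192 l5193 (Nat.ble (nat_lit 5193) i))
noncomputable def t5195_5197 (i : ℕ) : ℕ := (@Bool.rec (fun _ => ℕ) l5195 l5196 (Nat.ble (nat_lit 5196) i))
noncomputable def t5186_5197 (i : ℕ) : ℕ := (@Bool.rec (fun _ => ℕ) (@Bool.rec (fun _ => ℕ) (@Bool.rec (fun _ => ℕ) l5186 l5187 (Nat.ble (nat_lit 5187) i)) (@Bool.rec (fun _ => ℕ) l5188 (t5189_5191 i) (Nat.ble (nat_lit 5189) i)) (Nat.ble (nat_lit 5188) i)) (@Bool.rec (fun _ => ℕ) (@Bool.rec (fun _ => ℕ) l5191 (t5192_5194 i) (Nat.ble (nat_lit 5192) i)) (@Bool.rec (fun _ => ℕ) l5194 (t5195_5197 i) (Nat.ble (nat_lit 5195) i)) (Nat.ble (nat_lit 5194) i)) (Nat.ble (nat_lit 5191) i))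
noncomputable def t5198_5200 (i : ℕ) : ℕ := (@Bool.rec (fun _ => ℕ) l5198 l5199 (Nat.ble (nat_lit 5199) i))
noncomputable def t5201_5203 (i : ℕ) : ℕ := (@Bool.rec (fun _ => ℕ) l5201 l5202 (Nat.ble (nat_lit 5202) i))
noncomputable def t5204_5206 (i : ℕ) : ℕ := (@Bool.rec (fun _ => ℕ) l5204 l5205 (Nat.ble (nat_lit 5205) i))
noncomputable def t5207_5209 (i : ℕ) : ℕ := (@Bool.rec (fun _ => ℕ) l5207 l5208 (Nat.ble (nat_lit 5208) i))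
noncomputable def t5197_5209 (i : ℕ) : ℕ := (@Bool.rec (fun _ => ℕ) (@Bool.rec (fun _ => ℕ) (@Bool.rec (fun _ => ℕ) l5197 (t5198_5200 i) (Nat.ble (nat_lit 5198) i)) (@Bool.rec (fun _ => ℕ) l5200 (t5201_5203 i) (Nat.ble (nat_lit 5201) i)) (Nat.ble (nat_lit 5200) i)) (@Bool.rec (fun _ => ℕ) (@Bool.rec (fun _ => ℕ) l5203 (t5204_5206 i) (Nat.ble (nat_lit 5204) i)) (@Bool.rec (fun _ => ℕ) l5206 (t5207_5209 i) (Nat.ble (nat_lit 5207) i)) (Nat.ble (nat_lit 5206) i)) (Nat.ble (nat_lit 5203) i))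
noncomputable def t5212_5214 (i : ℕ) : ℕ := (@Bool.rec (fun _ => ℕ) l5212 l5213 (Nat.ble (nat_lit 5213) i))
noncomputable def t5215_5217 (i : ℕ) : ℕ := (@Bool.rec (fun _ => ℕ) l5215 l5216 (Nat.ble (nat_lit 5216) i))
noncomputable def t5218_5220 (i : ℕ) : ℕ := (@Bool.rec (fun _ => ℕ) l5218 l5219 (Nat.ble (nat_lit 5219) i))
noncomputable def t5209_5220 (i : ℕ) : ℕ := (@Bool.rec (fun _ => ℕ) (@Bool.rec (fun _ => ℕ) (@Bool.rec (fun _ => ℕ) l5209 l5210 (Nat.ble (nat_lit 5210) i)) (@Bool.rec (fun _ => ℕ) l5211 (t5212_5214 i) (Nat.ble (nat_lit 5212) i)) (Nat.ble (nat_lit 5211) i)) (@Bool.rec (fun _ => ℕ) (@Bool.rec (fun _ => ℕ) l5214 (t5215_5217 i) (Nat.ble (nat_lit 5215) i)) (@Bool.rec (fun _ => ℕ) l5217 (t5218_5220 i) (Nat.ble (nat_lit 5218) i)) (Nat.ble (nat_lit 5217) i)) (Nat.ble (nat_lit 5214) i))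
noncomputable def t5221_5223 (i : ℕ) : ℕ := (@Bool.rec (fun _ => ℕ) l5221 l5222 (Nat.ble (nat_lit 5222) i))
noncomputable def t5224_5226 (i : ℕ) : ℕ := (@Bool.rec (fun _ => ℕ) l5224 l5225 (Nat.ble (nat_lit 5225) i))
noncomputable def t5227_5229 (i : ℕ) : ℕ := (@Bool.rec (fun _ => ℕ) l5227 l5228 (Nat.ble (nat_lit 5228) i))
noncomputable def t5230_5232 (i : ℕ) : ℕ := (@Bool.rec (fun _ => ℕ) l5230 l5231 (Nat.ble (nat_lit 5231) i))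
noncomputable def t5220_5232 (i : ℕ) : ℕ := (@Bool.rec (fun _ => ℕ) (@Bool.rec (fun _ => ℕ) (@Bool.rec (fun _ => ℕ) l5220 (t5221_5223 i) (Nat.ble (nat_lit 5221) i)) (@Bool.rec (fun _ => ℕ) l5223 (t5224_5226 i) (Nat.ble (nat_lit 5224) i)) (Nat.ble (nat_lit 5223) i)) (@Bool.rec (fun _ => ℕ) (@Bool.rec (fun _ => ℕ) l5226 (t5227_5229 i) (Nat.ble (nat_lit 5227) i)) (@Bool.rec (fun _ => ℕ) l5229 (t5230_5232 i) (Nat.ble (nat_lit 5230) i)) (Nat.ble (nat_lit 5229) i)) (Nat.ble (nat_lit 5226) i))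
noncomputable def t5235_5237 (i : ℕ) : ℕ := (@Bool.rec (fun _ => ℕ) l5235 l5236 (Nat.ble (nat_lit 5236) i))
noncomputable def t5238_5240 (i : ℕ) : ℕ := (@Bool.rec (fun _ => ℕ) l5238 l5239 (Nat.ble (nat_lit 5239) i))
noncomputable def t5241_5243 (i : ℕ) : ℕ := (@Bool.rec (fun _ => ℕ) l5241 l5242 (Nat.ble (nat_lit 5242) i))
noncomputable def t5232_5243 (i : ℕ) : ℕ := (@Bool.rec (fun _ => ℕ) (@Bool.rec (fun _ => ℕ) (@Bool.rec (fun _ => ℕ) l5232 l5233 (Nat.ble (nat_lit 5233) i)) (@Bool.rec (fun _ => ℕ) l5234 (t5235_5237 i) (Nat.ble (nat_lit 5235) i)) (Nat.ble (nat_lit 5234) i)) (@Bool.rec (fun _ => ℕ) (@Bool.rec (fun _ => ℕ) l5237 (t5238_5240 i) (Nat.ble (nat_lit 5238) i)) (@Bool.rec (fun _ => ℕ) l5240 (t5241_5243 i) (Nat.ble (nat_lit 5241) i)) (Nat.ble (nat_lit 5240) i)) (Nat.ble (nat_lit 5237) i))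
noncomputable def t5244_5246 (i : ℕ) : ℕ := (@Bool.rec (fun _ => ℕ) l5244 l5245 (Nat.ble (nat_lit 5245) i))
noncomputable def t5247_5249 (i : ℕ) : ℕ := (@Bool.rec (fun _ => ℕ) l5247 l5248 (Nat.ble (nat_lit 5248) i))
noncomputable def t5250_5252 (i : ℕ) : ℕ := (@Bool.rec (fun _ => ℕ) l5250 l5251 (Nat.ble (nat_lit 5251) i))
noncomputable def t5253_5255 (i : ℕ) : ℕ := (@Bool.rec (fun _ => ℕ) l5253 l5254 (Nat.ble (nat_lit 5254) i))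
noncomputable def t5243_5255 (i : ℕ) : ℕ := (@Bool.rec (fun _ => ℕ) (@Bool.rec (fun _ => ℕ) (@Bool.rec (fun _ => ℕ) l5243 (t5244_5246 i) (Nat.ble (nat_lit 5244) i)) (@Bool.rec (fun _ => ℕ) l5246 (t5247_5249 i) (Nat.ble (nat_lit 5247) i)) (Nat.ble (nat_lit 5246) i)) (@Bool.rec (fun _ => ℕ) (@Bool.rec (fun _ => ℕ) l5249 (t5250_5252 i) (Nat.ble (nat_lit 5250) i)) (@Bool.rec (fun _ => ℕ) l5252 (t5253_5255 i) (Nat.ble (nat_lit 5253) i)) (Nat.ble (nat_lit 5252) i)) (Nat.ble (nat_lit 5249) i))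
noncomputable def t5163_5255 (i : ℕ) : ℕ := (@Bool.rec (fun _ => ℕ) (@Bool.rec (fun _ => ℕ) (@Bool.rec (fun _ => ℕ) (t5163_5174 i) (t5174_5186 i) (Nat.ble (nat_lit 5174) i)) (@Bool.rec (fun _ => ℕ) (t5186_5197 i) (t5197_5209 i) (Nat.ble (nat_lit 5197) i)) (Nat.ble (nat_lit 5186) i)) (@Bool.rec (fun _ => ℕ) (@Bool.rec (fun _ => ℕ) (t5209_5220 i) (t5220_5232 i) (Nat.ble (nat_lit 5220) i)) (@Bool.rec (fun _ => ℕ) (t5232_5243 i) (t5243_5255 i) (Nat.ble (nat_lit 5243) i)) (Nat.ble (nat_lit 5232) i)) (Nat.ble (nat_lit 5209) i))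
noncomputable def t5258_5260 (i : ℕ) : ℕ := (@Bool.rec (fun _ => ℕ) l5258 l5259 (Nat.ble (nat_lit 5259) i))
noncomputable def t5261_5263 (i : ℕ) : ℕ := (@Bool.rec (fun _ => ℕ) l5261 l5262 (Nat.ble (nat_lit 5262) i))
noncomputable def t5264_5266 (i : ℕ) : ℕ := (@Bool.rec (fun _ => ℕ) l5264 l5265 (Nat.ble (nat_lit 5265) i))
noncomputable def t5255_5266 (i : ℕ) : ℕ := (@Bool.rec (fun _ => ℕ) (@Bool.rec (fun _ => ℕ) (@Bool.rec (fun _ => ℕ) l5255 l5256 (Nat.ble (nat_lit 5256) i)) (@Bool.rec (fun _ => ℕ) l5257 (t5258_5260 i) (Nat.ble (nat_lit 5258) i)) (Nat.ble (nat_lit 5257) i)) (@Bool.rec (fun _ => ℕ) (@Bool.rec (fun _ => ℕ) l5260 (t5261_5263 i) (Nat.ble (nat_lit 5261) i)) (@Bool.rec (fun _ => ℕ) l5263 (t5264_5266 i) (Nat.ble (nat_lit 5264) i)) (Nat.ble (nat_lit 5263) i)) (Nat.ble (nat_lit 5260) i))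
noncomputable def t5267_5269 (i : ℕ) : ℕ := (@Bool.rec (fun _ => ℕ) l5267 l5268 (Nat.ble (nat_lit 5268) i))
noncomputable def t5270_5272 (i : ℕ) : ℕ := (@Bool.rec (fun _ => ℕ) l5270 l5271 (Nat.ble (nat_lit 5271) i))
noncomputable def t5273_5275 (i : ℕ) : ℕ := (@Bool.rec (fun _ => ℕ) l5273 l5274 (Nat.ble (nat_lit 5274) i))
noncomputable def t5276_5278 (i : ℕ) : ℕ := (@Bool.rec (fun _ => ℕ) l5276 l5277 (Nat.ble (nat_lit 5277) i))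
noncomputable def t5266_5278 (i : ℕ) : ℕ := (@Bool.rec (fun _ => ℕ) (@Bool.rec (fun _ => ℕ) (@Bool.rec (fun _ => ℕ) l5266 (t5267_5269 i) (Nat.ble (nat_lit 5267) i)) (@Bool.rec (fun _ => ℕ) l5269 (t5270_5272 i) (Nat.ble (nat_lit 5270) i)) (Nat.ble (nat_lit 5269) i)) (@Bool.rec (fun _ => ℕ) (@Bool.rec (fun _ => ℕ) l5272 (t5273_5275 i) (Nat.ble (nat_lit 5273) i)) (@Bool.rec (fun _ => ℕ) l5275 (t5276_5278 i) (Nat.ble (nat_lit 5276) i)) (Nat.ble (nat_lit 5275) i)) (Nat.ble (nat_lit 5272) i))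
noncomputable def t5281_5283 (i : ℕ) : ℕ := (@Bool.rec (fun _ => ℕ) l5281 l5282 (Nat.ble (nat_lit 5282) i))
noncomputable def t5284_5286 (i : ℕ) : ℕ := (@Bool.rec (fun _ => ℕ) l5284 l5285 (Nat.ble (nat_lit 5285) i))
noncomputable def t5287_5289 (i : ℕ) : ℕ := (@Bool.rec (fun _ => ℕ) l5287 l5288 (Nat.ble (nat_lit 5288) i))
noncomputable def t5278_5289 (i : ℕ) : ℕ := (@Bool.rec (fun _ => ℕ) (@Bool.rec (fun _ => ℕ) (@Bool.rec (fun _ => ℕ) l5278 l5279 (Nat.ble (nat_lit 5279) i)) (@Bool.rec (fun _ => ℕ) l5280 (t5281_5283 i) (Nat.ble (nat_lit 5281) i)) (Nat.ble (nat_lit 5280) i)) (@Bool.rec (fun _ => ℕ) (@Bool.rec (fun _ => ℕ) l5283 (t5284_5286 i) (Nat.ble (nat_lit 5284) i)) (@Bool.rec (fun _ => ℕ) l5286 (t5287_5289 i) (Nat.ble (nat_lit 5287) i)) (Nat.ble (nat_lit 5286) i)) (Nat.ble (nat_lit 5283) i))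
noncomputable def t5290_5292 (i : ℕ) : ℕ := (@Bool.rec (fun _ => ℕ) l5290 l5291 (Nat.ble (nat_lit 5291) i))
noncomputable def t5293_5295 (i : ℕ) : ℕ := (@Bool.rec (fun _ => ℕ) l5293 l5294 (Nat.ble (nat_lit 5294) i))
noncomputable def t5296_5298 (i : ℕ) : ℕ := (@Bool.rec (fun _ => ℕ) l5296 l5297 (Nat.ble (nat_lit 5297) i))
noncomputable def t5299_5301 (i : ℕ) : ℕ := (@Bool.rec (fun _ => ℕ) l5299 l5300 (Nat.ble (nat_lit 5300) i))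
noncomputable def t5289_5301 (i : ℕ) : ℕ := (@Bool.rec (fun _ => ℕ) (@Bool.rec (fun _ => ℕ) (@Bool.rec (fun _ => ℕ) l5289 (t5290_5292 i) (Nat.ble (nat_lit 5290) i)) (@Bool.rec (fun _ => ℕ) l5292 (t5293_5295 i) (Nat.ble (nat_lit 5293) i)) (Nat.ble (nat_lit 5292) i)) (@Bool.rec (fun _ => ℕ) (@Bool.rec (fun _ => ℕ) l5295 (t5296_5298 i) (Nat.ble (nat_lit 5296) i)) (@Bool.rec (fun _ => ℕ) l5298 (t5299_5301 i) (Nat.ble (nat_lit 5299) i)) (Nat.ble (nat_lit 5298) i)) (Nat.ble (nat_lit 5295) i))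
noncomputable def t5304_5306 (i : ℕ) : ℕ := (@Bool.rec (fun _ => ℕ) l5304 l5305 (Nat.ble (nat_lit 5305) i))
noncomputable def t5307_5309 (i : ℕ) : ℕ := (@Bool.rec (fun _ => ℕ) l5307 l5308 (Nat.ble (nat_lit 5308) i))
noncomputable def t5310_5312 (i : ℕ) : ℕ := (@Bool.rec (fun _ => ℕ) l5310 l5311 (Nat.ble (nat_lit 5311) i))
noncomputable def t5301_5312 (i : ℕ) : ℕ := (@Bool.rec (fun _ => ℕ) (@Bool.rec (fun _ => ℕ) (@Bool.rec (fun _ => ℕ) l5301 l5302 (Nat.ble (nat_lit 5302) i)) (@Bool.rec (fun _ => ℕ) l5303 (t5304_5306 i) (Nat.ble (nat_lit 5304) i)) (Nat.ble (nat_lit 5303) i)) (@Bool.rec (fun _ => ℕ) (@Bool.rec (fun _ => ℕ) l5306 (t5307_5309 i) (Nat.ble (nat_lit 5307) i)) (@Bool.rec (fun _ => ℕ) l5309 (t5310_5312 i) (Nat.ble (nat_lit 5310) i)) (Nat.ble (nat_lit 5309) i)) (Nat.ble (nat_lit 5306) i))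
noncomputable def t5313_5315 (i : ℕ) : ℕ := (@Bool.rec (fun _ => ℕ) l5313 l5314 (Nat.ble (nat_lit 5314) i))
noncomputable def t5316_5318 (i : ℕ) : ℕ := (@Bool.rec (fun _ => ℕ) l5316 l5317 (Nat.ble (nat_lit 5317) i))
noncomputable def t5319_5321 (i : ℕ) : ℕ := (@Bool.rec (fun _ => ℕ) l5319 l5320 (Nat.ble (nat_lit 5320) i))
noncomputable def t5322_5324 (i : ℕ) : ℕ := (@Bool.rec (fun _ => ℕ) l5322 l5323 (Nat.ble (nat_lit 5323) i))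
noncomputable def t5312_5324 (i : ℕ) : ℕ := (@Bool.rec (fun _ => ℕ) (@Bool.rec (fun _ => ℕ) (@Bool.rec (fun _ => ℕ) l5312 (t5313_5315 i) (Nat.ble (nat_lit 5313) i)) (@Bool.rec (fun _ => ℕ) l5315 (t5316_5318 i) (Nat.ble (nat_lit 5316) i)) (Nat.ble (nat_lit 5315) i)) (@Bool.rec (fun _ => ℕ) (@Bool.rec (fun _ => ℕ) l5318 (t5319_5321 i) (Nat.ble (nat_lit 5319) i)) (@Bool.rec (fun _ => ℕ) l5321 (t5322_5324 i) (Nat.ble (nat_lit 5322) i)) (Nat.ble (nat_lit 5321) i)) (Nat.ble (nat_lit 5318) i))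
noncomputable def t5327_5329 (i : ℕ) : ℕ := (@Bool.rec (fun _ => ℕ) l5327 l5328 (Nat.ble (nat_lit 5328) i))
noncomputable def t5330_5332 (i : ℕ) : ℕ := (@Bool.rec (fun _ => ℕ) l5330 l5331 (Nat.ble (nat_lit 5331) i))
noncomputable def t5333_5335 (i : ℕ) : ℕ := (@Bool.rec (fun _ => ℕ) l5333 l5334 (Nat.ble (nat_lit 5334) i))
noncomputable def t5324_5335 (i : ℕ) : ℕ := (@Bool.rec (fun _ => ℕ) (@Bool.rec (fun _ => ℕ) (@Bool.rec (fun _ => ℕ) l5324 l5325 (Nat.ble (nat_lit 5325) i)) (@Bool.rec (fun _ => ℕ) l5326 (t5327_5329 i) (Nat.ble (nat_lit 5327) i)) (Nat.ble (nat_lit 5326) i)) (@Bool.rec (fun _ => ℕ) (@Bool.rec (fun _ => ℕ) l5329 (t5330_5332 i) (Nat.ble (nat_lit 5330) i)) (@Bool.rec (fun _ => ℕ) l5332 (t5333_5335 i) (Nat.ble (nat_lit 5333) i)) (Nat.ble (nat_lit 5332) i)) (Nat.ble (nat_lit 5329) i))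
noncomputable def t5336_5338 (i : ℕ) : ℕ := (@Bool.rec (fun _ => ℕ) l5336 l5337 (Nat.ble (nat_lit 5337) i))
noncomputable def t5339_5341 (i : ℕ) : ℕ := (@Bool.rec (fun _ => ℕ) l5339 l5340 (Nat.ble (nat_lit 5340) i))
noncomputable def t5342_5344 (i : ℕ) : ℕ := (@Bool.rec (fun _ => ℕ) l5342 l5343 (Nat.ble (nat_lit 5343) i))
noncomputable def t5345_5347 (i : ℕ) : ℕ := (@Bool.rec (fun _ => ℕ) l5345 l5346 (Nat.ble (nat_lit 5346) i))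
noncomputable def t5335_5347 (i : ℕ) : ℕ := (@Bool.rec (fun _ => ℕ) (@Bool.rec (fun _ => ℕ) (@Bool.rec (fun _ => ℕ) l5335 (t5336_5338 i) (Nat.ble (nat_lit 5336) i)) (@Bool.rec (fun _ => ℕ) l5338 (t5339_5341 i) (Nat.ble (nat_lit 5339) i)) (Nat.ble (nat_lit 5338) i)) (@Bool.rec (fun _ => ℕ) (@Bool.rec (fun _ => ℕ) l5341 (t5342_5344 i) (Nat.ble (nat_lit 5342) i)) (@Bool.rec (fun _ => ℕ) l5344 (t5345_5347 i) (Nat.ble (nat_lit 5345) i)) (Nat.ble (nat_lit 5344) i)) (Nat.ble (nat_lit 5341) i))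
noncomputable def t5255_5347 (i : ℕ) : ℕ := (@Bool.rec (fun _ => ℕ) (@Bool.rec (fun _ => ℕ) (@Bool.rec (fun _ => ℕ) (t5255_5266 i) (t5266_5278 i) (Nat.ble (nat_lit 5266) i)) (@Bool.rec (fun _ => ℕ) (t5278_5289 i) (t5289_5301 i) (Nat.ble (nat_lit 5289) i)) (Nat.ble (nat_lit 5278) i)) (@Bool.rec (fun _ => ℕ) (@Bool.rec (fun _ => ℕ) (t5301_5312 i) (t5312_5324 i) (Nat.ble (nat_lit 5312) i)) (@Bool.rec (fun _ => ℕ) (t5324_5335 i) (t5335_5347 i) (Nat.ble (nat_lit 5335) i)) (Nat.ble (nat_lit 5324) i)) (Nat.ble (nat_lit 5301) i))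
noncomputable def t5350_5352 (i : ℕ) : ℕ := (@Bool.rec (fun _ => ℕ) l5350 l5351 (Nat.ble (nat_lit 5351) i))
noncomputable def t5353_5355 (i : ℕ) : ℕ := (@Bool.rec (fun _ => ℕ) l5353 l5354 (Nat.ble (nat_lit 5354) i))
noncomputable def t5356_5358 (i : ℕ) : ℕ := (@Bool.rec (fun _ => ℕ) l5356 l5357 (Nat.ble (nat_lit 5357) i))
noncomputable def t5347_5358 (i : ℕ) : ℕ := (@Bool.rec (fun _ => ℕ) (@Bool.rec (fun _ => ℕ) (@Bool.rec (fun _ => ℕ) l5347 l5348 (Nat.ble (nat_lit 5348) i)) (@Bool.rec (fun _ => ℕ) l5349 (t5350_5352 i) (Nat.ble (nat_lit 5350) i)) (Nat.ble (nat_lit 5349) i)) (@Bool.rec (fun _ => ℕ) (@Bool.rec (fun _ => ℕ) l5352 (t5353_5355 i) (Nat.ble (nat_lit 5353) i)) (@Bool.rec (fun _ => ℕ) l5355 (t5356_5358 i) (Nat.ble (nat_lit 5356) i)) (Nat.ble (nat_lit 5355) i)) (Nat.ble (nat_lit 5352) i))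
noncomputable def t5359_5361 (i : ℕ) : ℕ := (@Bool.rec (fun _ => ℕ) l5359 l5360 (Nat.ble (nat_lit 5360) i))
noncomputable def t5362_5364 (i : ℕ) : ℕ := (@Bool.rec (fun _ => ℕ) l5362 l5363 (Nat.ble (nat_lit 5363) i))
noncomputable def t5365_5367 (i : ℕ) : ℕ := (@Bool.rec (fun _ => ℕ) l5365 l5366 (Nat.ble (nat_lit 5366) i))
noncomputable def t5368_5370 (i : ℕ) : ℕ := (@Bool.rec (fun _ => ℕ) l5368 l5369 (Nat.ble (nat_lit 5369) i))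
noncomputable def t5358_5370 (i : ℕ) : ℕ := (@Bool.rec (fun _ => ℕ) (@Bool.rec (fun _ => ℕ) (@Bool.rec (fun _ => ℕ) l5358 (t5359_5361 i) (Nat.ble (nat_lit 5359) i)) (@Bool.rec (fun _ => ℕ) l5361 (t5362_5364 i) (Nat.ble (nat_lit 5362) i)) (Nat.ble (nat_lit 5361) i)) (@Bool.rec (fun _ => ℕ) (@Bool.rec (fun _ => ℕ) l5364 (t5365_5367 i) (Nat.ble (nat_lit 5365) i)) (@Bool.rec (fun _ => ℕ) l5367 (t5368_5370 i) (Nat.ble (nat_lit 5368) i)) (Nat.ble (nat_lit 5367) i)) (Nat.ble (nat_lit 5364) i))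
noncomputable def t5373_5375 (i : ℕ) : ℕ := (@Bool.rec (fun _ => ℕ) l5373 l5374 (Nat.ble (nat_lit 5374) i))
noncomputable def t5376_5378 (i : ℕ) : ℕ := (@Bool.rec (fun _ => ℕ) l5376 l5377 (Nat.ble (nat_lit 5377) i))
noncomputable def t5379_5381 (i : ℕ) : ℕ := (@Bool.rec (fun _ => ℕ) l5379 l5380 (Nat.ble (nat_lit 5380) i))
noncomputable def t5370_5381 (i : ℕ) : ℕ := (@Bool.rec (fun _ => ℕ) (@Bool.rec (fun _ => ℕ) (@Bool.rec (fun _ => ℕ) l5370 l5371 (Nat.ble (nat_lit 5371) i)) (@Bool.rec (fun _ => ℕ) l5372 (t5373_5375 i) (Nat.ble (nat_lit 5373) i)) (Nat.ble (nat_lit 5372) i)) (@Bool.rec (fun _ => ℕ) (@Bool.rec (fun _ => ℕ) l5375 (t5376_5378 i) (Nat.ble (nat_lit 5376) i)) (@Bool.rec (fun _ => ℕ) l5378 (t5379_5381 i) (Nat.ble (nat_lit 5379) i)) (Nat.ble (nat_lit 5378) i)) (Nat.ble (nat_lit 5375) i))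
noncomputable def t5382_5384 (i : ℕ) : ℕ := (@Bool.rec (fun _ => ℕ) l5382 l5383 (Nat.ble (nat_lit 5383) i))
noncomputable def t5385_5387 (i : ℕ) : ℕ := (@Bool.rec (fun _ => ℕ) l5385 l5386 (Nat.ble (nat_lit 5386) i))
noncomputable def t5388_5390 (i : ℕ) : ℕ := (@Bool.rec (fun _ => ℕ) l5388 l5389 (Nat.ble (nat_lit 5389) i))
noncomputable def t5391_5393 (i : ℕ) : ℕ := (@Bool.rec (fun _ => ℕ) l5391 l5392 (Nat.ble (nat_lit 5392) i))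
noncomputable def t5381_5393 (i : ℕ) : ℕ := (@Bool.rec (fun _ => ℕ) (@Bool.rec (fun _ => ℕ) (@Bool.rec (fun _ => ℕ) l5381 (t5382_5384 i) (Nat.ble (nat_lit 5382) i)) (@Bool.rec (fun _ => ℕ) l5384 (t5385_5387 i) (Nat.ble (nat_lit 5385) i)) (Nat.ble (nat_lit 5384) i)) (@Bool.rec (fun _ => ℕ) (@Bool.rec (fun _ => ℕ) l5387 (t5388_5390 i) (Nat.ble (nat_lit 5388) i)) (@Bool.rec (fun _ => ℕ) l5390 (t5391_5393 i) (Nat.ble (nat_lit 5391) i)) (Nat.ble (nat_lit 5390) i)) (Nat.ble (nat_lit 5387) i))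
noncomputable def t5396_5398 (i : ℕ) : ℕ := (@Bool.rec (fun _ => ℕ) l5396 l5397 (Nat.ble (nat_lit 5397) i))
noncomputable def t5399_5401 (i : ℕ) : ℕ := (@Bool.rec (fun _ => ℕ) l5399 l5400 (Nat.ble (nat_lit 5400) i))
noncomputable def t5402_5404 (i : ℕ) : ℕ := (@Bool.rec (fun _ => ℕ) l5402 l5403 (Nat.ble (nat_lit 5403) i))
noncomputable def t5393_5404 (i : ℕ) : ℕ := (@Bool.rec (fun _ => ℕ) (@Bool.rec (fun _ => ℕ) (@Bool.rec (fun _ => ℕ) l5393 l5394 (Nat.ble (nat_lit 5394) i)) (@Bool.rec (fun _ => ℕ) l5395 (t5396_5398 i) (Nat.ble (nat_lit 5396) i)) (Nat.ble (nat_lit 5395) i)) (@Bool.rec (fun _ => ℕ) (@Bool.rec (fun _ => ℕ) l5398 (t5399_5401 i) (Nat.ble (nat_lit 5399) i)) (@Bool.rec (fun _ => ℕ) l5401 (t5402_5404 i) (Nat.ble (nat_lit 5402) i)) (Nat.ble (nat_lit 5401) i)) (Nat.ble (nat_lit 5398) i))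
noncomputable def t5405_5407 (i : ℕ) : ℕ := (@Bool.rec (fun _ => ℕ) l5405 l5406 (Nat.ble (nat_lit 5406) i))
noncomputable def t5408_5410 (i : ℕ) : ℕ := (@Bool.rec (fun _ => ℕ) l5408 l5409 (Nat.ble (nat_lit 5409) i))
noncomputable def t5411_5413 (i : ℕ) : ℕ := (@Bool.rec (fun _ => ℕ) l5411 l5412 (Nat.ble (nat_lit 5412) i))
noncomputable def t5414_5416 (i : ℕ) : ℕ := (@Bool.rec (fun _ => ℕ) l5414 l5415 (Nat.ble (nat_lit 5415) i))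
noncomputable def t5404_5416 (i : ℕ) : ℕ := (@Bool.rec (fun _ => ℕ) (@Bool.rec (fun _ => ℕ) (@Bool.rec (fun _ => ℕ) l5404 (t5405_5407 i) (Nat.ble (nat_lit 5405) i)) (@Bool.rec (fun _ => ℕ) l5407 (t5408_5410 i) (Nat.ble (nat_lit 5408) i)) (Nat.ble (nat_lit 5407) i)) (@Bool.rec (fun _ => ℕ) (@Bool.rec (fun _ => ℕ) l5410 (t5411_5413 i) (Nat.ble (nat_lit 5411) i)) (@Bool.rec (fun _ => ℕ) l5413 (t5414_5416 i) (Nat.ble (nat_lit 5414) i)) (Nat.ble (nat_lit 5413) i)) (Nat.ble (nat_lit 5410) i))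
noncomputable def t5419_5421 (i : ℕ) : ℕ := (@Bool.rec (fun _ => ℕ) l5419 l5420 (Nat.ble (nat_lit 5420) i))
noncomputable def t5422_5424 (i : ℕ) : ℕ := (@Bool.rec (fun _ => ℕ) l5422 l5423 (Nat.ble (nat_lit 5423) i))
noncomputable def t5425_5427 (i : ℕ) : ℕ := (@Bool.rec (fun _ => ℕ) l5425 l5426 (Nat.ble (nat_lit 5426) i))
noncomputable def t5416_5427 (i : ℕ) : ℕ := (@Bool.rec (fun _ => ℕ) (@Bool.rec (fun _ => ℕ) (@Bool.rec (fun _ => ℕ) l5416 l5417 (Nat.ble (nat_lit 5417) i)) (@Bool.rec (fun _ => ℕ) l5418 (t5419_5421 i) (Nat.ble (nat_lit 5419) i)) (Nat.ble (nat_lit 5418) i)) (@Bool.rec (fun _ => ℕ) (@Bool.rec (fun _ => ℕ) l5421 (t5422_5424 i) (Nat.ble (nat_lit 5422) i)) (@Bool.rec (fun _ => ℕ) l5424 (t5425_5427 i) (Nat.ble (nat_lit 5425) i)) (Nat.ble (nat_lit 5424) i)) (Nat.ble (nat_lit 5421) i))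
noncomputable def t5428_5430 (i : ℕ) : ℕ := (@Bool.rec (fun _ => ℕ) l5428 l5429 (Nat.ble (nat_lit 5429) i))
noncomputable def t5431_5433 (i : ℕ) : ℕ := (@Bool.rec (fun _ => ℕ) l5431 l5432 (Nat.ble (nat_lit 5432) i))
noncomputable def t5434_5436 (i : ℕ) : ℕ := (@Bool.rec (fun _ => ℕ) l5434 l5435 (Nat.ble (nat_lit 5435) i))
noncomputable def t5437_5439 (i : ℕ) : ℕ := (@Bool.rec (fun _ => ℕ) l5437 l5438 (Nat.ble (nat_lit 5438) i))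
noncomputable def t5427_5439 (i : ℕ) : ℕ := (@Bool.rec (fun _ => ℕ) (@Bool.rec (fun _ => ℕ) (@Bool.rec (fun _ => ℕ) l5427 (t5428_5430 i) (Nat.ble (nat_lit 5428) i)) (@Bool.rec (fun _ => ℕ) l5430 (t5431_5433 i) (Nat.ble (nat_lit 5431) i)) (Nat.ble (nat_lit 5430) i)) (@Bool.rec (fun _ => ℕ) (@Bool.rec (fun _ => ℕ) l5433 (t5434_5436 i) (Nat.ble (nat_lit 5434) i)) (@Bool.rec (fun _ => ℕ) l5436 (t5437_5439 i) (Nat.ble (nat_lit 5437) i)) (Nat.ble (nat_lit 5436) i)) (Nat.ble (nat_lit 5433) i))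
noncomputable def t5347_5439 (i : ℕ) : ℕ := (@Bool.rec (fun _ => ℕ) (@Bool.rec (fun _ => ℕ) (@Bool.rec (fun _ => ℕ) (t5347_5358 i) (t5358_5370 i) (Nat.ble (nat_lit 5358) i)) (@Bool.rec (fun _ => ℕ) (t5370_5381 i) (t5381_5393 i) (Nat.ble (nat_lit 5381) i)) (Nat.ble (nat_lit 5370) i)) (@Bool.rec (fun _ => ℕ) (@Bool.rec (fun _ => ℕ) (t5393_5404 i) (t5404_5416 i) (Nat.ble (nat_lit 5404) i)) (@Bool.rec (fun _ => ℕ) (t5416_5427 i) (t5427_5439 i) (Nat.ble (nat_lit 5427) i)) (Nat.ble (nat_lit 5416) i)) (Nat.ble (nat_lit 5393) i))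
noncomputable def t5442_5444 (i : ℕ) : ℕ := (@Bool.rec (fun _ => ℕ) l5442 l5443 (Nat.ble (nat_lit 5443) i))
noncomputable def t5445_5447 (i : ℕ) : ℕ := (@Bool.rec (fun _ => ℕ) l5445 l5446 (Nat.ble (nat_lit 5446) i))
noncomputable def t5448_5450 (i : ℕ) : ℕ := (@Bool.rec (fun _ => ℕ) l5448 l5449 (Nat.ble (nat_lit 5449) i))
noncomputable def t5439_5450 (i : ℕ) : ℕ := (@Bool.rec (fun _ => ℕ) (@Bool.rec (fun _ => ℕ) (@Bool.rec (fun _ => ℕ) l5439 l5440 (Nat.ble (nat_lit 5440) i)) (@Bool.rec (fun _ => ℕ) l5441 (t5442_5444 i) (Nat.ble (nat_lit 5442) i)) (Nat.ble (nat_lit 5441) i)) (@Bool.rec (fun _ => ℕ) (@Bool.rec (fun _ => ℕ) l5444 (t5445_5447 i) (Nat.ble (nat_lit 5445) i)) (@Bool.rec (fun _ => ℕ) l5447 (t5448_5450 i) (Nat.ble (nat_lit 5448) i)) (Nat.ble (nat_lit 5447) i)) (Nat.ble (nat_lit 5444) i))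
noncomputable def t5451_5453 (i : ℕ) : ℕ := (@Bool.rec (fun _ => ℕ) l5451 l5452 (Nat.ble (nat_lit 5452) i))
noncomputable def t5454_5456 (i : ℕ) : ℕ := (@Bool.rec (fun _ => ℕ) l5454 l5455 (Nat.ble (nat_lit 5455) i))
noncomputable def t5457_5459 (i : ℕ) : ℕ := (@Bool.rec (fun _ => ℕ) l5457 l5458 (Nat.ble (nat_lit 5458) i))
noncomputable def t5460_5462 (i : ℕ) : ℕ := (@Bool.rec (fun _ => ℕ) l5460 l5461 (Nat.ble (nat_lit 5461) i))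
noncomputable def t5450_5462 (i : ℕ) : ℕ := (@Bool.rec (fun _ => ℕ) (@Bool.rec (fun _ => ℕ) (@Bool.rec (fun _ => ℕ) l5450 (t5451_5453 i) (Nat.ble (nat_lit 5451) i)) (@Bool.rec (fun _ => ℕ) l5453 (t5454_5456 i) (Nat.ble (nat_lit 5454) i)) (Nat.ble (nat_lit 5453) i)) (@Bool.rec (fun _ => ℕ) (@Bool.rec (fun _ => ℕ) l5456 (t5457_5459 i) (Nat.ble (nat_lit 5457) i)) (@Bool.rec (fun _ => ℕ) l5459 (t5460_5462 i) (Nat.ble (nat_lit 5460) i)) (Nat.ble (nat_lit 5459) i)) (Nat.ble (nat_lit 5456) i))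
noncomputable def t5465_5467 (i : ℕ) : ℕ := (@Bool.rec (fun _ => ℕ) l5465 l5466 (Nat.ble (nat_lit 5466) i))
noncomputable def t5468_5470 (i : ℕ) : ℕ := (@Bool.rec (fun _ => ℕ) l5468 l5469 (Nat.ble (nat_lit 5469) i))
noncomputable def t5471_5473 (i : ℕ) : ℕ := (@Bool.rec (fun _ => ℕ) l5471 l5472 (Nat.ble (nat_lit 5472) i))
noncomputable def t5462_5473 (i : ℕ) : ℕ := (@Bool.rec (fun _ => ℕ) (@Bool.rec (fun _ => ℕ) (@Bool.rec (fun _ => ℕ) l5462 l5463 (Nat.ble (nat_lit 5463) i)) (@Bool.rec (fun _ => ℕ) l5464 (t5465_5467 i) (Nat.ble (nat_lit 5465) i)) (Nat.ble (nat_lit 5464) i)) (@Bool.rec (fun _ => ℕ) (@Bool.rec (fun _ => ℕ) l5467 (t5468_5470 i) (Nat.ble (nat_lit 5468) i)) (@Bool.rec (fun _ => ℕ) l5470 (t5471_5473 i) (Nat.ble (nat_lit 5471) i)) (Nat.ble (nat_lit 5470) i)) (Nat.ble (nat_lit 5467) i))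
noncomputable def t5474_5476 (i : ℕ) : ℕ := (@Bool.rec (fun _ => ℕ) l5474 l5475 (Nat.ble (nat_lit 5475) i))
noncomputable def t5477_5479 (i : ℕ) : ℕ := (@Bool.rec (fun _ => ℕ) l5477 l5478 (Nat.ble (nat_lit 5478) i))
noncomputable def t5480_5482 (i : ℕ) : ℕ := (@Bool.rec (fun _ => ℕ) l5480 l5481 (Nat.ble (nat_lit 5481) i))
noncomputable def t5483_5485 (i : ℕ) : ℕ := (@Bool.rec (fun _ => ℕ) l5483 l5484 (Nat.ble (nat_lit 5484) i))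
noncomputable def t5473_5485 (i : ℕ) : ℕ := (@Bool.rec (fun _ => ℕ) (@Bool.rec (fun _ => ℕ) (@Bool.rec (fun _ => ℕ) l5473 (t5474_5476 i) (Nat.ble (nat_lit 5474) i)) (@Bool.rec (fun _ => ℕ) l5476 (t5477_5479 i) (Nat.ble (nat_lit 5477) i)) (Nat.ble (nat_lit 5476) i)) (@Bool.rec (fun _ => ℕ) (@Bool.rec (fun _ => ℕ) l5479 (t5480_5482 i) (Nat.ble (nat_lit 5480) i)) (@Bool.rec (fun _ => ℕ) l5482 (t5483_5485 i) (Nat.ble (nat_lit 5483) i)) (Nat.ble (nat_lit 5482) i)) (Nat.ble (nat_lit 5479) i))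
noncomputable def t5488_5490 (i : ℕ) : ℕ := (@Bool.rec (fun _ => ℕ) l5488 l5489 (Nat.ble (nat_lit 5489) i))
noncomputable def t5491_5493 (i : ℕ) : ℕ := (@Bool.rec (fun _ => ℕ) l5491 l5492 (Nat.ble (nat_lit 5492) i))
noncomputable def t5494_5496 (i : ℕ) : ℕ := (@Bool.rec (fun _ => ℕ) l5494 l5495 (Nat.ble (nat_lit 5495) i))
noncomputable def t5485_5496 (i : ℕ) : ℕ := (@Bool.rec (fun _ => ℕ) (@Bool.rec (fun _ => ℕ) (@Bool.rec (fun _ => ℕ) l5485 l5486 (Nat.ble (nat_lit 5486) i)) (@Bool.rec (fun _ => ℕ) l5487 (t5488_5490 i) (Nat.ble (nat_lit 5488) i)) (Nat.ble (nat_lit 5487) i)) (@Bool.rec (fun _ => ℕ) (@Bool.rec (fun _ => ℕ) l5490 (t5491_5493 i) (Nat.ble (nat_lit 5491) i)) (@Bool.rec (fun _ => ℕ) l5493 (t5494_5496 i) (Nat.ble (nat_lit 5494) i)) (Nat.ble (nat_lit 5493) i)) (Nat.ble (nat_lit 5490) i))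
noncomputable def t5497_5499 (i : ℕ) : ℕ := (@Bool.rec (fun _ => ℕ) l5497 l5498 (Nat.ble (nat_lit 5498) i))
noncomputable def t5500_5502 (i : ℕ) : ℕ := (@Bool.rec (fun _ => ℕ) l5500 l5501 (Nat.ble (nat_lit 5501) i))
noncomputable def t5503_5505 (i : ℕ) : ℕ := (@Bool.rec (fun _ => ℕ) l5503 l5504 (Nat.ble (nat_lit 5504) i))
noncomputable def t5506_5508 (i : ℕ) : ℕ := (@Bool.rec (fun _ => ℕ) l5506 l5507 (Nat.ble (nat_lit 5507) i))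
noncomputable def t5496_5508 (i : ℕ) : ℕ := (@Bool.rec (fun _ => ℕ) (@Bool.rec (fun _ => ℕ) (@Bool.rec (fun _ => ℕ) l5496 (t5497_5499 i) (Nat.ble (nat_lit 5497) i)) (@Bool.rec (fun _ => ℕ) l5499 (t5500_5502 i) (Nat.ble (nat_lit 5500) i)) (Nat.ble (nat_lit 5499) i)) (@Bool.rec (fun _ => ℕ) (@Bool.rec (fun _ => ℕ) l5502 (t5503_5505 i) (Nat.ble (nat_lit 5503) i)) (@Bool.rec (fun _ => ℕ) l5505 (t5506_5508 i) (Nat.ble (nat_lit 5506) i)) (Nat.ble (nat_lit 5505) i)) (Nat.ble (nat_lit 5502) i))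
noncomputable def t5509_5511 (i : ℕ) : ℕ := (@Bool.rec (fun _ => ℕ) l5509 l5510 (Nat.ble (nat_lit 5510) i))
noncomputable def t5512_5514 (i : ℕ) : ℕ := (@Bool.rec (fun _ => ℕ) l5512 l5513 (Nat.ble (nat_lit 5513) i))
noncomputable def t5515_5517 (i : ℕ) : ℕ := (@Bool.rec (fun _ => ℕ) l5515 l5516 (Nat.ble (nat_lit 5516) i))
noncomputable def t5518_5520 (i : ℕ) : ℕ := (@Bool.rec (fun _ => ℕ) l5518 l5519 (Nat.ble (nat_lit 5519) i))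
noncomputable def t5508_5520 (i : ℕ) : ℕ := (@Bool.rec (fun _ => ℕ) (@Bool.rec (fun _ => ℕ) (@Bool.rec (fun _ => ℕ) l5508 (t5509_5511 i) (Nat.ble (nat_lit 5509) i)) (@Bool.rec (fun _ => ℕ) l5511 (t5512_5514 i) (Nat.ble (nat_lit 5512) i)) (Nat.ble (nat_lit 5511) i)) (@Bool.rec (fun _ => ℕ) (@Bool.rec (fun _ => ℕ) l5514 (t5515_5517 i) (Nat.ble (nat_lit 5515) i)) (@Bool.rec (fun _ => ℕ) l5517 (t5518_5520 i) (Nat.ble (nat_lit 5518) i)) (Nat.ble (nat_lit 5517) i)) (Nat.ble (nat_lit 5514) i))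
noncomputable def t5521_5523 (i : ℕ) : ℕ := (@Bool.rec (fun _ => ℕ) l5521 l5522 (Nat.ble (nat_lit 5522) i))
noncomputable def t5524_5526 (i : ℕ) : ℕ := (@Bool.rec (fun _ => ℕ) l5524 l5525 (Nat.ble (nat_lit 5525) i))
noncomputable def t5527_5529 (i : ℕ) : ℕ := (@Bool.rec (fun _ => ℕ) l5527 l5528 (Nat.ble (nat_lit 5528) i))
noncomputable def t5530_5532 (i : ℕ) : ℕ := (@Bool.rec (fun _ => ℕ) l5530 l5531 (Nat.ble (nat_lit 5531) i))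
noncomputable def t5520_5532 (i : ℕ) : ℕ := (@Bool.rec (fun _ => ℕ) (@Bool.rec (fun _ => ℕ) (@Bool.rec (fun _ => ℕ) l5520 (t5521_5523 i) (Nat.ble (nat_lit 5521) i)) (@Bool.rec (fun _ => ℕ) l5523 (t5524_5526 i) (Nat.ble (nat_lit 5524) i)) (Nat.ble (nat_lit 5523) i)) (@Bool.rec (fun _ => ℕ) (@Bool.rec (fun _ => ℕ) l5526 (t5527_5529 i) (Nat.ble (nat_lit 5527) i)) (@Bool.rec (fun _ => ℕ) l5529 (t5530_5532 i) (Nat.ble (nat_lit 5530) i)) (Nat.ble (nat_lit 5529) i)) (Nat.ble (nat_lit 5526) i))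
noncomputable def t5439_5532 (i : ℕ) : ℕ := (@Bool.rec (fun _ => ℕ) (@Bool.rec (fun _ => ℕ) (@Bool.rec (fun _ => ℕ) (t5439_5450 i) (t5450_5462 i) (Nat.ble (nat_lit 5450) i)) (@Bool.rec (fun _ => ℕ) (t5462_5473 i) (t5473_5485 i) (Nat.ble (nat_lit 5473) i)) (Nat.ble (nat_lit 5462) i)) (@Bool.rec (fun _ => ℕ) (@Bool.rec (fun _ => ℕ) (t5485_5496 i) (t5496_5508 i) (Nat.ble (nat_lit 5496) i)) (@Bool.rec (fun _ => ℕ) (t5508_5520 i) (t5520_5532 i) (Nat.ble (nat_lit 5520) i)) (Nat.ble (nat_lit 5508) i)) (Nat.ble (nat_lit 5485) i))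
noncomputable def t5535_5537 (i : ℕ) : ℕ := (@Bool.rec (fun _ => ℕ) l5535 l5536 (Nat.ble (nat_lit 5536) i))
noncomputable def t5538_5540 (i : ℕ) : ℕ := (@Bool.rec (fun _ => ℕ) l5538 l5539 (Nat.ble (nat_lit 5539) i))
noncomputable def t5541_5543 (i : ℕ) : ℕ := (@Bool.rec (fun _ => ℕ) l5541 l5542 (Nat.ble (nat_lit 5542) i))
noncomputable def t5532_5543 (i : ℕ) : ℕ := (@Bool.rec (fun _ => ℕ) (@Bool.rec (fun _ => ℕ) (@Bool.rec (fun _ => ℕ) l5532 l5533 (Nat.ble (nat_lit 5533) i)) (@Bool.rec (fun _ => ℕ) l5534 (t5535_5537 i) (Nat.ble (nat_lit 5535) i)) (Nat.ble (nat_lit 5534) i)) (@Bool.rec (fun _ => ℕ) (@Bool.rec (fun _ => ℕ) l5537 (t5538_5540 i) (Nat.ble (nat_lit 5538) i)) (@Bool.rec (fun _ => ℕ) l5540 (t5541_5543 i) (Nat.ble (nat_lit 5541) i)) (Nat.ble (nat_lit 5540) i)) (Nat.ble (nat_lit 5537) i))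
noncomputable def t5544_5546 (i : ℕ) : ℕ := (@Bool.rec (fun _ => ℕ) l5544 l5545 (Nat.ble (nat_lit 5545) i))
noncomputable def t5547_5549 (i : ℕ) : ℕ := (@Bool.rec (fun _ => ℕ) l5547 l5548 (Nat.ble (nat_lit 5548) i))
noncomputable def t5550_5552 (i : ℕ) : ℕ := (@Bool.rec (fun _ => ℕ) l5550 l5551 (Nat.ble (nat_lit 5551) i))
noncomputable def t5553_5555 (i : ℕ) : ℕ := (@Bool.rec (fun _ => ℕ) l5553 l5554 (Nat.ble (nat_lit 5554) i))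
noncomputable def t5543_5555 (i : ℕ) : ℕ := (@Bool.rec (fun _ => ℕ) (@Bool.rec (fun _ => ℕ) (@Bool.rec (fun _ => ℕ) l5543 (t5544_5546 i) (Nat.ble (nat_lit 5544) i)) (@Bool.rec (fun _ => ℕ) l5546 (t5547_5549 i) (Nat.ble (nat_lit 5547) i)) (Nat.ble (nat_lit 5546) i)) (@Bool.rec (fun _ => ℕ) (@Bool.rec (fun _ => ℕ) l5549 (t5550_5552 i) (Nat.ble (nat_lit 5550) i)) (@Bool.rec (fun _ => ℕ) l5552 (t5553_5555 i) (Nat.ble (nat_lit 5553) i)) (Nat.ble (nat_lit 5552) i)) (Nat.ble (nat_lit 5549) i))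
noncomputable def t5558_5560 (i : ℕ) : ℕ := (@Bool.rec (fun _ => ℕ) l5558 l5559 (Nat.ble (nat_lit 5559) i))
noncomputable def t5561_5563 (i : ℕ) : ℕ := (@Bool.rec (fun _ => ℕ) l5561 l5562 (Nat.ble (nat_lit 5562) i))
noncomputable def t5564_5566 (i : ℕ) : ℕ := (@Bool.rec (fun _ => ℕ) l5564 l5565 (Nat.ble (nat_lit 5565) i))
noncomputable def t5555_5566 (i : ℕ) : ℕ := (@Bool.rec (fun _ => ℕ) (@Bool.rec (fun _ => ℕ) (@Bool.rec (fun _ => ℕ) l5555 l5556 (Nat.ble (nat_lit 5556) i)) (@Bool.rec (fun _ => ℕ) l5557 (t5558_5560 i) (Nat.ble (nat_lit 5558) i)) (Nat.ble (nat_lit 5557) i)) (@Bool.rec (fun _ => ℕ) (@Bool.rec (fun _ => ℕ) l5560 (t5561_5563 i) (Nat.ble (nat_lit 5561) i)) (@Bool.rec (fun _ => ℕ) l5563 (t5564_5566 i) (Nat.ble (nat_lit 5564) i)) (Nat.ble (nat_lit 5563) i)) (Nat.ble (nat_lit 5560) i))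
noncomputable def t5567_5569 (i : ℕ) : ℕ := (@Bool.rec (fun _ => ℕ) l5567 l5568 (Nat.ble (nat_lit 5568) i))
noncomputable def t5570_5572 (i : ℕ) : ℕ := (@Bool.rec (fun _ => ℕ) l5570 l5571 (Nat.ble (nat_lit 5571) i))
noncomputable def t5573_5575 (i : ℕ) : ℕ := (@Bool.rec (fun _ => ℕ) l5573 l5574 (Nat.ble (nat_lit 5574) i))
noncomputable def t5576_5578 (i : ℕ) : ℕ := (@Bool.rec (fun _ => ℕ) l5576 l5577 (Nat.ble (nat_lit 5577) i))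
noncomputable def t5566_5578 (i : ℕ) : ℕ := (@Bool.rec (fun _ => ℕ) (@Bool.rec (fun _ => ℕ) (@Bool.rec (fun _ => ℕ) l5566 (t5567_5569 i) (Nat.ble (nat_lit 5567) i)) (@Bool.rec (fun _ => ℕ) l5569 (t5570_5572 i) (Nat.ble (nat_lit 5570) i)) (Nat.ble (nat_lit 5569) i)) (@Bool.rec (fun _ => ℕ) (@Bool.rec (fun _ => ℕ) l5572 (t5573_5575 i) (Nat.ble (nat_lit 5573) i)) (@Bool.rec (fun _ => ℕ) l5575 (t5576_5578 i) (Nat.ble (nat_lit 5576) i)) (Nat.ble (nat_lit 5575) i)) (Nat.ble (nat_lit 5572) i))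
noncomputable def t5581_5583 (i : ℕ) : ℕ := (@Bool.rec (fun _ => ℕ) l5581 l5582 (Nat.ble (nat_lit 5582) i))
noncomputable def t5584_5586 (i : ℕ) : ℕ := (@Bool.rec (fun _ => ℕ) l5584 l5585 (Nat.ble (nat_lit 5585) i))
noncomputable def t5587_5589 (i : ℕ) : ℕ := (@Bool.rec (fun _ => ℕ) l5587 l5588 (Nat.ble (nat_lit 5588) i))
noncomputable def t5578_5589 (i : ℕ) : ℕ := (@Bool.rec (fun _ => ℕ) (@Bool.rec (fun _ => ℕ) (@Bool.rec (fun _ => ℕ) l5578 l5579 (Nat.ble (nat_lit 5579) i)) (@Bool.rec (fun _ => ℕ) l5580 (t5581_5583 i) (Nat.ble (nat_lit 5581) i)) (Nat.ble (nat_lit 5580) i)) (@Bool.rec (fun _ => ℕ) (@Bool.rec (fun _ => ℕ) l5583 (t5584_5586 i) (Nat.ble (nat_lit 5584) i)) (@Bool.rec (fun _ => ℕ) l5586 (t5587_5589 i) (Nat.ble (nat_lit 5587) i)) (Nat.ble (nat_lit 5586) i)) (Nat.ble (nat_lit 5583) i))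
noncomputable def t5590_5592 (i : ℕ) : ℕ := (@Bool.rec (fun _ => ℕ) l5590 l5591 (Nat.ble (nat_lit 5591) i))
noncomputable def t5593_5595 (i : ℕ) : ℕ := (@Bool.rec (fun _ => ℕ) l5593 l5594 (Nat.ble (nat_lit 5594) i))
noncomputable def t5596_5598 (i : ℕ) : ℕ := (@Bool.rec (fun _ => ℕ) l5596 l5597 (Nat.ble (nat_lit 5597) i))
noncomputable def t5599_5601 (i : ℕ) : ℕ := (@Bool.rec (fun _ => ℕ) l5599 l5600 (Nat.ble (nat_lit 5600) i))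
noncomputable def t5589_5601 (i : ℕ) : ℕ := (@Bool.rec (fun _ => ℕ) (@Bool.rec (fun _ => ℕ) (@Bool.rec (fun _ => ℕ) l5589 (t5590_5592 i) (Nat.ble (nat_lit 5590) i)) (@Bool.rec (fun _ => ℕ) l5592 (t5593_5595 i) (Nat.ble (nat_lit 5593) i)) (Nat.ble (nat_lit 5592) i)) (@Bool.rec (fun _ => ℕ) (@Bool.rec (fun _ => ℕ) l5595 (t5596_5598 i) (Nat.ble (nat_lit 5596) i)) (@Bool.rec (fun _ => ℕ) l5598 (t5599_5601 i) (Nat.ble (nat_lit 5599) i)) (Nat.ble (nat_lit 5598) i)) (Nat.ble (nat_lit 5595) i))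
noncomputable def t5604_5606 (i : ℕ) : ℕ := (@Bool.rec (fun _ => ℕ) l5604 l5605 (Nat.ble (nat_lit 5605) i))
noncomputable def t5607_5609 (i : ℕ) : ℕ := (@Bool.rec (fun _ => ℕ) l5607 l5608 (Nat.ble (nat_lit 5608) i))
noncomputable def t5610_5612 (i : ℕ) : ℕ := (@Bool.rec (fun _ => ℕ) l5610 l5611 (Nat.ble (nat_lit 5611) i))
noncomputable def t5601_5612 (i : ℕ) : ℕ := (@Bool.rec (fun _ => ℕ) (@Bool.rec (fun _ => ℕ) (@Bool.rec (fun _ => ℕ) l5601 l5602 (Nat.ble (nat_lit 5602) i)) (@Bool.rec (fun _ => ℕ) l5603 (t5604_5606 i) (Nat.ble (nat_lit 5604) i)) (Nat.ble (nat_lit 5603) i)) (@Bool.rec (fun _ => ℕ) (@Bool.rec (fun _ => ℕ) l5606 (t5607_5609 i) (Nat.ble (nat_lit 5607) i)) (@Bool.rec (fun _ => ℕ) l5609 (t5610_5612 i) (Nat.ble (nat_lit 5610) i)) (Nat.ble (nat_lit 5609) i)) (Nat.ble (nat_lit 5606) i))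
noncomputable def t5613_5615 (i : ℕ) : ℕ := (@Bool.rec (fun _ => ℕ) l5613 l5614 (Nat.ble (nat_lit 5614) i))
noncomputable def t5616_5618 (i : ℕ) : ℕ := (@Bool.rec (fun _ => ℕ) l5616 l5617 (Nat.ble (nat_lit 5617) i))
noncomputable def t5619_5621 (i : ℕ) : ℕ := (@Bool.rec (fun _ => ℕ) l5619 l5620 (Nat.ble (nat_lit 5620) i))
noncomputable def t5622_5624 (i : ℕ) : ℕ := (@Bool.rec (fun _ => ℕ) l5622 l5623 (Nat.ble (nat_lit 5623) i))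
noncomputable def t5612_5624 (i : ℕ) : ℕ := (@Bool.rec (fun _ => ℕ) (@Bool.rec (fun _ => ℕ) (@Bool.rec (fun _ => ℕ) l5612 (t5613_5615 i) (Nat.ble (nat_lit 5613) i)) (@Bool.rec (fun _ => ℕ) l5615 (t5616_5618 i) (Nat.ble (nat_lit 5616) i)) (Nat.ble (nat_lit 5615) i)) (@Bool.rec (fun _ => ℕ) (@Bool.rec (fun _ => ℕ) l5618 (t5619_5621 i) (Nat.ble (nat_lit 5619) i)) (@Bool.rec (fun _ => ℕ) l5621 (t5622_5624 i) (Nat.ble (nat_lit 5622) i)) (Nat.ble (nat_lit 5621) i)) (Nat.ble (nat_lit 5618) i))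
noncomputable def t5532_5624 (i : ℕ) : ℕ := (@Bool.rec (fun _ => ℕ) (@Bool.rec (fun _ => ℕ) (@Bool.rec (fun _ => ℕ) (t5532_5543 i) (t5543_5555 i) (Nat.ble (nat_lit 5543) i)) (@Bool.rec (fun _ => ℕ) (t5555_5566 i) (t5566_5578 i) (Nat.ble (nat_lit 5566) i)) (Nat.ble (nat_lit 5555) i)) (@Bool.rec (fun _ => ℕ) (@Bool.rec (fun _ => ℕ) (t5578_5589 i) (t5589_5601 i) (Nat.ble (nat_lit 5589) i)) (@Bool.rec (fun _ => ℕ) (t5601_5612 i) (t5612_5624 i) (Nat.ble (nat_lit 5612) i)) (Nat.ble (nat_lit 5601) i)) (Nat.ble (nat_lit 5578) i))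
noncomputable def t5627_5629 (i : ℕ) : ℕ := (@Bool.rec (fun _ => ℕ) l5627 l5628 (Nat.ble (nat_lit 5628) i))
noncomputable def t5630_5632 (i : ℕ) : ℕ := (@Bool.rec (fun _ => ℕ) l5630 l5631 (Nat.ble (nat_lit 5631) i))
noncomputable def t5633_5635 (i : ℕ) : ℕ := (@Bool.rec (fun _ => ℕ) l5633 l5634 (Nat.ble (nat_lit 5634) i))
noncomputable def t5624_5635 (i : ℕ) : ℕ := (@Bool.rec (fun _ => ℕ) (@Bool.rec (fun _ => ℕ) (@Bool.rec (fun _ => ℕ) l5624 l5625 (Nat.ble (nat_lit 5625) i)) (@Bool.rec (fun _ => ℕ) l5626 (t5627_5629 i) (Nat.ble (nat_lit 5627) i)) (Nat.ble (nat_lit 5626) i)) (@Bool.rec (fun _ => ℕ) (@Bool.rec (fun _ => ℕ) l5629 (t5630_5632 i) (Nat.ble (nat_lit 5630) i)) (@Bool.rec (fun _ => ℕ) l5632 (t5633_5635 i) (Nat.ble (nat_lit 5633) i)) (Nat.ble (nat_lit 5632) i)) (Nat.ble (nat_lit 5629) i))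
noncomputable def t5636_5638 (i : ℕ) : ℕ := (@Bool.rec (fun _ => ℕ) l5636 l5637 (Nat.ble (nat_lit 5637) i))
noncomputable def t5639_5641 (i : ℕ) : ℕ := (@Bool.rec (fun _ => ℕ) l5639 l5640 (Nat.ble (nat_lit 5640) i))
noncomputable def t5642_5644 (i : ℕ) : ℕ := (@Bool.rec (fun _ => ℕ) l5642 l5643 (Nat.ble (nat_lit 5643) i))
noncomputable def t5645_5647 (i : ℕ) : ℕ := (@Bool.rec (fun _ => ℕ) l5645 l5646 (Nat.ble (nat_lit 5646) i))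
noncomputable def t5635_5647 (i : ℕ) : ℕ := (@Bool.rec (fun _ => ℕ) (@Bool.rec (fun _ => ℕ) (@Bool.rec (fun _ => ℕ) l5635 (t5636_5638 i) (Nat.ble (nat_lit 5636) i)) (@Bool.rec (fun _ => ℕ) l5638 (t5639_5641 i) (Nat.ble (nat_lit 5639) i)) (Nat.ble (nat_lit 5638) i)) (@Bool.rec (fun _ => ℕ) (@Bool.rec (fun _ => ℕ) l5641 (t5642_5644 i) (Nat.ble (nat_lit 5642) i)) (@Bool.rec (fun _ => ℕ) l5644 (t5645_5647 i) (Nat.ble (nat_lit 5645) i)) (Nat.ble (nat_lit 5644) i)) (Nat.ble (nat_lit 5641) i))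
noncomputable def t5650_5652 (i : ℕ) : ℕ := (@Bool.rec (fun _ => ℕ) l5650 l5651 (Nat.ble (nat_lit 5651) i))
noncomputable def t5653_5655 (i : ℕ) : ℕ := (@Bool.rec (fun _ => ℕ) l5653 l5654 (Nat.ble (nat_lit 5654) i))
noncomputable def t5656_5658 (i : ℕ) : ℕ := (@Bool.rec (fun _ => ℕ) l5656 l5657 (Nat.ble (nat_lit 5657) i))
noncomputable def t5647_5658 (i : ℕ) : ℕ := (@Bool.rec (fun _ => ℕ) (@Bool.rec (fun _ => ℕ) (@Bool.rec (fun _ => ℕ) l5647 l5648 (Nat.ble (nat_lit 5648) i)) (@Bool.rec (fun _ => ℕ) l5649 (t5650_5652 i) (Nat.ble (nat_lit 5650) i)) (Nat.ble (nat_lit 5649) i)) (@Bool.rec (fun _ => ℕ) (@Bool.rec (fun _ => ℕ) l5652 (t5653_5655 i) (Nat.ble (nat_lit 5653) i)) (@Bool.rec (fun _ => ℕ) l5655 (t5656_5658 i) (Nat.ble (nat_lit 5656) i)) (Nat.ble (nat_lit 5655) i)) (Nat.ble (nat_lit 5652) i))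
noncomputable def t5659_5661 (i : ℕ) : ℕ := (@Bool.rec (fun _ => ℕ) l5659 l5660 (Nat.ble (nat_lit 5660) i))
noncomputable def t5662_5664 (i : ℕ) : ℕ := (@Bool.rec (fun _ => ℕ) l5662 l5663 (Nat.ble (nat_lit 5663) i))
noncomputable def t5665_5667 (i : ℕ) : ℕ := (@Bool.rec (fun _ => ℕ) l5665 l5666 (Nat.ble (nat_lit 5666) i))
noncomputable def t5668_5670 (i : ℕ) : ℕ := (@Bool.rec (fun _ => ℕ) l5668 l5669 (Nat.ble (nat_lit 5669) i))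
noncomputable def t5658_5670 (i : ℕ) : ℕ := (@Bool.rec (fun _ => ℕ) (@Bool.rec (fun _ => ℕ) (@Bool.rec (fun _ => ℕ) l5658 (t5659_5661 i) (Nat.ble (nat_lit 5659) i)) (@Bool.rec (fun _ => ℕ) l5661 (t5662_5664 i) (Nat.ble (nat_lit 5662) i)) (Nat.ble (nat_lit 5661) i)) (@Bool.rec (fun _ => ℕ) (@Bool.rec (fun _ => ℕ) l5664 (t5665_5667 i) (Nat.ble (nat_lit 5665) i)) (@Bool.rec (fun _ => ℕ) l5667 (t5668_5670 i) (Nat.ble (nat_lit 5668) i)) (Nat.ble (nat_lit 5667) i)) (Nat.ble (nat_lit 5664) i))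
noncomputable def t5673_5675 (i : ℕ) : ℕ := (@Bool.rec (fun _ => ℕ) l5673 l5674 (Nat.ble (nat_lit 5674) i))
noncomputable def t5676_5678 (i : ℕ) : ℕ := (@Bool.rec (fun _ => ℕ) l5676 l5677 (Nat.ble (nat_lit 5677) i))
noncomputable def t5679_5681 (i : ℕ) : ℕ := (@Bool.rec (fun _ => ℕ) l5679 l5680 (Nat.ble (nat_lit 5680) i))
noncomputable def t5670_5681 (i : ℕ) : ℕ := (@Bool.rec (fun _ => ℕ) (@Bool.rec (fun _ => ℕ) (@Bool.rec (fun _ => ℕ) l5670 l5671 (Nat.ble (nat_lit 5671) i)) (@Bool.rec (fun _ => ℕ) l5672 (t5673_5675 i) (Nat.ble (nat_lit 5673) i)) (Nat.ble (nat_lit 5672) i)) (@Bool.rec (fun _ => ℕ) (@Bool.rec (fun _ => ℕ) l5675 (t5676_5678 i) (Nat.ble (nat_lit 5676) i)) (@Bool.rec (fun _ => ℕ) l5678 (t5679_5681 i) (Nat.ble (nat_lit 5679) i)) (Nat.ble (nat_lit 5678) i)) (Nat.ble (nat_lit 5675) i))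
noncomputable def t5682_5684 (i : ℕ) : ℕ := (@Bool.rec (fun _ => ℕ) l5682 l5683 (Nat.ble (nat_lit 5683) i))
noncomputable def t5685_5687 (i : ℕ) : ℕ := (@Bool.rec (fun _ => ℕ) l5685 l5686 (Nat.ble (nat_lit 5686) i))
noncomputable def t5688_5690 (i : ℕ) : ℕ := (@Bool.rec (fun _ => ℕ) l5688 l5689 (Nat.ble (nat_lit 5689) i))
noncomputable def t5691_5693 (i : ℕ) : ℕ := (@Bool.rec (fun _ => ℕ) l5691 l5692 (Nat.ble (nat_lit 5692) i))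
noncomputable def t5681_5693 (i : ℕ) : ℕ := (@Bool.rec (fun _ => ℕ) (@Bool.rec (fun _ => ℕ) (@Bool.rec (fun _ => ℕ) l5681 (t5682_5684 i) (Nat.ble (nat_lit 5682) i)) (@Bool.rec (fun _ => ℕ) l5684 (t5685_5687 i) (Nat.ble (nat_lit 5685) i)) (Nat.ble (nat_lit 5684) i)) (@Bool.rec (fun _ => ℕ) (@Bool.rec (fun _ => ℕ) l5687 (t5688_5690 i) (Nat.ble (nat_lit 5688) i)) (@Bool.rec (fun _ => ℕ) l5690 (t5691_5693 i) (Nat.ble (nat_lit 5691) i)) (Nat.ble (nat_lit 5690) i)) (Nat.ble (nat_lit 5687) i))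
noncomputable def t5696_5698 (i : ℕ) : ℕ := (@Bool.rec (fun _ => ℕ) l5696 l5697 (Nat.ble (nat_lit 5697) i))
noncomputable def t5699_5701 (i : ℕ) : ℕ := (@Bool.rec (fun _ => ℕ) l5699 l5700 (Nat.ble (nat_lit 5700) i))
noncomputable def t5702_5704 (i : ℕ) : ℕ := (@Bool.rec (fun _ => ℕ) l5702 l5703 (Nat.ble (nat_lit 5703) i))
noncomputable def t5693_5704 (i : ℕ) : ℕ := (@Bool.rec (fun _ => ℕ) (@Bool.rec (fun _ => ℕ) (@Bool.rec (fun _ => ℕ) l5693 l5694 (Nat.ble (nat_lit 5694) i)) (@Bool.rec (fun _ => ℕ) l5695 (t5696_5698 i) (Nat.ble (nat_lit 5696) i)) (Nat.ble (nat_lit 5695) i)) (@Bool.rec (fun _ => ℕ) (@Bool.rec (fun _ => ℕ) l5698 (t5699_5701 i) (Nat.ble (nat_lit 5699) i)) (@Bool.rec (fun _ => ℕ) l5701 (t5702_5704 i) (Nat.ble (nat_lit 5702) i)) (Nat.ble (nat_lit 5701) i)) (Nat.ble (nat_lit 5698) i))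
noncomputable def t5705_5707 (i : ℕ) : ℕ := (@Bool.rec (fun _ => ℕ) l5705 l5706 (Nat.ble (nat_lit 5706) i))
noncomputable def t5708_5710 (i : ℕ) : ℕ := (@Bool.rec (fun _ => ℕ) l5708 l5709 (Nat.ble (nat_lit 5709) i))
noncomputable def t5711_5713 (i : ℕ) : ℕ := (@Bool.rec (fun _ => ℕ) l5711 l5712 (Nat.ble (nat_lit 5712) i))
noncomputable def t5714_5716 (i : ℕ) : ℕ := (@Bool.rec (fun _ => ℕ) l5714 l5715 (Nat.ble (nat_lit 5715) i))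
noncomputable def t5704_5716 (i : ℕ) : ℕ := (@Bool.rec (fun _ => ℕ) (@Bool.rec (fun _ => ℕ) (@Bool.rec (fun _ => ℕ) l5704 (t5705_5707 i) (Nat.ble (nat_lit 5705) i)) (@Bool.rec (fun _ => ℕ) l5707 (t5708_5710 i) (Nat.ble (nat_lit 5708) i)) (Nat.ble (nat_lit 5707) i)) (@Bool.rec (fun _ => ℕ) (@Bool.rec (fun _ => ℕ) l5710 (t5711_5713 i) (Nat.ble (nat_lit 5711) i)) (@Bool.rec (fun _ => ℕ) l5713 (t5714_5716 i) (Nat.ble (nat_lit 5714) i)) (Nat.ble (nat_lit 5713) i)) (Nat.ble (nat_lit 5710) i))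
noncomputable def t5624_5716 (i : ℕ) : ℕ := (@Bool.rec (fun _ => ℕ) (@Bool.rec (fun _ => ℕ) (@Bool.rec (fun _ => ℕ) (t5624_5635 i) (t5635_5647 i) (Nat.ble (nat_lit 5635) i)) (@Bool.rec (fun _ => ℕ) (t5647_5658 i) (t5658_5670 i) (Nat.ble (nat_lit 5658) i)) (Nat.ble (nat_lit 5647) i)) (@Bool.rec (fun _ => ℕ) (@Bool.rec (fun _ => ℕ) (t5670_5681 i) (t5681_5693 i) (Nat.ble (nat_lit 5681) i)) (@Bool.rec (fun _ => ℕ) (t5693_5704 i) (t5704_5716 i) (Nat.ble (nat_lit 5704) i)) (Nat.ble (nat_lit 5693) i)) (Nat.ble (nat_lit 5670) i))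
noncomputable def t5719_5721 (i : ℕ) : ℕ := (@Bool.rec (fun _ => ℕ) l5719 l5720 (Nat.ble (nat_lit 5720) i))
noncomputable def t5722_5724 (i : ℕ) : ℕ := (@Bool.rec (fun _ => ℕ) l5722 l5723 (Nat.ble (nat_lit 5723) i))
noncomputable def t5725_5727 (i : ℕ) : ℕ := (@Bool.rec (fun _ => ℕ) l5725 l5726 (Nat.ble (nat_lit 5726) i))
noncomputable def t5716_5727 (i : ℕ) : ℕ := (@Bool.rec (fun _ => ℕ) (@Bool.rec (fun _ => ℕ) (@Bool.rec (fun _ => ℕ) l5716 l5717 (Nat.ble (nat_lit 5717) i)) (@Bool.rec (fun _ => ℕ) l5718 (t5719_5721 i) (Nat.ble (nat_lit 5719) i)) (Nat.ble (nat_lit 5718) i)) (@Bool.rec (fun _ => ℕ) (@Bool.rec (fun _ => ℕ) l5721 (t5722_5724 i) (Nat.ble (nat_lit 5722) i)) (@Bool.rec (fun _ => ℕ) l5724 (t5725_5727 i) (Nat.ble (nat_lit 5725) i)) (Nat.ble (nat_lit 5724) i)) (Nat.ble (nat_lit 5721) i))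
noncomputable def t5728_5730 (i : ℕ) : ℕ := (@Bool.rec (fun _ => ℕ) l5728 l5729 (Nat.ble (nat_lit 5729) i))
noncomputable def t5731_5733 (i : ℕ) : ℕ := (@Bool.rec (fun _ => ℕ) l5731 l5732 (Nat.ble (nat_lit 5732) i))
noncomputable def t5734_5736 (i : ℕ) : ℕ := (@Bool.rec (fun _ => ℕ) l5734 l5735 (Nat.ble (nat_lit 5735) i))
noncomputable def t5737_5739 (i : ℕ) : ℕ := (@Bool.rec (fun _ => ℕ) l5737 l5738 (Nat.ble (nat_lit 5738) i))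
noncomputable def t5727_5739 (i : ℕ) : ℕ := (@Bool.rec (fun _ => ℕ) (@Bool.rec (fun _ => ℕ) (@Bool.rec (fun _ => ℕ) l5727 (t5728_5730 i) (Nat.ble (nat_lit 5728) i)) (@Bool.rec (fun _ => ℕ) l5730 (t5731_5733 i) (Nat.ble (nat_lit 5731) i)) (Nat.ble (nat_lit 5730) i)) (@Bool.rec (fun _ => ℕ) (@Bool.rec (fun _ => ℕ) l5733 (t5734_5736 i) (Nat.ble (nat_lit 5734) i)) (@Bool.rec (fun _ => ℕ) l5736 (t5737_5739 i) (Nat.ble (nat_lit 5737) i)) (Nat.ble (nat_lit 5736) i)) (Nat.ble (nat_lit 5733) i))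
noncomputable def t5742_5744 (i : ℕ) : ℕ := (@Bool.rec (fun _ => ℕ) l5742 l5743 (Nat.ble (nat_lit 5743) i))
noncomputable def t5745_5747 (i : ℕ) : ℕ := (@Bool.rec (fun _ => ℕ) l5745 l5746 (Nat.ble (nat_lit 5746) i))
noncomputable def t5748_5750 (i : ℕ) : ℕ := (@Bool.rec (fun _ => ℕ) l5748 l5749 (Nat.ble (nat_lit 5749) i))
noncomputable def t5739_5750 (i : ℕ) : ℕ := (@Bool.rec (fun _ => ℕ) (@Bool.rec (fun _ => ℕ) (@Bool.rec (fun _ => ℕ) l5739 l5740 (Nat.ble (nat_lit 5740) i)) (@Bool.rec (fun _ => ℕ) l5741 (t5742_5744 i) (Nat.ble (nat_lit 5742) i)) (Nat.ble (nat_lit 5741) i)) (@Bool.rec (fun _ => ℕ) (@Bool.rec (fun _ => ℕ) l5744 (t5745_5747 i) (Nat.ble (nat_lit 5745) i)) (@Bool.rec (fun _ => ℕ) l5747 (t5748_5750 i) (Nat.ble (nat_lit 5748) i)) (Nat.ble (nat_lit 5747) i)) (Nat.ble (nat_lit 5744) i))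
noncomputable def t5751_5753 (i : ℕ) : ℕ := (@Bool.rec (fun _ => ℕ) l5751 l5752 (Nat.ble (nat_lit 5752) i))
noncomputable def t5754_5756 (i : ℕ) : ℕ := (@Bool.rec (fun _ => ℕ) l5754 l5755 (Nat.ble (nat_lit 5755) i))
noncomputable def t5757_5759 (i : ℕ) : ℕ := (@Bool.rec (fun _ => ℕ) l5757 l5758 (Nat.ble (nat_lit 5758) i))
noncomputable def t5760_5762 (i : ℕ) : ℕ := (@Bool.rec (fun _ => ℕ) l5760 l5761 (Nat.ble (nat_lit 5761) i))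
noncomputable def t5750_5762 (i : ℕ) : ℕ := (@Bool.rec (fun _ => ℕ) (@Bool.rec (fun _ => ℕ) (@Bool.rec (fun _ => ℕ) l5750 (t5751_5753 i) (Nat.ble (nat_lit 5751) i)) (@Bool.rec (fun _ => ℕ) l5753 (t5754_5756 i) (Nat.ble (nat_lit 5754) i)) (Nat.ble (nat_lit 5753) i)) (@Bool.rec (fun _ => ℕ) (@Bool.rec (fun _ => ℕ) l5756 (t5757_5759 i) (Nat.ble (nat_lit 5757) i)) (@Bool.rec (fun _ => ℕ) l5759 (t5760_5762 i) (Nat.ble (nat_lit 5760) i)) (Nat.ble (nat_lit 5759) i)) (Nat.ble (nat_lit 5756) i))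
noncomputable def t5765_5767 (i : ℕ) : ℕ := (@Bool.rec (fun _ => ℕ) l5765 l5766 (Nat.ble (nat_lit 5766) i))
noncomputable def t5768_5770 (i : ℕ) : ℕ := (@Bool.rec (fun _ => ℕ) l5768 l5769 (Nat.ble (nat_lit 5769) i))
noncomputable def t5771_5773 (i : ℕ) : ℕ := (@Bool.rec (fun _ => ℕ) l5771 l5772 (Nat.ble (nat_lit 5772) i))
noncomputable def t5762_5773 (i : ℕ) : ℕ := (@Bool.rec (fun _ => ℕ) (@Bool.rec (fun _ => ℕ) (@Bool.rec (fun _ => ℕ) l5762 l5763 (Nat.ble (nat_lit 5763) i)) (@Bool.rec (fun _ => ℕ) l5764 (t5765_5767 i) (Nat.ble (nat_lit 5765) i)) (Nat.ble (nat_lit 5764) i)) (@Bool.rec (fun _ => ℕ) (@Bool.rec (fun _ => ℕ) l5767 (t5768_5770 i) (Nat.ble (nat_lit 5768) i)) (@Bool.rec (fun _ => ℕ) l5770 (t5771_5773 i) (Nat.ble (nat_lit 5771) i)) (Nat.ble (nat_lit 5770) i)) (Nat.ble (nat_lit 5767) i))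
noncomputable def t5774_5776 (i : ℕ) : ℕ := (@Bool.rec (fun _ => ℕ) l5774 l5775 (Nat.ble (nat_lit 5775) i))
noncomputable def t5777_5779 (i : ℕ) : ℕ := (@Bool.rec (fun _ => ℕ) l5777 l5778 (Nat.ble (nat_lit 5778) i))
noncomputable def t5780_5782 (i : ℕ) : ℕ := (@Bool.rec (fun _ => ℕ) l5780 l5781 (Nat.ble (nat_lit 5781) i))
noncomputable def t5783_5785 (i : ℕ) : ℕ := (@Bool.rec (fun _ => ℕ) l5783 l5784 (Nat.ble (nat_lit 5784) i))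
noncomputable def t5773_5785 (i : ℕ) : ℕ := (@Bool.rec (fun _ => ℕ) (@Bool.rec (fun _ => ℕ) (@Bool.rec (fun _ => ℕ) l5773 (t5774_5776 i) (Nat.ble (nat_lit 5774) i)) (@Bool.rec (fun _ => ℕ) l5776 (t5777_5779 i) (Nat.ble (nat_lit 5777) i)) (Nat.ble (nat_lit 5776) i)) (@Bool.rec (fun _ => ℕ) (@Bool.rec (fun _ => ℕ) l5779 (t5780_5782 i) (Nat.ble (nat_lit 5780) i)) (@Bool.rec (fun _ => ℕ) l5782 (t5783_5785 i) (Nat.ble (nat_lit 5783) i)) (Nat.ble (nat_lit 5782) i)) (Nat.ble (nat_lit 5779) i))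
noncomputable def t5788_5790 (i : ℕ) : ℕ := (@Bool.rec (fun _ => ℕ) l5788 l5789 (Nat.ble (nat_lit 5789) i))
noncomputable def t5791_5793 (i : ℕ) : ℕ := (@Bool.rec (fun _ => ℕ) l5791 l5792 (Nat.ble (nat_lit 5792) i))
noncomputable def t5794_5796 (i : ℕ) : ℕ := (@Bool.rec (fun _ => ℕ) l5794 l5795 (Nat.ble (nat_lit 5795) i))
noncomputable def t5785_5796 (i : ℕ) : ℕ := (@Bool.rec (fun _ => ℕ) (@Bool.rec (fun _ => ℕ) (@Bool.rec (fun _ => ℕ) l5785 l5786 (Nat.ble (nat_lit 5786) i)) (@Bool.rec (fun _ => ℕ) l5787 (t5788_5790 i) (Nat.ble (nat_lit 5788) i)) (Nat.ble (nat_lit 5787) i)) (@Bool.rec (fun _ => ℕ) (@Bool.rec (fun _ => ℕ) l5790 (t5791_5793 i) (Nat.ble (nat_lit 5791) i)) (@Bool.rec (fun _ => ℕ) l5793 (t5794_5796 i) (Nat.ble (nat_lit 5794) i)) (Nat.ble (nat_lit 5793) i)) (Nat.ble (nat_lit 5790) i))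
noncomputable def t5797_5799 (i : ℕ) : ℕ := (@Bool.rec (fun _ => ℕ) l5797 l5798 (Nat.ble (nat_lit 5798) i))
noncomputable def t5800_5802 (i : ℕ) : ℕ := (@Bool.rec (fun _ => ℕ) l5800 l5801 (Nat.ble (nat_lit 5801) i))
noncomputable def t5803_5805 (i : ℕ) : ℕ := (@Bool.rec (fun _ => ℕ) l5803 l5804 (Nat.ble (nat_lit 5804) i))
noncomputable def t5806_5808 (i : ℕ) : ℕ := (@Bool.rec (fun _ => ℕ) l5806 l5807 (Nat.ble (nat_lit 5807) i))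
noncomputable def t5796_5808 (i : ℕ) : ℕ := (@Bool.rec (fun _ => ℕ) (@Bool.rec (fun _ => ℕ) (@Bool.rec (fun _ => ℕ) l5796 (t5797_5799 i) (Nat.ble (nat_lit 5797) i)) (@Bool.rec (fun _ => ℕ) l5799 (t5800_5802 i) (Nat.ble (nat_lit 5800) i)) (Nat.ble (nat_lit 5799) i)) (@Bool.rec (fun _ => ℕ) (@Bool.rec (fun _ => ℕ) l5802 (t5803_5805 i) (Nat.ble (nat_lit 5803) i)) (@Bool.rec (fun _ => ℕ) l5805 (t5806_5808 i) (Nat.ble (nat_lit 5806) i)) (Nat.ble (nat_lit 5805) i)) (Nat.ble (nat_lit 5802) i))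
noncomputable def t5716_5808 (i : ℕ) : ℕ := (@Bool.rec (fun _ => ℕ) (@Bool.rec (fun _ => ℕ) (@Bool.rec (fun _ => ℕ) (t5716_5727 i) (t5727_5739 i) (Nat.ble (nat_lit 5727) i)) (@Bool.rec (fun _ => ℕ) (t5739_5750 i) (t5750_5762 i) (Nat.ble (nat_lit 5750) i)) (Nat.ble (nat_lit 5739) i)) (@Bool.rec (fun _ => ℕ) (@Bool.rec (fun _ => ℕ) (t5762_5773 i) (t5773_5785 i) (Nat.ble (nat_lit 5773) i)) (@Bool.rec (fun _ => ℕ) (t5785_5796 i) (t5796_5808 i) (Nat.ble (nat_lit 5796) i)) (Nat.ble (nat_lit 5785) i)) (Nat.ble (nat_lit 5762) i))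
noncomputable def t5811_5813 (i : ℕ) : ℕ := (@Bool.rec (fun _ => ℕ) l5811 l5812 (Nat.ble (nat_lit 5812) i))
noncomputable def t5814_5816 (i : ℕ) : ℕ := (@Bool.rec (fun _ => ℕ) l5814 l5815 (Nat.ble (nat_lit 5815) i))
noncomputable def t5817_5819 (i : ℕ) : ℕ := (@Bool.rec (fun _ => ℕ) l5817 l5818 (Nat.ble (nat_lit 5818) i))
noncomputable def t5808_5819 (i : ℕ) : ℕ := (@Bool.rec (fun _ => ℕ) (@Bool.rec (fun _ => ℕ) (@Bool.rec (fun _ => ℕ) l5808 l5809 (Nat.ble (nat_lit 5809) i)) (@Bool.rec (fun _ => ℕ) l5810 (t5811_5813 i) (Nat.ble (nat_lit 5811) i)) (Nat.ble (nat_lit 5810) i)) (@Bool.rec (fun _ => ℕ) (@Bool.rec (fun _ => ℕ) l5813 (t5814_5816 i) (Nat.ble (nat_lit 5814) i)) (@Bool.rec (fun _ => ℕ) l5816 (t5817_5819 i) (Nat.ble (nat_lit 5817) i)) (Nat.ble (nat_lit 5816) i)) (Nat.ble (nat_lit 5813) i))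
noncomputable def t5820_5822 (i : ℕ) : ℕ := (@Bool.rec (fun _ => ℕ) l5820 l5821 (Nat.ble (nat_lit 5821) i))
noncomputable def t5823_5825 (i : ℕ) : ℕ := (@Bool.rec (fun _ => ℕ) l5823 l5824 (Nat.ble (nat_lit 5824) i))
noncomputable def t5826_5828 (i : ℕ) : ℕ := (@Bool.rec (fun _ => ℕ) l5826 l5827 (Nat.ble (nat_lit 5827) i))
noncomputable def t5829_5831 (i : ℕ) : ℕ := (@Bool.rec (fun _ => ℕ) l5829 l5830 (Nat.ble (nat_lit 5830) i))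
noncomputable def t5819_5831 (i : ℕ) : ℕ := (@Bool.rec (fun _ => ℕ) (@Bool.rec (fun _ => ℕ) (@Bool.rec (fun _ => ℕ) l5819 (t5820_5822 i) (Nat.ble (nat_lit 5820) i)) (@Bool.rec (fun _ => ℕ) l5822 (t5823_5825 i) (Nat.ble (nat_lit 5823) i)) (Nat.ble (nat_lit 5822) i)) (@Bool.rec (fun _ => ℕ) (@Bool.rec (fun _ => ℕ) l5825 (t5826_5828 i) (Nat.ble (nat_lit 5826) i)) (@Bool.rec (fun _ => ℕ) l5828 (t5829_5831 i) (Nat.ble (nat_lit 5829) i)) (Nat.ble (nat_lit 5828) i)) (Nat.ble (nat_lit 5825) i))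
noncomputable def t5834_5836 (i : ℕ) : ℕ := (@Bool.rec (fun _ => ℕ) l5834 l5835 (Nat.ble (nat_lit 5835) i))
noncomputable def t5837_5839 (i : ℕ) : ℕ := (@Bool.rec (fun _ => ℕ) l5837 l5838 (Nat.ble (nat_lit 5838) i))
noncomputable def t5840_5842 (i : ℕ) : ℕ := (@Bool.rec (fun _ => ℕ) l5840 l5841 (Nat.ble (nat_lit 5841) i))
noncomputable def t5831_5842 (i : ℕ) : ℕ := (@Bool.rec (fun _ => ℕ) (@Bool.rec (fun _ => ℕ) (@Bool.rec (fun _ => ℕ) l5831 l5832 (Nat.ble (nat_lit 5832) i)) (@Bool.rec (fun _ => ℕ) l5833 (t5834_5836 i) (Nat.ble (nat_lit 5834) i)) (Nat.ble (nat_lit 5833) i)) (@Bool.rec (fun _ => ℕ) (@Bool.rec (fun _ => ℕ) l5836 (t5837_5839 i) (Nat.ble (nat_lit 5837) i)) (@Bool.rec (fun _ => ℕ) l5839 (t5840_5842 i) (Nat.ble (nat_lit 5840) i)) (Nat.ble (nat_lit 5839) i)) (Nat.ble (nat_lit 5836) i))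
noncomputable def t5843_5845 (i : ℕ) : ℕ := (@Bool.rec (fun _ => ℕ) l5843 l5844 (Nat.ble (nat_lit 5844) i))
noncomputable def t5846_5848 (i : ℕ) : ℕ := (@Bool.rec (fun _ => ℕ) l5846 l5847 (Nat.ble (nat_lit 5847) i))
noncomputable def t5849_5851 (i : ℕ) : ℕ := (@Bool.rec (fun _ => ℕ) l5849 l5850 (Nat.ble (nat_lit 5850) i))
noncomputable def t5852_5854 (i : ℕ) : ℕ := (@Bool.rec (fun _ => ℕ) l5852 l5853 (Nat.ble (nat_lit 5853) i))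
noncomputable def t5842_5854 (i : ℕ) : ℕ := (@Bool.rec (fun _ => ℕ) (@Bool.rec (fun _ => ℕ) (@Bool.rec (fun _ => ℕ) l5842 (t5843_5845 i) (Nat.ble (nat_lit 5843) i)) (@Bool.rec (fun _ => ℕ) l5845 (t5846_5848 i) (Nat.ble (nat_lit 5846) i)) (Nat.ble (nat_lit 5845) i)) (@Bool.rec (fun _ => ℕ) (@Bool.rec (fun _ => ℕ) l5848 (t5849_5851 i) (Nat.ble (nat_lit 5849) i)) (@Bool.rec (fun _ => ℕ) l5851 (t5852_5854 i) (Nat.ble (nat_lit 5852) i)) (Nat.ble (nat_lit 5851) i)) (Nat.ble (nat_lit 5848) i))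
noncomputable def t5857_5859 (i : ℕ) : ℕ := (@Bool.rec (fun _ => ℕ) l5857 l5858 (Nat.ble (nat_lit 5858) i))
noncomputable def t5860_5862 (i : ℕ) : ℕ := (@Bool.rec (fun _ => ℕ) l5860 l5861 (Nat.ble (nat_lit 5861) i))
noncomputable def t5863_5865 (i : ℕ) : ℕ := (@Bool.rec (fun _ => ℕ) l5863 l5864 (Nat.ble (nat_lit 5864) i))
noncomputable def t5854_5865 (i : ℕ) : ℕ := (@Bool.rec (fun _ => ℕ) (@Bool.rec (fun _ => ℕ) (@Bool.rec (fun _ => ℕ) l5854 l5855 (Nat.ble (nat_lit 5855) i)) (@Bool.rec (fun _ => ℕ) l5856 (t5857_5859 i) (Nat.ble (nat_lit 5857) i)) (Nat.ble (nat_lit 5856) i)) (@Bool.rec (fun _ => ℕ) (@Bool.rec (fun _ => ℕ) l5859 (t5860_5862 i) (Nat.ble (nat_lit 5860) i)) (@Bool.rec (fun _ => ℕ) l5862 (t5863_5865 i) (Nat.ble (nat_lit 5863) i)) (Nat.ble (nat_lit 5862) i)) (Nat.ble (nat_lit 5859) i))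
noncomputable def t5866_5868 (i : ℕ) : ℕ := (@Bool.rec (fun _ => ℕ) l5866 l5867 (Nat.ble (nat_lit 5867) i))
noncomputable def t5869_5871 (i : ℕ) : ℕ := (@Bool.rec (fun _ => ℕ) l5869 l5870 (Nat.ble (nat_lit 5870) i))
noncomputable def t5872_5874 (i : ℕ) : ℕ := (@Bool.rec (fun _ => ℕ) l5872 l5873 (Nat.ble (nat_lit 5873) i))
noncomputable def t5875_5877 (i : ℕ) : ℕ := (@Bool.rec (fun _ => ℕ) l5875 l5876 (Nat.ble (nat_lit 5876) i))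
noncomputable def t5865_5877 (i : ℕ) : ℕ := (@Bool.rec (fun _ => ℕ) (@Bool.rec (fun _ => ℕ) (@Bool.rec (fun _ => ℕ) l5865 (t5866_5868 i) (Nat.ble (nat_lit 5866) i)) (@Bool.rec (fun _ => ℕ) l5868 (t5869_5871 i) (Nat.ble (nat_lit 5869) i)) (Nat.ble (nat_lit 5868) i)) (@Bool.rec (fun _ => ℕ) (@Bool.rec (fun _ => ℕ) l5871 (t5872_5874 i) (Nat.ble (nat_lit 5872) i)) (@Bool.rec (fun _ => ℕ) l5874 (t5875_5877 i) (Nat.ble (nat_lit 5875) i)) (Nat.ble (nat_lit 5874) i)) (Nat.ble (nat_lit 5871) i))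
noncomputable def t5878_5880 (i : ℕ) : ℕ := (@Bool.rec (fun _ => ℕ) l5878 l5879 (Nat.ble (nat_lit 5879) i))
noncomputable def t5881_5883 (i : ℕ) : ℕ := (@Bool.rec (fun _ => ℕ) l5881 l5882 (Nat.ble (nat_lit 5882) i))
noncomputable def t5884_5886 (i : ℕ) : ℕ := (@Bool.rec (fun _ => ℕ) l5884 l5885 (Nat.ble (nat_lit 5885) i))
noncomputable def t5887_5889 (i : ℕ) : ℕ := (@Bool.rec (fun _ => ℕ) l5887 l5888 (Nat.ble (nat_lit 5888) i))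
noncomputable def t5877_5889 (i : ℕ) : ℕ := (@Bool.rec (fun _ => ℕ) (@Bool.rec (fun _ => ℕ) (@Bool.rec (fun _ => ℕ) l5877 (t5878_5880 i) (Nat.ble (nat_lit 5878) i)) (@Bool.rec (fun _ => ℕ) l5880 (t5881_5883 i) (Nat.ble (nat_lit 5881) i)) (Nat.ble (nat_lit 5880) i)) (@Bool.rec (fun _ => ℕ) (@Bool.rec (fun _ => ℕ) l5883 (t5884_5886 i) (Nat.ble (nat_lit 5884) i)) (@Bool.rec (fun _ => ℕ) l5886 (t5887_5889 i) (Nat.ble (nat_lit 5887) i)) (Nat.ble (nat_lit 5886) i)) (Nat.ble (nat_lit 5883) i))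
noncomputable def t5890_5892 (i : ℕ) : ℕ := (@Bool.rec (fun _ => ℕ) l5890 l5891 (Nat.ble (nat_lit 5891) i))
noncomputable def t5893_5895 (i : ℕ) : ℕ := (@Bool.rec (fun _ => ℕ) l5893 l5894 (Nat.ble (nat_lit 5894) i))
noncomputable def t5896_5898 (i : ℕ) : ℕ := (@Bool.rec (fun _ => ℕ) l5896 l5897 (Nat.ble (nat_lit 5897) i))
noncomputable def t5899_5901 (i : ℕ) : ℕ := (@Bool.rec (fun _ => ℕ) l5899 l5900 (Nat.ble (nat_lit 5900) i))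
noncomputable def t5889_5901 (i : ℕ) : ℕ := (@Bool.rec (fun _ => ℕ) (@Bool.rec (fun _ => ℕ) (@Bool.rec (fun _ => ℕ) l5889 (t5890_5892 i) (Nat.ble (nat_lit 5890) i)) (@Bool.rec (fun _ => ℕ) l5892 (t5893_5895 i) (Nat.ble (nat_lit 5893) i)) (Nat.ble (nat_lit 5892) i)) (@Bool.rec (fun _ => ℕ) (@Bool.rec (fun _ => ℕ) l5895 (t5896_5898 i) (Nat.ble (nat_lit 5896) i)) (@Bool.rec (fun _ => ℕ) l5898 (t5899_5901 i) (Nat.ble (nat_lit 5899) i)) (Nat.ble (nat_lit 5898) i)) (Nat.ble (nat_lit 5895) i))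
noncomputable def t5808_5901 (i : ℕ) : ℕ := (@Bool.rec (fun _ => ℕ) (@Bool.rec (fun _ => ℕ) (@Bool.rec (fun _ => ℕ) (t5808_5819 i) (t5819_5831 i) (Nat.ble (nat_lit 5819) i)) (@Bool.rec (fun _ => ℕ) (t5831_5842 i) (t5842_5854 i) (Nat.ble (nat_lit 5842) i)) (Nat.ble (nat_lit 5831) i)) (@Bool.rec (fun _ => ℕ) (@Bool.rec (fun _ => ℕ) (t5854_5865 i) (t5865_5877 i) (Nat.ble (nat_lit 5865) i)) (@Bool.rec (fun _ => ℕ) (t5877_5889 i) (t5889_5901 i) (Nat.ble (nat_lit 5889) i)) (Nat.ble (nat_lit 5877) i)) (Nat.ble (nat_lit 5854) i))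
noncomputable def t5163_5901 (i : ℕ) : ℕ := (@Bool.rec (fun _ => ℕ) (@Bool.rec (fun _ => ℕ) (@Bool.rec (fun _ => ℕ) (t5163_5255 i) (t5255_5347 i) (Nat.ble (nat_lit 5255) i)) (@Bool.rec (fun _ => ℕ) (t5347_5439 i) (t5439_5532 i) (Nat.ble (nat_lit 5439) i)) (Nat.ble (nat_lit 5347) i)) (@Bool.rec (fun _ => ℕ) (@Bool.rec (fun _ => ℕ) (t5532_5624 i) (t5624_5716 i) (Nat.ble (nat_lit 5624) i)) (@Bool.rec (fun _ => ℕ) (t5716_5808 i) (t5808_5901 i) (Nat.ble (nat_lit 5808) i)) (Nat.ble (nat_lit 5716) i)) (Nat.ble (nat_lit 5532) i))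
noncomputable def T (i : ℕ) : ℕ := (@Bool.rec (fun _ => ℕ) (@Bool.rec (fun _ => ℕ) (@Bool.rec (fun _ => ℕ) (t0_737 i) (t737_1475 i) (Nat.ble (nat_lit 737) i)) (@Bool.rec (fun _ => ℕ) (t1475_2212 i) (t2212_2950 i) (Nat.ble (nat_lit 2212) i)) (Nat.ble (nat_lit 1475) i)) (@Bool.rec (fun _ => ℕ) (@Bool.rec (fun _ => ℕ) (t2950_3687 i) (t3687_4425 i) (Nat.ble (nat_lit 3687) i)) (@Bool.rec (fun _ => ℕ) (t4425_5163 i) (t5163_5901 i) (Nat.ble (nat_lit 5163) i)) (Nat.ble (nat_lit 4425) i)) (Nat.ble (nat_lit 2950) i))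
noncomputable def r0_5 (i : ℕ) : ℕ := (@Bool.rec (fun _ => ℕ) (@Bool.rec (fun _ => ℕ) (nat_lit 0x0) (nat_lit 0x2) (Nat.ble (nat_lit 1) i)) (@Bool.rec (fun _ => ℕ) (nat_lit 0x111102) (@Bool.rec (fun _ => ℕ) (nat_lit 0x222202) (nat_lit 0x333302) (Nat.ble (nat_lit 4) i)) (Nat.ble (nat_lit 3) i)) (Nat.ble (nat_lit 2) i))
noncomputable def r5_10 (i : ℕ) : ℕ := (@Bool.rec (fun _ => ℕ) (@Bool.rec (fun _ => ℕ) (nat_lit 0x444402) (nat_lit 0x555502) (Nat.ble (nat_lit 6) i)) (@Bool.rec (fun _ => ℕ) (nat_lit 0x767602) (@Bool.rec (fun _ => ℕ) (nat_lit 0x676702) (nat_lit 0x25252525252506) (Nat.ble (nat_lit 9) i)) (Nat.ble (nat_lit 8) i)) (Nat.ble (nat_lit 7) i))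
noncomputable def r10_15 (i : ℕ) : ℕ := (@Bool.rec (fun _ => ℕ) (@Bool.rec (fun _ => ℕ) (nat_lit 0x2020202004) (nat_lit 0x2121212104) (Nat.ble (nat_lit 11) i)) (@Bool.rec (fun _ => ℕ) (nat_lit 0x2424242404) (@Bool.rec (fun _ => ℕ) (nat_lit 0x2323232304) (nat_lit 0x50505050505006) (Nat.ble (nat_lit 14) i)) (Nat.ble (nat_lit 13) i)) (Nat.ble (nat_lit 12) i))
noncomputable def r15_20 (i : ℕ) : ℕ := (@Bool.rec (fun _ => ℕ) (@Bool.rec (fun _ => ℕ) (nat_lit 0x5151515104) (nat_lit 0x5454545404) (Nat.ble (nat_lit 16) i)) (@Bool.rec (fun _ => ℕ) (nat_lit 0x5353535304) (@Bool.rec (fun _ => ℕ) (nat_lit 0x101010101010101010101010101010110) (nat_lit 0x404040404) (Nat.ble (nat_lit 19) i)) (Nat.ble (nat_lit 18) i)) (Nat.ble (nat_lit 17) i))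
noncomputable def r20_25 (i : ℕ) : ℕ := (@Bool.rec (fun _ => ℕ) (@Bool.rec (fun _ => ℕ) (nat_lit 0x303030304) (nat_lit 0x14141414141406) (Nat.ble (nat_lit 21) i)) (@Bool.rec (fun _ => ℕ) (nat_lit 0x1313131304) (@Bool.rec (fun _ => ℕ) (nat_lit 0x43434343434306) (nat_lit 0x2377237704) (Nat.ble (nat_lit 24) i)) (Nat.ble (nat_lit 23) i)) (Nat.ble (nat_lit 22) i))
noncomputable def r25_30 (i : ℕ) : ℕ := (@Bool.rec (fun _ => ℕ) (@Bool.rec (fun _ => ℕ) (nat_lit 0x6632663204) (nat_lit 0x231010101023101010100a) (Nat.ble (nat_lit 26) i)) (@Bool.rec (fun _ => ℕ) (nat_lit 0x10101013201010101320a) (@Bool.rec (fun _ => ℕ) (nat_lit 0x71710161607171016160a) (nat_lit 0x170701060617070106060a) (Nat.ble (nat_lit 29) i)) (Nat.ble (nat_lit 28) i)) (Nat.ble (nat_lit 27) i))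
noncomputable def r30_35 (i : ℕ) : ℕ := (@Bool.rec (fun _ => ℕ) (@Bool.rec (fun _ => ℕ) (nat_lit 0x501650165016501650165016501650165016501614) (nat_lit 0x710571057105710571057105710571057105710514) (Nat.ble (nat_lit 31) i)) (@Bool.rec (fun _ => ℕ) (nat_lit 0x65060565060650605650600b) (@Bool.rec (fun _ => ℕ) (nat_lit 0x7057507057070575070570b) (nat_lit 0x64161464161641614641610b) (Nat.ble (nat_lit 34) i)) (Nat.ble (nat_lit 33) i)) (Nat.ble (nat_lit 32) i))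
noncomputable def r35_41 (i : ℕ) : ℕ := (@Bool.rec (fun _ => ℕ) (@Bool.rec (fun _ => ℕ) (nat_lit 0x17147417147171474171470b) (@Bool.rec (fun _ => ℕ) (nat_lit 0x1) (nat_lit 0x1101) (Nat.ble (nat_lit 37) i)) (Nat.ble (nat_lit 36) i)) (@Bool.rec (fun _ => ℕ) (nat_lit 0x2201) (@Bool.rec (fun _ => ℕ) (nat_lit 0x4401) (nat_lit 0x5501) (Nat.ble (nat_lit 40) i)) (Nat.ble (nat_lit 39) i)) (Nat.ble (nat_lit 38) i))
noncomputable def RT (i : ℕ) : ℕ := (@Bool.rec (fun _ => ℕ) (@Bool.rec (fun _ => ℕ) (@Bool.rec (fun _ => ℕ) (r0_5 i) (r5_10 i) (Nat.ble (nat_lit 5) i)) (@Bool.rec (fun _ => ℕ) (r10_15 i) (r15_20 i) (Nat.ble (nat_lit 15) i)) (Nat.ble (nat_lit 10) i)) (@Bool.rec (fun _ => ℕ) (@Bool.rec (fun _ => ℕ) (r20_25 i) (r25_30 i) (Nat.ble (nat_lit 25) i)) (@Bool.rec (fun _ => ℕ) (r30_35 i) (r35_41 i) (Nat.ble (nat_lit 35) i)) (Nat.ble (nat_lit 30) i))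 (Nat.ble (nat_lit 20) i))
def S : List ℕ := [0x1, 0x1101, 0x2201, 0x3301, 0x4401, 0x5501]

end CfsgH7.ON.E7
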